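import Cfsg.Agent.Lib.Plane.Basic

/-!
Central collineations: axes, centres, elations, and counting of perspectivities with one axis.
-/

set_option autoImplicit false
set_option linter.unusedSectionVars false
set_option linter.style.haveILetI false

namespace Cfsg.Agent.OW

open Configuration

variable {P L : Type*} [Membership P L] [ProjectivePlane P L] [Finite P] [Finite L]

/-- The collineation fixes every point of the line. -/
def IsAxis (g : Coll P L) (l : L) : Prop := ∀ p : P, p ∈ l → g • p = p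

/-- The collineation fixes every line through the point. -/
def IsCenter (g : Coll P L) (c : P) : Prop := ∀ l : L, c ∈ l → g • l = l

theorem IsAxis.smul_line {g : Coll P L} {l : L} (h : IsAxis g l) : g • l = l := by
  obtain ⟨a, ha, -⟩ := exists_mem_ne l (Classical.choose (exists_not_mem (P := P) l))
  obtain ⟨b, hb, hba⟩ := exists_mem_ne l a
  exact smul_line_eq hba hb ha (by rw [h b hb]; exact hb) (by rw [h a ha]; exact ha)

theorem IsCenter.smul_point {g : Coll P L} {c : P} (h : IsCenter g c) : g • c = c :=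
  IsAxis.smul_line (P := Dual L) (L := Dual P) (g := dualHom P L g) (l := c) h

theorem isAxis_one (l : L) : IsAxis (1 : Coll P L) l := fun _ _ => one_smul _ _

theorem isCenter_one (c : P) : IsCenter (1 : Coll P L) c := fun _ _ => one_smul _ _

theorem exists_center {g : Coll P L} {l : L} (h : IsAxis g l) :
    ∃ c : P, IsCenter g c ∧ (c ∈ l ↔ ∀ p : P, p ∉ l → g • p ≠ p) := by
  have hl := h.smul_line
  by_cases hf : ∃ c : P, c ∉ l ∧ g • c = c
  · obtain ⟨c, hcl, hc⟩ := hf
    refine ⟨c, fun m hm => ?_, iff_of_false hcl fun hh => hh c hcl hc⟩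
    obtain ⟨d, hdm, hdl⟩ := exists_meet (P := P) (show m ≠ l from fun e => hcl (e ▸ hm))
    exact smul_line_eq (ne_of_mem_of_not_mem hdl hcl).symm hm hdm (by rw [hc]; exact hm)
      (by rw [h d hdl]; exact hdm)
  · push Not at hf
    have key : ∀ x : P, x ∉ l → ∃ m : L, x ∈ m ∧ m ≠ l ∧ g • m = m := by
      intro x hx
      obtain ⟨m, hxm, hgm⟩ := exists_line_through (L := L) (fun e : x = g • x => hf x hx e.symm)
      have hml : m ≠ l := fun e => hx (e ▸ hxm)
      obtain ⟨d, hdm, hdl⟩ := exists_meet (P := P) hml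
      exact ⟨m, hxm, hml, smul_line_eq (ne_of_mem_of_not_mem hdl hx).symm hxm hdm hgm
        (by rw [h d hdl]; exact hdm)⟩
    obtain ⟨x, hx⟩ := exists_not_mem (P := P) l
    obtain ⟨m₀, -, hm₀l, hm₀⟩ := key x hx
    obtain ⟨d, hdm₀, hdl⟩ := exists_meet (P := P) hm₀l
    refine ⟨d, fun m hm => ?_, iff_of_true hdl hf⟩
    by_cases hml : m = l
    · rw [hml]; exact hl
    obtain ⟨y, hym, hyd⟩ := exists_mem_ne m d
    have hyl : y ∉ l := fun e => hml (line_ext hyd hym hm e hdl)
    obtain ⟨m', hym', hm'l, hm'⟩ := key y hyl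
    suffices hdm' : d ∈ m' by rwa [line_ext hyd hym hm hym' hdm']
    by_cases e : m' = m₀
    · rwa [e]
    obtain ⟨z, hz1, hz2⟩ := exists_meet (P := P) e
    have hzl : z ∈ l := by
      by_contra hc
      exact hf z hc (smul_point_eq e hz1 hz2 hm' hm₀)
    rwa [point_ext hm₀l hdm₀ hz2 hdl hzl]

theorem exists_axis {g : Coll P L} {c : P} (h : IsCenter g c) : ∃ l : L, IsAxis g l :=
  let ⟨l, hl, _⟩ := exists_center (P := Dual L) (L := Dual P) (g := dualHom P L g) (l := c) h
  ⟨l, hl⟩

/-- A central collineation with a further fixed point is trivial. -/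
theorem eq_one_of_fixed {g : Coll P L} {l : L} {c x : P} (ha : IsAxis g l) (hc : IsCenter g c)
    (hxl : x ∉ l) (hxc : x ≠ c) (hx : g • x = x) : g = 1 := by
  obtain ⟨j, hcj, hxj⟩ := exists_line_through (L := L) (Ne.symm hxc)
  have off : ∀ y : P, y ∉ j → g • y = y := by
    intro y hyj
    by_cases hyl : y ∈ l
    · exact ha y hyl
    obtain ⟨m, hxm, hym⟩ := exists_line_through (L := L) (fun e : x = y => hyj (e ▸ hxj))
    obtain ⟨k, hck, hyk⟩ := exists_line_through (L := L) (fun e : c = y => hyj (e ▸ hcj))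
    have hmk : m ≠ k := fun e => hyj (line_ext hxc hxm (e ▸ hck) hxj hcj ▸ hym)
    have hml : m ≠ l := fun e => hxl (e ▸ hxm)
    obtain ⟨d, hdm, hdl⟩ := exists_meet (P := P) hml
    refine smul_point_eq hmk hym hyk ?_ (hc k hck)
    exact smul_line_eq (ne_of_mem_of_not_mem hdl hxl).symm hxm hdm (by rw [hx]; exact hxm)
      (by rw [ha d hdl]; exact hdm)
  refine eq_one_of_fix_all fun y => ?_
  by_cases hyj : y ∈ j
  · by_cases hyl : y ∈ l
    · exact ha y hyl
    obtain ⟨k, hyk, hkj⟩ := exists_through_ne y j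
    obtain ⟨z, hzk, hzy⟩ := exists_mem_ne k y
    have hzj : z ∉ j := fun e => hkj (line_ext hzy hzk hyk e hyj)
    have hkl : k ≠ l := fun e => hyl (e ▸ hyk)
    obtain ⟨d, hdk, hdl⟩ := exists_meet (P := P) hkl
    refine smul_point_eq hkj hyk hyj ?_ (hc j hcj)
    by_cases hzd : z = d
    · subst hzd
      obtain ⟨w, hwk, hwy, hwz⟩ := exists_mem_ne₂ k y z
      have hwj : w ∉ j := fun e => hkj (line_ext hwy hwk hyk e hyj)
      exact smul_line_eq hwz hwk hzk (by rw [off w hwj]; exact hwk) (by rw [off z hzj]; exact hzk)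
    · exact smul_line_eq hzd hzk hdk (by rw [off z hzj]; exact hzk) (by rw [ha d hdl]; exact hdk)
  · exact off y hyj

theorem center_unique {g : Coll P L} {c c' : P} (h : IsCenter g c) (h' : IsCenter g c')
    (hg : g ≠ 1) : c = c' := by
  by_contra hcc
  obtain ⟨j, hcj, hc'j⟩ := exists_line_through (L := L) hcc
  obtain ⟨l, hl⟩ := exists_axis h
  refine hg ?_
  have off : ∀ y : P, y ∉ j → g • y = y := by
    intro y hyj
    obtain ⟨m, hcm, hym⟩ := exists_line_through (L := L) (fun e : c = y => hyj (e ▸ hcj))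
    obtain ⟨k, hc'k, hyk⟩ := exists_line_through (L := L) (fun e : c' = y => hyj (e ▸ hc'j))
    exact smul_point_eq (fun e : m = k => hyj (line_ext hcc hcm (e ▸ hc'k) hcj hc'j ▸ hym))
      hym hyk (h m hcm) (h' k hc'k)
  obtain ⟨x, hx⟩ : ∃ x : P, x ∉ l ∧ x ∉ j := by
    obtain ⟨m, -, hml⟩ := exists_through_ne (L := L) c l
    by_cases hlj : j = l
    · obtain ⟨x, hx⟩ := exists_not_mem (P := P) l
      exact ⟨x, hx, hlj ▸ hx⟩
    obtain ⟨d, hdj, hdl⟩ := exists_meet (P := P) hlj
    obtain ⟨k, hdk, hkj⟩ : ∃ k : L, d ∈ k ∧ k ≠ j ∧ k ≠ l :=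
      exists_mem_ne₂ (P := Dual L) (L := Dual P) d j l
    obtain ⟨x, hxk, hxd⟩ := exists_mem_ne k d
    exact ⟨x, fun e => hkj.2 (line_ext hxd hxk hdk e hdl),
      fun e => hkj.1 (line_ext hxd hxk hdk e hdj)⟩
  exact eq_one_of_fixed hl h hx.1 (fun e => hx.2 (e ▸ hcj)) (off x hx.2)

theorem axis_unique {g : Coll P L} {l l' : L} (h : IsAxis g l) (h' : IsAxis g l') (hg : g ≠ 1) :
    l = l' :=
  center_unique (P := Dual L) (L := Dual P) (g := dualHom P L g) (c := l) (c' := l') h h'
    fun e => hg (dualHom_injective (e.trans (map_one _).symm))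

/-- Off the axis only the centre is fixed. -/
theorem center_eq_of_fixed {g : Coll P L} {l : L} {c x : P} (ha : IsAxis g l) (hc : IsCenter g c)
    (hg : g ≠ 1) (hxl : x ∉ l) (hx : g • x = x) : x = c := by
  by_contra h
  exact hg (eq_one_of_fixed ha hc hxl h hx)

/-- The point, its image and the centre are collinear. -/
theorem IsCenter.mem_line {g : Coll P L} {c x : P} {m : L} (hc : IsCenter g c) (hm : c ∈ m)
    (hx : x ∈ m) : g • x ∈ m := by
  have h := (smul_mem_smul g x m).mpr hx
  rwa [hc m hm] at h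

theorem isAxis_conj {g : Coll P L} {l : L} (h : IsAxis g l) (k : Coll P L) :
    IsAxis (k * g * k⁻¹) (k • l) := fun p hp => by
  rw [mul_smul, mul_smul, h _ ((mem_smul_line k p l).mp hp), smul_inv_smul]

theorem isCenter_conj {g : Coll P L} {c : P} (h : IsCenter g c) (k : Coll P L) :
    IsCenter (k * g * k⁻¹) (k • c) := fun m hm => by
  have : c ∈ k⁻¹ • m := by rw [mem_smul_line, inv_inv]; exact hm
  rw [mul_smul, mul_smul, h _ this, smul_inv_smul]

variable (P) in
/-- The collineations with the given axis. -/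
def axGroup (l : L) : Subgroup (Coll P L) where
  carrier := {g | IsAxis g l}
  one_mem' := isAxis_one l
  mul_mem' := fun {g h} hg hh p hp => by rw [mul_smul, hh p hp, hg p hp]
  inv_mem' := fun {g} hg p hp => by
    conv_lhs => rw [← hg p hp]
    exact inv_smul_smul g p

variable (L) in
/-- The collineations with the given centre. -/
def ceGroup (c : P) : Subgroup (Coll P L) where
  carrier := {g | IsCenter g c}
  one_mem' := isCenter_one c
  mul_mem' := fun {g h} hg hh m hm => by rw [mul_smul, hh m hm, hg m hm]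
  inv_mem' := fun {g} hg m hm => by
    conv_lhs => rw [← hg m hm]
    exact inv_smul_smul g m

theorem elation_center {g : Coll P L} {l : L} (ha : IsAxis g l)
    (hf : g = 1 ∨ ∀ p : P, p ∉ l → g • p ≠ p) : ∃ c : P, c ∈ l ∧ IsCenter g c := by
  rcases hf with rfl | hf
  · obtain ⟨a, ha, -⟩ := exists_mem_ne l (Classical.choose (exists_not_mem (P := P) l))
    exact ⟨a, ha, isCenter_one a⟩
  · obtain ⟨c, hc, hiff⟩ := exists_center ha
    exact ⟨c, hiff.mpr hf, hc⟩

variable (P) in
/-- The elations with the given axis. -/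
def elGroup (l : L) : Subgroup (Coll P L) where
  carrier := {g | IsAxis g l ∧ (g = 1 ∨ ∀ p : P, p ∉ l → g • p ≠ p)}
  one_mem' := ⟨isAxis_one l, Or.inl rfl⟩
  mul_mem' := fun {g h} hg hh => by
    refine ⟨(axGroup P l).mul_mem hg.1 hh.1, ?_⟩
    by_cases hgh : g * h = 1
    · exact Or.inl hgh
    refine Or.inr fun x hx e => hgh ?_
    obtain ⟨c, hcl, hc⟩ := elation_center hg.1 hg.2
    obtain ⟨d, hdl, hd⟩ := elation_center hh.1 hh.2
    rw [mul_smul] at e
    by_cases hcd : c = d
    · subst hcd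
      exact eq_one_of_fixed (c := c) ((axGroup P l).mul_mem hg.1 hh.1)
        ((ceGroup L c).mul_mem hc hd) hx (fun h' => hx (h' ▸ hcl)) (by rw [mul_smul]; exact e)
    by_cases hy : h • x = x
    · have hh1 := eq_one_of_fixed hh.1 hd hx (fun h' => hx (h' ▸ hdl)) hy
      rw [hy] at e
      rw [hh1, eq_one_of_fixed hg.1 hc hx (fun h' => hx (h' ▸ hcl)) e, mul_one]
    obtain ⟨j, hdj, hxj⟩ := exists_line_through (L := L) (fun e' : d = x => hx (e' ▸ hdl))
    obtain ⟨k, hck, hxk⟩ := exists_line_through (L := L) (fun e' : c = x => hx (e' ▸ hcl))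
    have hyj := hd.mem_line hdj hxj
    have hgk := hc k hck
    have hyk : h • x ∈ k := by
      rw [← smul_mem_smul g (h • x) k, e, hgk]
      exact hxk
    have hjk : j = k := line_ext hy hyj hxj hyk hxk
    exact absurd (line_ext hcd (hjk ▸ hck) hdj hcl hdl ▸ hxj) hx
  inv_mem' := fun {g} hg => by
    refine ⟨(axGroup P l).inv_mem hg.1, hg.2.imp (fun e => by rw [e, inv_one]) fun hf p hp e => ?_⟩
    exact hf p hp (inv_smul_eq_iff.mp e).symm

theorem mem_elGroup_of_center {g : Coll P L} {l : L} {c : P} (ha : IsAxis g l) (hc : IsCenter g c)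
    (hcl : c ∈ l) : g ∈ elGroup P l :=
  ⟨ha, or_iff_not_imp_left.mpr fun hg p hp e =>
    hg (eq_one_of_fixed ha hc hp (fun h => hp (h ▸ hcl)) e)⟩

theorem mem_elGroup_iff {g : Coll P L} {l : L} :
    g ∈ elGroup P l ↔ IsAxis g l ∧ ∃ c : P, c ∈ l ∧ IsCenter g c :=
  ⟨fun h => ⟨h.1, elation_center h.1 h.2⟩, fun ⟨ha, _, hcl, hc⟩ => mem_elGroup_of_center ha hc hcl⟩

theorem elGroup_le_axGroup (l : L) : elGroup P l ≤ axGroup P l := fun _ h => h.1

/-- The elations with given centre and axis. -/
def flGroup (c : P) (l : L) : Subgroup (Coll P L) := axGroup P l ⊓ ceGroup L c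

theorem mem_flGroup {g : Coll P L} {c : P} {l : L} :
    g ∈ flGroup c l ↔ IsAxis g l ∧ IsCenter g c := Iff.rfl

theorem flGroup_conj {g k : Coll P L} {c : P} {l : L} (h : g ∈ flGroup c l) :
    k * g * k⁻¹ ∈ flGroup (k • c) (k • l) :=
  ⟨isAxis_conj h.1 k, isCenter_conj h.2 k⟩

theorem flGroup_disjoint {g : Coll P L} {c d : P} {l : L} (hcd : c ≠ d) (h1 : g ∈ flGroup c l)
    (h2 : g ∈ flGroup d l) : g = 1 :=
  by_contra fun hg => hcd (center_unique h1.2 h2.2 hg)

theorem elation_comm {a b : Coll P L} {c d : P} {l : L} (hcd : c ≠ d) (hc : c ∈ l) (hd : d ∈ l)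
    (ha : a ∈ flGroup c l) (hb : b ∈ flGroup d l) : a * b = b * a := by
  have h1 : a * b * a⁻¹ * b⁻¹ ∈ flGroup d l := by
    refine mul_mem ?_ (inv_mem hb)
    have h := flGroup_conj (k := a) hb
    rwa [ha.1 d hd, (ha.1).smul_line] at h
  have h2 : a * b * a⁻¹ * b⁻¹ ∈ flGroup c l := by
    rw [show a * b * a⁻¹ * b⁻¹ = a * (b * a⁻¹ * b⁻¹) by group]
    refine mul_mem ha ?_
    have h := flGroup_conj (k := b) (inv_mem ha)
    rwa [hb.1 c hc, (hb.1).smul_line] at h
  have h := flGroup_disjoint hcd h2 h1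
  calc a * b = (a * b * a⁻¹ * b⁻¹) * (b * a) := by group
    _ = b * a := by rw [h, one_mul]

/-- A group of elations with one axis and at least two centres is elementary abelian. -/
theorem elation_elementary {A : Subgroup (Coll P L)} {l : L} (hA : A ≤ elGroup P l)
    {a b : Coll P L} {c d : P} (haA : a ∈ A) (hbA : b ∈ A) (ha1 : a ≠ 1) (hb1 : b ≠ 1)
    (hac : IsCenter a c) (hbd : IsCenter b d) (hcd : c ≠ d) :
    (∀ x ∈ A, ∀ y ∈ A, x * y = y * x) ∧ ∃ p : ℕ, p.Prime ∧ ∀ x ∈ A, x ^ p = 1 := by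
  have fl : ∀ x ∈ A, ∃ e : P, e ∈ l ∧ x ∈ flGroup e l := fun x hx =>
    let ⟨h1, e, he, h2⟩ := mem_elGroup_iff.mp (hA hx)
    ⟨e, he, h1, h2⟩
  have other : ∀ e : P, ∃ z ∈ A, z ≠ 1 ∧ ∃ f : P, f ∈ l ∧ f ≠ e ∧ z ∈ flGroup f l := by
    intro e
    obtain ⟨c', hc', hac'⟩ := fl a haA
    obtain ⟨d', hd', hbd'⟩ := fl b hbA
    by_cases h : c' = e
    · refine ⟨b, hbA, hb1, d', hd', fun h' => hcd ?_, hbd'⟩
      rw [center_unique hac hac'.2 ha1, center_unique hbd hbd'.2 hb1, h, h']
    · exact ⟨a, haA, ha1, c', hc', h, hac'⟩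
  have comm : ∀ x ∈ A, ∀ y ∈ A, x * y = y * x := by
    intro x hx y hy
    obtain ⟨e, he, hxe⟩ := fl x hx
    obtain ⟨f, hf, hyf⟩ := fl y hy
    by_cases hef : e = f
    · subst hef
      obtain ⟨z, hz, hz1, g, hg, hge, hzg⟩ := other e
      obtain ⟨r, hr, hyz⟩ := fl (y * z) (mul_mem hy hz)
      have hre : r ≠ e := fun h => hz1 (flGroup_disjoint hge hzg (by
        have h' : y⁻¹ * (y * z) ∈ flGroup e l := mul_mem (inv_mem hyf) (h ▸ hyz)
        rwa [inv_mul_cancel_left] at h'))
      have h1 := elation_comm hre.symm he hr hxe hyz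
      have h2 := elation_comm hge.symm he hg hxe hzg
      refine mul_right_cancel (b := z) ?_
      calc x * y * z = x * (y * z) := by group
        _ = y * (z * x) := by rw [h1]; group
        _ = y * x * z := by rw [← h2]; group
    · exact elation_comm hef he hf hxe hyf
  refine ⟨comm, ?_⟩
  have key : ∀ u ∈ A, u ≠ 1 → ∀ p : ℕ, u ^ p = 1 → ∀ e : P, u ∈ flGroup e l → ∀ x ∈ A,
      ∀ f : P, f ≠ e → x ∈ flGroup f l → x ^ p = 1 := by
    intro u hu hu1 p hup e hue x hx f hfe hxf
    obtain ⟨r, hr, huxr⟩ := fl (u * x) (mul_mem hu hx)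
    have hrf : r ≠ f := fun h => hu1 (flGroup_disjoint hfe.symm hue (by
      have h' : u * x * x⁻¹ ∈ flGroup f l := mul_mem (h ▸ huxr) (inv_mem hxf)
      rwa [mul_inv_cancel_right] at h'))
    refine flGroup_disjoint hrf ?_ (pow_mem hxf p)
    rw [show x ^ p = (u * x) ^ p by rw [(show Commute u x from comm u hu x hx).mul_pow, hup, one_mul]]
    exact pow_mem huxr p
  obtain ⟨e, he, hae⟩ := fl a haA
  have hoa : orderOf a ≠ 1 := fun h => ha1 (orderOf_eq_one_iff.mp h)
  obtain ⟨p, hp, hpd⟩ := Nat.exists_prime_and_dvd hoa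
  set u := a ^ (orderOf a / p) with hu
  have hup : u ^ p = 1 := by rw [hu, ← pow_mul, Nat.div_mul_cancel hpd, pow_orderOf_eq_one]
  have hu1 : u ≠ 1 := by
    intro h
    have h2 := orderOf_dvd_of_pow_eq_one h
    have hpos := (isOfFinOrder_of_finite a).orderOf_pos
    exact absurd (Nat.le_of_dvd (Nat.div_pos (Nat.le_of_dvd hpos hpd) hp.pos) h2)
      (not_le.mpr (Nat.div_lt_self hpos hp.one_lt))
  refine ⟨p, hp, fun x hx => ?_⟩
  obtain ⟨f, hf, hxf⟩ := fl x hx
  by_cases hfe : f = e
  · subst hfe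
    obtain ⟨z, hz, hz1, g, hg, hge, hzg⟩ := other f
    exact key z hz hz1 p (key u (pow_mem haA _) hu1 p hup f (pow_mem hae _) z hz g hge hzg) g hzg x
      hx f hge.symm hxf
  · exact key u (pow_mem haA _) hu1 p hup e (pow_mem hae _) x hx f hfe hxf

/-- Semiregular groups have orders dividing the number of points. -/
theorem card_dvd_of_free {A X : Type*} [Group A] [MulAction A X] [Finite X]
    (h : ∀ (a : A) (x : X), a • x = x → a = 1) : Nat.card A ∣ Nat.card X := by
  have hs : ∀ x : X, Nat.card (MulAction.stabilizer A x) = 1 := fun x =>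
    Subgroup.eq_bot_iff_card _ |>.mp ((Subgroup.eq_bot_iff_forall _).mpr fun a ha => h a x ha)
  classical
  haveI := Fintype.ofFinite (Quotient (MulAction.orbitRel A X))
  rw [Nat.card_congr (MulAction.selfEquivSigmaOrbits A X), Nat.card_sigma]
  refine Finset.dvd_sum fun q _ => ?_
  rw [Nat.card_congr (MulAction.orbitEquivQuotientStabilizer A q.out)]
  have h2 := Subgroup.card_eq_card_quotient_mul_card_subgroup (MulAction.stabilizer A q.out)
  rw [hs, mul_one] at h2
  exact h2 ▸ dvd_rfl

/-- André's lemma: homology centres for one axis form one orbit of the elations. -/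
theorem andre {A : Subgroup (Coll P L)} {l : L} (hA : A ≤ axGroup P l) {x y : P} (hx : x ∉ l)
    (hy : y ∉ l) (gx : ∃ g ∈ A, g ≠ 1 ∧ g • x = x) (gy : ∃ g ∈ A, g ≠ 1 ∧ g • y = y) :
    ∃ e ∈ A, e ∈ elGroup P l ∧ e • x = y := by
  classical
  haveI : Fintype A := Fintype.ofFinite _
  haveI : Fintype P := Fintype.ofFinite _
  have uniq : ∀ (g : A), g ≠ 1 → ∀ u v : P, u ∉ l → v ∉ l → g • u = u → g • v = v → u = v := by
    intro g hg u v hu hv h1 h2
    obtain ⟨c, hc, -⟩ := exists_center (hA g.2)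
    have hg' : (g : Coll P L) ≠ 1 := fun e => hg (Subtype.ext e)
    rw [center_eq_of_fixed (hA g.2) hc hg' hu h1, center_eq_of_fixed (hA g.2) hc hg' hv h2]
  have offl : ∀ (g : A) (u : P), u ∉ l → g • u ∉ l := fun g u hu e => by
    have h := (mem_smul_line (g : Coll P L)⁻¹ u l).mpr (by rw [inv_inv]; exact e)
    rw [IsAxis.smul_line ((axGroup P l).inv_mem (hA g.2))] at h
    exact hu h
  let st : P → Finset A := fun u => Finset.univ.filter fun g => g ≠ 1 ∧ g • u = u
  have hst : ∀ u, (st u).card + 1 = Nat.card (MulAction.stabilizer A u) := by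
    intro u
    have h1 : insert 1 (st u) = Finset.univ.filter fun g : A => g ∈ MulAction.stabilizer A u := by
      ext g
      by_cases hg : g = 1 <;> simp [st, hg, MulAction.mem_stabilizer_iff]
    rw [← Finset.card_insert_of_notMem (show (1 : A) ∉ st u by simp [st]), h1, ← Fintype.card_subtype,
      Nat.card_eq_fintype_card]
  let O : P → Finset P := fun u => Finset.univ.filter fun v => v ∈ MulAction.orbit A u
  have hO : ∀ u v, v ∈ O u → Nat.card (MulAction.stabilizer A v) = Nat.card (MulAction.stabilizer A u) := by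
    intro u v hv
    simp only [O, Finset.mem_filter, Finset.mem_univ, true_and] at hv
    obtain ⟨g, rfl⟩ := hv
    exact (Nat.card_congr (MulAction.stabilizerEquivStabilizer (g := g) rfl).toEquiv).symm
  have hmul : ∀ u, (O u).card * Nat.card (MulAction.stabilizer A u) = Nat.card A := by
    intro u
    rw [← Fintype.card_subtype, ← Nat.card_eq_fintype_card,
      Nat.card_congr (MulAction.orbitEquivQuotientStabilizer A u),
      ← Subgroup.card_eq_card_quotient_mul_card_subgroup]
  have hsum : ∀ u, ((O u).sum fun v => (st v).card) + (O u).card = Nat.card A := by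
    intro u
    rw [← hmul u, Finset.card_eq_sum_ones, Finset.sum_mul, ← Finset.sum_add_distrib]
    refine Finset.sum_congr rfl fun v hv => ?_
    rw [hst, hO u v hv, one_mul]
  have hoff : ∀ u, u ∉ l → ∀ v ∈ O u, v ∉ l := by
    intro u hu v hv
    simp only [O, Finset.mem_filter, Finset.mem_univ, true_and] at hv
    obtain ⟨g, rfl⟩ := hv
    exact offl g u hu
  have hdisj : ∀ S : Finset P, (∀ v ∈ S, v ∉ l) → (S.biUnion st).card = S.sum fun v => (st v).card := by
    intro S hS
    refine Finset.card_biUnion fun u hu v hv huv => ?_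
    rw [Function.onFun, Finset.disjoint_left]
    intro g hg hg'
    simp only [st, Finset.mem_filter, Finset.mem_univ, true_and] at hg hg'
    exact huv (uniq g hg.1 u v (hS u hu) (hS v hv) hg.2 hg'.2)
  have hge : ∀ u, u ∉ l → (∃ g ∈ A, g ≠ 1 ∧ g • u = u) → (O u).card ≤ ((O u).sum fun v => (st v).card) := by
    intro u hu hgu
    obtain ⟨g, hg, hg1, hgu⟩ := hgu
    rw [Finset.card_eq_sum_ones]
    refine Finset.sum_le_sum fun v hv => ?_
    have h2 : 1 < Nat.card (MulAction.stabilizer A u) :=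
      Subgroup.one_lt_card_iff_ne_bot _ |>.mpr fun e => hg1 (by
        have : (⟨g, hg⟩ : A) ∈ MulAction.stabilizer A u := hgu
        rw [e, Subgroup.mem_bot] at this
        exact congrArg Subtype.val this)
    have h3 := hst v
    rw [hO u v hv] at h3
    omega
  have one : ∀ v, v ∉ l → (∃ g ∈ A, g ≠ 1 ∧ g • v = v) → v ∈ O x := by
    intro v hv gv
    by_contra hc
    have hd : Disjoint (O x) (O v) := by
      rw [Finset.disjoint_left]
      intro w h1 h2
      refine hc ?_
      simp only [O, Finset.mem_filter, Finset.mem_univ, true_and] at h1 h2 ⊢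
      rw [← MulAction.orbit_eq_iff.mpr h1, MulAction.orbit_eq_iff.mpr h2]
      exact MulAction.mem_orbit_self v
    have h1 := hdisj (O x ∪ O v) (fun w hw => (Finset.mem_union.mp hw).elim (hoff x hx w) (hoff v hv w))
    rw [Finset.sum_union hd] at h1
    have h2 : ((O x ∪ O v).biUnion st).card < Nat.card A := by
      rw [Nat.card_eq_fintype_card]
      refine Finset.card_lt_univ_of_notMem (x := 1) fun h => ?_
      obtain ⟨w, -, hw⟩ := Finset.mem_biUnion.mp h
      simp [st] at hw
    have := hsum x; have := hsum v; have := hge x hx gx; have := hge v hv gv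
    omega
  let E' : Finset A := Finset.univ.filter fun g => (g : Coll P L) ∈ elGroup P l
  have hE : E'.card = (O x).card := by
    have hc : (O x).biUnion st = E'ᶜ := by
      ext g
      simp only [Finset.mem_biUnion, E', Finset.mem_compl, Finset.mem_filter, Finset.mem_univ,
        true_and]
      constructor
      · rintro ⟨v, hv, hg⟩ he
        simp only [st, Finset.mem_filter, Finset.mem_univ, true_and] at hg
        rcases he.2 with h | h
        · exact hg.1 (Subtype.ext h)
        · exact h v (hoff x hx v hv) hg.2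
      · intro he
        have hg1 : g ≠ 1 := fun h => he (by rw [h]; exact one_mem _)
        obtain ⟨v, hv, hgv⟩ : ∃ v : P, v ∉ l ∧ g • v = v := by
          by_contra h
          push Not at h
          exact he ⟨hA g.2, Or.inr h⟩
        exact ⟨v, one v hv ⟨g, g.2, fun h => hg1 (Subtype.ext h), hgv⟩, by simp [st, hg1, hgv]⟩
    have h1 := hdisj (O x) (hoff x hx)
    rw [hc, Finset.card_compl] at h1
    have h2 := hsum x
    have h3 : E'.card ≤ Fintype.card A := Finset.card_le_univ _
    rw [Nat.card_eq_fintype_card] at h2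
    omega
  have hinj : Set.InjOn (fun g : A => g • x) E' := by
    intro g hg g' hg' e
    simp only [E', Finset.coe_filter, Finset.mem_univ, true_and, Set.mem_ofPred_eq] at hg hg'
    have h := (elGroup P l).mul_mem ((elGroup P l).inv_mem hg') hg
    have e' : ((g' : Coll P L)⁻¹ * g) • x = x := by
      rw [mul_smul]; exact inv_smul_eq_iff.mpr e
    rcases h.2 with h' | h'
    · exact Subtype.ext (inv_mul_eq_one.mp h').symm
    · exact absurd e' (h' x hx)
  have himg : E'.image (fun g : A => g • x) = O x := by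
    refine Finset.eq_of_subset_of_card_le (fun v hv => ?_) ?_
    · obtain ⟨g, -, rfl⟩ := Finset.mem_image.mp hv
      simp [O]
    · rw [Finset.card_image_of_injOn hinj, hE]
  have hy' := one y hy gy
  rw [← himg] at hy'
  obtain ⟨g, hg, hgy⟩ := Finset.mem_image.mp hy'
  exact ⟨g, g.2, (Finset.mem_filter.mp hg).2, hgy⟩

end Cfsg.Agent.OW
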