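import Mathlib

/-!
Finite projective planes: incidence helpers and collineations.
-/

set_option autoImplicit false
set_option linter.unusedSectionVars false

namespace Cfsg.Agent.OW

open Configuration

variable {P L : Type*} [Membership P L] [ProjectivePlane P L]

/-- Two distinct points on a common pair of lines force the lines to be equal. -/
theorem line_ext {p q : P} {l m : L} (hpq : p ≠ q) (h1 : p ∈ l) (h2 : q ∈ l) (h3 : p ∈ m)
    (h4 : q ∈ m) : l = m :=
  (Nondegenerate.eq_or_eq h1 h2 h3 h4).resolve_left hpq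

/-- Two distinct lines meet in at most one point. -/
theorem point_ext {p q : P} {l m : L} (hlm : l ≠ m) (h1 : p ∈ l) (h2 : q ∈ l) (h3 : p ∈ m)
    (h4 : q ∈ m) : p = q :=
  (Nondegenerate.eq_or_eq h1 h2 h3 h4).resolve_right hlm

theorem exists_line_through {p q : P} (h : p ≠ q) : ∃ l : L, p ∈ l ∧ q ∈ l :=
  ⟨_, HasLines.mkLine_ax h⟩

theorem exists_meet {l m : L} (h : l ≠ m) : ∃ p : P, p ∈ l ∧ p ∈ m :=
  ⟨_, HasPoints.mkPoint_ax h⟩

theorem exists_not_mem (l : L) : ∃ p : P, p ∉ l :=
  Nondegenerate.exists_point l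

theorem exists_not_through (p : P) : ∃ l : L, p ∉ l :=
  Nondegenerate.exists_line p

section FiniteFacts

variable [Finite P] [Finite L]

theorem exists_mem_ne₂ (l : L) (a b : P) : ∃ p : P, p ∈ l ∧ p ≠ a ∧ p ≠ b := by
  by_contra hc
  push Not at hc
  have h3 := ProjectivePlane.two_lt_pointCount P l
  have h4 : Set.ncard {p : P | p ∈ l} ≤ 2 := by
    refine (Set.ncard_le_ncard (t := {a, b}) (fun p hp => ?_) (Set.toFinite _)).trans
      ((Set.ncard_insert_le a {b}).trans (by simp))
    by_cases h : p = a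
    · exact Or.inl h
    · exact Or.inr (hc p hp h)
  rw [Configuration.pointCount, ← Nat.card_coe_set_eq] at *
  exact absurd h4 (not_le.mpr h3)

theorem exists_mem_ne (l : L) (a : P) : ∃ p : P, p ∈ l ∧ p ≠ a :=
  let ⟨p, h1, h2, _⟩ := exists_mem_ne₂ l a a
  ⟨p, h1, h2⟩

theorem exists_through_ne (p : P) (l : L) : ∃ m : L, p ∈ m ∧ m ≠ l :=
  exists_mem_ne (P := Dual L) (L := Dual P) p l

theorem exists_through_ne₂ (p : P) (l m : L) : ∃ k : L, p ∈ k ∧ k ≠ l ∧ k ≠ m :=
  exists_mem_ne₂ (P := Dual L) (L := Dual P) p l m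

end FiniteFacts

theorem exists_point' (P L : Type*) [Membership P L] [ProjectivePlane P L] : ∃ _x : P, True := by
  obtain ⟨x, -⟩ := @ProjectivePlane.exists_config P L _ _
  exact ⟨x, trivial⟩

theorem exists_line' (P L : Type*) [Membership P L] [ProjectivePlane P L] : ∃ _l : L, True := by
  obtain ⟨x, -⟩ := exists_point' P L
  obtain ⟨l, -⟩ := exists_not_through (L := L) x
  exact ⟨l, trivial⟩

variable (P L)

/-- The group of collineations of a plane. -/
def Coll : Subgroup (Equiv.Perm P × Equiv.Perm L) where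
  carrier := {s | ∀ (p : P) (l : L), s.1 p ∈ s.2 l ↔ p ∈ l}
  one_mem' := fun _ _ => Iff.rfl
  mul_mem' := fun {s t} hs ht p l => (hs (t.1 p) (t.2 l)).trans (ht p l)
  inv_mem' := fun {s} hs p l => by
    have h := hs (s.1⁻¹ p) (s.2⁻¹ l)
    simp only [Equiv.Perm.inv_def, Equiv.apply_symm_apply] at h
    exact h.symm

variable {P L}

instance : MulAction (Coll P L) P where
  smul g p := g.1.1 p
  one_smul _ := rfl
  mul_smul _ _ _ := rfl

instance : MulAction (Coll P L) L where
  smul g l := g.1.2 l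
  one_smul _ := rfl
  mul_smul _ _ _ := rfl

theorem smul_point_def (g : Coll P L) (p : P) : g • p = g.1.1 p := rfl

theorem smul_line_def (g : Coll P L) (l : L) : g • l = g.1.2 l := rfl

theorem smul_mem_smul (g : Coll P L) (p : P) (l : L) : g • p ∈ g • l ↔ p ∈ l :=
  g.2 p l

theorem mem_smul_line (g : Coll P L) (p : P) (l : L) : p ∈ g • l ↔ g⁻¹ • p ∈ l := by
  rw [← smul_mem_smul g (g⁻¹ • p) l, smul_inv_smul]

variable [Finite P] [Finite L]

/-- A line is fixed as soon as two of its points are. -/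
theorem smul_line_eq {g : Coll P L} {p q : P} {l : L} (hpq : p ≠ q) (hp : p ∈ l) (hq : q ∈ l)
    (h1 : g • p ∈ l) (h2 : g • q ∈ l) : g • l = l :=
  line_ext (fun h => hpq (MulAction.injective g h)) ((smul_mem_smul g p l).mpr hp)
    ((smul_mem_smul g q l).mpr hq) h1 h2

/-- A point is fixed as soon as two lines through it are. -/
theorem smul_point_eq {g : Coll P L} {p : P} {l m : L} (hlm : l ≠ m) (hp : p ∈ l) (hp' : p ∈ m)
    (h1 : g • l = l) (h2 : g • m = m) : g • p = p :=
  point_ext hlm (h1 ▸ (smul_mem_smul g p l).mpr hp) hp (h2 ▸ (smul_mem_smul g p m).mpr hp') hp'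

theorem coll_ext {g h : Coll P L} (hp : ∀ p : P, g • p = h • p) : g = h := by
  have hl : ∀ l : L, g • l = h • l := by
    intro l
    obtain ⟨a, ha, -⟩ := exists_mem_ne l (Classical.choose (exists_not_mem (P := P) l))
    obtain ⟨b, hb, hba⟩ := exists_mem_ne l a
    refine line_ext (fun e => hba (MulAction.injective g e)) ((smul_mem_smul g b l).mpr hb)
      ((smul_mem_smul g a l).mpr ha) ?_ ?_
    · show g • b ∈ h • l
      rw [hp]; exact (smul_mem_smul h b l).mpr hb
    · show g • a ∈ h • l
      rw [hp]; exact (smul_mem_smul h a l).mpr ha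
  exact Subtype.ext (Prod.ext (Equiv.ext hp) (Equiv.ext hl))

instance : FaithfulSMul (Coll P L) P := ⟨fun h => coll_ext h⟩

theorem eq_one_of_fix_all {g : Coll P L} (hp : ∀ p : P, g • p = p) : g = 1 :=
  coll_ext fun p => (hp p).trans (one_smul _ p).symm

variable (P L)

/-- A collineation read in the dual plane. -/
def dualHom : Coll P L →* Coll (Dual L) (Dual P) where
  toFun g := ⟨(g.1.2, g.1.1), fun l p => g.2 p l⟩
  map_one' := rfl
  map_mul' _ _ := rfl

variable {P L}

omit [Finite P] [Finite L] in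
theorem dualHom_injective : Function.Injective (dualHom P L) := fun g h e => by
  have e' := congrArg Subtype.val e
  exact Subtype.ext (Prod.ext (congrArg Prod.snd e') (congrArg Prod.fst e'))

end Cfsg.Agent.OW
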