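import Cfsg.Agent.Lib.Plane.Frame

/-!
A plane with a frame is the plane over a finite field.
-/

set_option autoImplicit false
set_option linter.unusedSectionVars false
set_option linter.style.haveILetI false

namespace Cfsg.Agent.OW

open Configuration

/-- A fresh carrier for a field of given order. -/
def Coord (N : ℕ) : Type := Fin N

/-- The carrier is the standard one. -/
def coordEquiv (N : ℕ) : Coord N ≃ Fin N := Equiv.refl _

namespace Frame

variable {P L : Type*} [Membership P L] [ProjectivePlane P L] [Finite P] [Finite L] (F : Frame P L)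

/-- The carrier of the coordinate field. -/
abbrev K : Type := Coord (Nat.card F.V)

/-- Relabelling of the coordinates. -/
noncomputable def cEquiv : Additive F.V ≃ F.K :=
  Additive.toMul.trans ((Finite.equivFin F.V).trans (coordEquiv _).symm)

theorem zero_m (x : Additive F.V) : F.quasi.m 0 x = 0 :=
  (DFunLike.congr_fun (map_zero F.quasi.m) x)

/-- The coordinate field, before relabelling. -/
noncomputable abbrev vRing : CommRing (Additive F.V) :=
  { (inferInstance : AddCommGroup (Additive F.V)) with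
    mul := fun x y => F.quasi.m x y
    one := F.quasi.e
    mul_assoc := F.quasi.commutative_associative.2
    one_mul := F.quasi.e_left
    mul_one := F.quasi.e_right
    zero_mul := fun x => F.zero_m x
    mul_zero := fun x => map_zero (F.quasi.m x)
    left_distrib := fun x y z => map_add (F.quasi.m x) y z
    right_distrib := fun x y z => DFunLike.congr_fun (map_add F.quasi.m x y) z
    mul_comm := F.quasi.commutative_associative.1 }

theorem vField_isField : @IsField (Additive F.V) F.vRing.toSemiring := by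
  letI := F.vRing
  refine ⟨⟨F.quasi.e, 0, F.quasi.e_ne⟩, mul_comm, fun {x} hx => ?_⟩
  obtain ⟨y, hy⟩ := F.quasi.linv x hx
  refine ⟨y, ?_⟩
  have h := hy F.quasi.e
  rw [F.quasi.e_right] at h
  rw [mul_comm]
  exact h

/-- The coordinate field. -/
noncomputable instance fieldK : Field F.K :=
  letI := F.vRing
  letI := F.vField_isField.toField
  F.cEquiv.symm.field

/-- The coordinate of a translation. -/
noncomputable def co (x : F.V) : F.K := F.cEquiv (Additive.ofMul x)

/-- The translation with given coordinate. -/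
noncomputable def oc (a : F.K) : F.V := Additive.toMul (F.cEquiv.symm a)

theorem oc_co (x : F.V) : F.oc (F.co x) = x := by simp [oc, co]

theorem co_oc (a : F.K) : F.co (F.oc a) = a := by simp [oc, co]

theorem co_injective {x y : F.V} (h : F.co x = F.co y) : x = y := by rw [← F.oc_co x, h, F.oc_co]

theorem co_mul (x y : F.V) : F.co (x * y) = F.co x + F.co y := by
  show _ = F.cEquiv (F.cEquiv.symm (F.co x) + F.cEquiv.symm (F.co y))
  simp [co]

theorem co_m (x y : F.V) : F.co (F.m x y) = F.co x * F.co y := by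
  show _ = F.cEquiv (F.quasi.m (F.cEquiv.symm (F.co x)) (F.cEquiv.symm (F.co y)))
  simp [co]
  rfl

theorem co_one : F.co 1 = 0 := by
  have h := F.co_mul 1 1
  rwa [one_mul, left_eq_add] at h

theorem co_e : F.co F.e = 1 := rfl

open Classical in
/-- The point of a nonzero coordinate vector. -/
noncomputable def point (w : Fin 3 → F.K) : P :=
  if w 2 ≠ 0 then F.pt (F.oc (w 0 / w 2)) (F.oc (w 1 / w 2))
  else if w 0 ≠ 0 then F.dir (F.oc (w 1 / w 0)) else F.Y

theorem point_cases {w : Fin 3 → F.K} (hw : w ≠ 0) :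
    (∃ u y : F.V, F.point w = F.pt u y ∧ ∃ s : F.K, s ≠ 0 ∧ w = s • ![F.co u, F.co y, 1]) ∨
    (∃ x : F.V, F.point w = F.dir x ∧ ∃ s : F.K, s ≠ 0 ∧ w = s • ![1, F.co x, 0]) ∨
    (F.point w = F.Y ∧ ∃ s : F.K, s ≠ 0 ∧ w = s • ![0, 1, 0]) := by
  by_cases h2 : w 2 ≠ 0
  · refine Or.inl ⟨_, _, by rw [point, if_pos h2], w 2, h2, ?_⟩
    ext i
    fin_cases i <;> simp [F.co_oc, mul_div_cancel₀ _ h2]
  rw [ne_eq, not_not] at h2
  by_cases h0 : w 0 ≠ 0
  · refine Or.inr (Or.inl ⟨_, by rw [point, if_neg (not_not.mpr h2), if_pos h0], w 0, h0, ?_⟩)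
    ext i
    fin_cases i <;> simp [F.co_oc, mul_div_cancel₀ _ h0, h2]
  rw [ne_eq, not_not] at h0
  refine Or.inr (Or.inr ⟨by rw [point, if_neg (not_not.mpr h2), if_neg (not_not.mpr h0)], w 1,
    fun h1 => hw ?_, ?_⟩)
  · ext i
    fin_cases i <;> simp [h0, h1, h2]
  · ext i
    fin_cases i <;> simp [h0, h2]

theorem point_smul {w : Fin 3 → F.K} {t : F.K} (ht : t ≠ 0) : F.point (t • w) = F.point w := by
  by_cases h2 : w 2 = 0
  · by_cases h0 : w 0 = 0
    · simp [point, h0, h2]
    · simp [point, h0, h2, ht, mul_div_mul_left _ _ ht]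
  · simp [point, h2, ht, mul_div_mul_left _ _ ht]

theorem point_injective {w w' : Fin 3 → F.K} (hw : w ≠ 0) (hw' : w' ≠ 0)
    (h : F.point w = F.point w') : ∃ t : F.K, t ≠ 0 ∧ t • w' = w := by
  have key : ∀ {s s' : F.K} {v : Fin 3 → F.K}, s ≠ 0 → s' ≠ 0 → w = s • v → w' = s' • v →
      ∃ t : F.K, t ≠ 0 ∧ t • w' = w := fun {s s' v} hs hs' e e' =>
    ⟨s / s', div_ne_zero hs hs', by rw [e, e', smul_smul, div_mul_cancel₀ _ hs']⟩
  rcases F.point_cases hw with ⟨u, y, hp, s, hs, e⟩ | ⟨x, hp, s, hs, e⟩ | ⟨hp, s, hs, e⟩ <;>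
    rcases F.point_cases hw' with ⟨u', y', hp', s', hs', e'⟩ | ⟨x', hp', s', hs', e'⟩ |
      ⟨hp', s', hs', e'⟩ <;>
    rw [hp, hp'] at h
  · obtain ⟨rfl, rfl⟩ := F.pt_inj h; exact key hs hs' e e'
  · exact absurd (h ▸ F.dir_li x') (F.pt_not_li u y)
  · exact absurd (h ▸ F.Y_li) (F.pt_not_li u y)
  · exact absurd (h ▸ F.dir_li x) (F.pt_not_li u' y')
  · obtain rfl := F.dir_inj h; exact key hs hs' e e'
  · exact absurd h (F.dir_ne_Y x)
  · exact absurd (h ▸ F.Y_li) (F.pt_not_li u' y')
  · exact absurd h.symm (F.dir_ne_Y x')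
  · exact key hs hs' e e'

theorem point_surjective (p : P) : ∃ w : Fin 3 → F.K, w ≠ 0 ∧ F.point w = p := by
  by_cases hp : p ∈ F.li
  · by_cases hY : p = F.Y
    · exact ⟨![0, 1, 0], fun h => one_ne_zero (congrFun h 1 : (1 : F.K) = 0),
        hY ▸ by simp [point]⟩
    · obtain ⟨x, rfl⟩ := F.dir_surj hp hY
      exact ⟨![1, F.co x, 0], fun h => one_ne_zero (congrFun h 0 : (1 : F.K) = 0),
        by simp [point, F.oc_co]⟩
  · obtain ⟨u, y, rfl⟩ := F.pt_surj hp
    exact ⟨![F.co u, F.co y, 1], fun h => one_ne_zero (congrFun h 2 : (1 : F.K) = 0),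
      by simp [point, F.oc_co]⟩

/-- The linear form of a line. -/
noncomputable def form (a : Fin 3 → F.K) : (Fin 3 → F.K) →ₗ[F.K] F.K :=
  ∑ i, a i • LinearMap.proj i

theorem form_apply (a w : Fin 3 → F.K) : F.form a w = a 0 * w 0 + a 1 * w 1 + a 2 * w 2 := by
  simp [form, Fin.sum_univ_three]

/-- The coefficient vector describes the line. -/
def Describes (a : Fin 3 → F.K) (l : L) : Prop :=
  ∀ w : Fin 3 → F.K, w ≠ 0 → (F.point w ∈ l ↔ F.form a w = 0)

theorem describes_of {a : Fin 3 → F.K} {l : L}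
    (h1 : ∀ u y, F.pt u y ∈ l ↔ a 0 * F.co u + a 1 * F.co y + a 2 = 0)
    (h2 : ∀ x, F.dir x ∈ l ↔ a 0 + a 1 * F.co x = 0) (h3 : F.Y ∈ l ↔ a 1 = 0) :
    F.Describes a l := by
  intro w hw
  rcases F.point_cases hw with ⟨u, y, hp, s, hs, rfl⟩ | ⟨x, hp, s, hs, rfl⟩ | ⟨hp, s, hs, rfl⟩ <;>
    rw [hp, map_smul, smul_eq_zero, or_iff_right hs, F.form_apply]
  · simpa using h1 u y
  · simpa using h2 x
  · simpa using h3

theorem describes_li {c : F.K} (hc : c ≠ 0) : F.Describes ![0, 0, c] F.li :=
  F.describes_of (fun u y => by simp [F.pt_not_li, hc]) (fun x => by simp [F.dir_li])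
    (by simp [F.Y_li])

theorem describes_vert {a₀ a₂ : F.K} (v : F.V) (h0 : a₀ ≠ 0) (hv : a₀ * F.co v + a₂ = 0) :
    F.Describes ![a₀, 0, a₂] (F.vert v) := by
  refine F.describes_of (fun u y => ?_) (fun x => ?_) ?_
  · simp only [F.pt_mem_vert, Matrix.cons_val_zero, Matrix.cons_val_one, Matrix.cons_val,
      zero_mul, add_zero]
    constructor
    · rintro rfl; exact hv
    · intro h
      exact F.co_injective (mul_left_cancel₀ h0 (add_right_cancel (h.trans hv.symm)))
  · simp only [Matrix.cons_val_zero, Matrix.cons_val_one, zero_mul, add_zero, h0, iff_false]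
    exact fun h => F.dir_ne_Y x
      (point_ext (F.vert_ne_li v) h (F.Y_mem_vert v) (F.dir_li x) F.Y_li)
  · simp [F.Y_mem_vert]

theorem describes_ln {a₀ a₁ a₂ : F.K} (x k : F.V) (h1 : a₁ ≠ 0) (hx : a₀ + a₁ * F.co x = 0)
    (hk : a₂ + a₁ * F.co k = 0) : F.Describes ![a₀, a₁, a₂] (F.ln x k) := by
  refine F.describes_of (fun u y => ?_) (fun x' => ?_) ?_
  · simp only [F.pt_mem_ln, Matrix.cons_val_zero, Matrix.cons_val_one, Matrix.cons_val]
    have e : a₀ * F.co u + a₁ * F.co y + a₂ = a₁ * (F.co y - F.co (F.m x u * k)) := by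
      rw [F.co_mul, F.co_m, eq_neg_of_add_eq_zero_left hx, eq_neg_of_add_eq_zero_left hk]
      ring
    rw [e, mul_eq_zero, or_iff_right h1, sub_eq_zero]
    exact ⟨fun h => congrArg F.co h, F.co_injective⟩
  · simp only [F.dir_mem_ln_iff, Matrix.cons_val_zero, Matrix.cons_val_one]
    constructor
    · rintro rfl; exact hx
    · intro h
      exact F.co_injective (mul_left_cancel₀ h1 (add_left_cancel (h.trans hx.symm)))
  · simp [F.Y_not_ln, h1]

theorem exists_form (l : L) : ∃ a : Fin 3 → F.K, a ≠ 0 ∧ F.Describes a l := by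
  rcases F.line_cases l with rfl | ⟨v, rfl⟩ | ⟨x, k, rfl⟩
  · exact ⟨_, fun h => one_ne_zero (congrFun h 2 : (1 : F.K) = 0), F.describes_li one_ne_zero⟩
  · exact ⟨![1, 0, -F.co v], fun h => one_ne_zero (congrFun h 0 : (1 : F.K) = 0),
      F.describes_vert v one_ne_zero (by rw [one_mul, add_neg_cancel])⟩
  · exact ⟨![-F.co x, 1, -F.co k], fun h => one_ne_zero (congrFun h 1 : (1 : F.K) = 0),
      F.describes_ln x k one_ne_zero (by rw [one_mul, neg_add_cancel])
        (by rw [one_mul, neg_add_cancel])⟩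

theorem exists_line (a : Fin 3 → F.K) (ha : a ≠ 0) : ∃ l : L, F.Describes a l := by
  have e : a = ![a 0, a 1, a 2] := by ext i; fin_cases i <;> rfl
  by_cases h1 : a 1 = 0
  · by_cases h0 : a 0 = 0
    · refine ⟨F.li, ?_⟩
      rw [e, h0, h1]
      exact F.describes_li fun h2 => ha (by rw [e, h0, h1, h2]; ext i; fin_cases i <;> rfl)
    · refine ⟨F.vert (F.oc (-(a 2) / a 0)), ?_⟩
      rw [e, h1]
      exact F.describes_vert _ h0 (by
        rw [F.co_oc]
        simp [mul_div_cancel₀ _ h0])
  · refine ⟨F.ln (F.oc (-(a 0) / a 1)) (F.oc (-(a 2) / a 1)), ?_⟩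
    rw [e]
    exact F.describes_ln _ _ h1 (by rw [F.co_oc]; simp [mul_div_cancel₀ _ h1])
      (by rw [F.co_oc]; simp [mul_div_cancel₀ _ h1])

/-- The plane is the plane over the coordinate field. -/
theorem desarguesian : ∃ φ : P ≃ Projectivization F.K (Fin 3 → F.K),
    (∀ l : L, ∃ W : Submodule F.K (Fin 3 → F.K), Module.finrank F.K W = 2 ∧
      ∀ p : P, p ∈ l ↔ (φ p).submodule ≤ W) ∧
    (∀ W : Submodule F.K (Fin 3 → F.K), Module.finrank F.K W = 2 →
      ∃ l : L, ∀ p : P, p ∈ l ↔ (φ p).submodule ≤ W) := by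
  let g : Projectivization F.K (Fin 3 → F.K) → P :=
    Projectivization.lift (fun w => F.point w.1) fun w w' t h => by
      have ht : t ≠ 0 := fun e => w.2 (by rw [h, e, zero_smul])
      show F.point w.1 = F.point w'.1
      rw [h, F.point_smul ht]
  have hg : Function.Bijective g := by
    constructor
    · intro q q'
      induction q using Projectivization.ind with
      | h w hw =>
        induction q' using Projectivization.ind with
        | h w' hw' =>
          intro h
          simp only [g, Projectivization.lift_mk] at h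
          obtain ⟨t, ht, e⟩ := F.point_injective hw hw' h
          exact (Projectivization.mk_eq_mk_iff' _ _ _ hw hw').mpr ⟨t, e⟩
    · intro p
      obtain ⟨w, hw, rfl⟩ := F.point_surjective p
      exact ⟨Projectivization.mk F.K w hw, Projectivization.lift_mk _ _ w hw⟩
  let φ := (Equiv.ofBijective g hg).symm
  have hsub : ∀ (a : Fin 3 → F.K) (l : L), F.Describes a l →
      ∀ p : P, p ∈ l ↔ (φ p).submodule ≤ LinearMap.ker (F.form a) := by
    intro a l hd p
    obtain ⟨w, hw, rfl⟩ := F.point_surjective p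
    have e : φ (F.point w) = Projectivization.mk F.K w hw :=
      ((Equiv.ofBijective g hg).symm_apply_eq).mpr (by
        show F.point w = g (Projectivization.mk F.K w hw)
        simp only [g, Projectivization.lift_mk])
    rw [e, Projectivization.submodule_mk, Submodule.span_singleton_le_iff_mem, LinearMap.mem_ker]
    exact hd w hw
  have hform : ∀ a : Fin 3 → F.K, a ≠ 0 → F.form a ≠ 0 := by
    intro a ha h
    refine ha (funext fun i => ?_)
    have := LinearMap.congr_fun h (Pi.single i 1)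
    fin_cases i <;> simpa [F.form_apply] using this
  have hker : ∀ a : Fin 3 → F.K, a ≠ 0 → Module.finrank F.K (LinearMap.ker (F.form a)) = 2 := by
    intro a ha
    have h := Module.Dual.finrank_ker_add_one_of_ne_zero (f := F.form a) (hform a ha)
    rw [Module.finrank_fin_fun] at h
    omega
  refine ⟨φ, fun l => ?_, fun W hW => ?_⟩
  · obtain ⟨a, ha, hd⟩ := F.exists_form l
    exact ⟨_, hker a ha, hsub a l hd⟩
  · have hlt : W < ⊤ := lt_top_iff_ne_top.mpr fun e => by
      rw [e, finrank_top, Module.finrank_fin_fun] at hW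
      omega
    obtain ⟨f, hf, hWf⟩ := Submodule.exists_le_ker_of_lt_top W hlt
    set a : Fin 3 → F.K := fun i => f (Pi.single i 1) with ha
    have hfa : F.form a = f := by
      refine LinearMap.ext fun w => ?_
      have e : w = w 0 • (Pi.single 0 1 : Fin 3 → F.K) + w 1 • Pi.single 1 1 + w 2 • Pi.single 2 1 := by
        ext i; fin_cases i <;> simp
      conv_rhs => rw [e]
      rw [F.form_apply, map_add, map_add, map_smul, map_smul, map_smul]
      simp only [ha, smul_eq_mul]
      ring
    have ha0 : a ≠ 0 := fun e => hf (by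
      rw [← hfa, e]
      exact LinearMap.ext fun w => by simp [F.form_apply])
    obtain ⟨l, hd⟩ := F.exists_line a ha0
    have hW' : W = LinearMap.ker (F.form a) := by
      refine Submodule.eq_of_le_of_finrank_le (hfa ▸ hWf) ?_
      rw [hker a ha0, hW]
    exact ⟨l, fun p => hW' ▸ hsub a l hd p⟩

end Frame

end Cfsg.Agent.OW
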