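import Cfsg.Agent.Lib.Plane.Axial

/-!
Fixed subplanes, Baer involutions and chains of Baer subplanes.
-/

set_option autoImplicit false
set_option linter.unusedSectionVars false
set_option linter.style.haveILetI false

namespace Cfsg.Agent.OW

open Configuration

universe u v

variable {P : Type u} {L : Type v} [Membership P L] [ProjectivePlane P L] [Finite P] [Finite L]

/-- The points fixed by a group of collineations. -/
abbrev FixP (A : Subgroup (Coll P L)) : Type u := {x : P // ∀ a ∈ A, a • x = x}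

/-- The lines fixed by a group of collineations. -/
abbrev FixL (A : Subgroup (Coll P L)) : Type v := {l : L // ∀ a ∈ A, a • l = l}

instance (A : Subgroup (Coll P L)) : Membership (FixP A) (FixL A) := ⟨fun l x => x.1 ∈ l.1⟩

theorem fix_mem_iff {A : Subgroup (Coll P L)} {x : FixP A} {l : FixL A} :
    x ∈ l ↔ x.1 ∈ l.1 := Iff.rfl

/-- Three points are on no common line. -/
def NonColl (L : Type*) [Membership P L] (a b c : P) : Prop := ∀ l : L, a ∈ l → b ∈ l → c ∉ l

/-- The group fixes four points, no three of them on a line. -/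
def HasQuad (A : Subgroup (Coll P L)) : Prop :=
  ∃ a b c d : P, (∀ g ∈ A, g • a = a ∧ g • b = b ∧ g • c = c ∧ g • d = d) ∧
    NonColl L a b c ∧ NonColl L a b d ∧ NonColl L a c d ∧ NonColl L b c d ∧
    a ≠ b ∧ a ≠ c ∧ a ≠ d ∧ b ≠ c ∧ b ≠ d ∧ c ≠ d

theorem HasQuad.mono {A B : Subgroup (Coll P L)} (h : HasQuad A) (hBA : B ≤ A) : HasQuad B :=
  let ⟨a, b, c, d, h1, h2⟩ := h
  ⟨a, b, c, d, fun g hg => h1 g (hBA hg), h2⟩

theorem exists_fixed_line {A : Subgroup (Coll P L)} {x y : P} (hx : ∀ g ∈ A, g • x = x)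
    (hy : ∀ g ∈ A, g • y = y) (hxy : x ≠ y) : ∃ l : FixL A, x ∈ l.1 ∧ y ∈ l.1 := by
  obtain ⟨l, h1, h2⟩ := exists_line_through (L := L) hxy
  exact ⟨⟨l, fun g hg => smul_line_eq hxy h1 h2 (by rw [hx g hg]; exact h1)
    (by rw [hy g hg]; exact h2)⟩, h1, h2⟩

/-- A quadrangle of fixed points makes the fixed points and lines a plane. -/
@[instance_reducible]
noncomputable def fixPlane {A : Subgroup (Coll P L)} (h : HasQuad A) :
    ProjectivePlane (FixP A) (FixL A) where
  exists_point l := by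
    obtain ⟨a, b, c, d, hf, habc, habd, hacd, hbcd, -⟩ := h
    by_cases ha : a ∈ l.1
    · by_cases hb : b ∈ l.1
      · exact ⟨⟨c, fun g hg => (hf g hg).2.2.1⟩, habc l.1 ha hb⟩
      · exact ⟨⟨b, fun g hg => (hf g hg).2.1⟩, hb⟩
    · exact ⟨⟨a, fun g hg => (hf g hg).1⟩, ha⟩
  exists_line x := by
    obtain ⟨a, b, c, d, hf, habc, habd, hacd, hbcd, hab, hac, had, hbc, hbd, hcd⟩ := h
    obtain ⟨k1, ha1, hb1⟩ := exists_fixed_line (fun g hg => (hf g hg).1) (fun g hg => (hf g hg).2.1) hab
    obtain ⟨k2, ha2, hc2⟩ := exists_fixed_line (fun g hg => (hf g hg).1) (fun g hg => (hf g hg).2.2.1) hac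
    obtain ⟨k3, hb3, hc3⟩ := exists_fixed_line (fun g hg => (hf g hg).2.1) (fun g hg => (hf g hg).2.2.1) hbc
    by_cases h1 : x.1 ∈ k1.1
    · by_cases h2 : x.1 ∈ k2.1
      · refine ⟨k3, fun h3 => ?_⟩
        have e : x.1 = a := point_ext (fun e : k1.1 = k2.1 => habc k1.1 ha1 hb1 (e ▸ hc2)) h1 ha1 h2 ha2
        exact habc k3.1 (e ▸ h3) hb3 hc3
      · exact ⟨k2, h2⟩
    · exact ⟨k1, h1⟩
  eq_or_eq := fun {p₁ p₂ l₁ l₂} h1 h2 h3 h4 =>
    (Nondegenerate.eq_or_eq (P := P) (L := L) h1 h2 h3 h4).imp Subtype.ext Subtype.ext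
  mkPoint := fun {l₁ l₂} hl =>
    have hl' : l₁.1 ≠ l₂.1 := fun e => hl (Subtype.ext e)
    ⟨HasPoints.mkPoint hl', fun g hg => smul_point_eq hl' (HasPoints.mkPoint_ax hl').1
      (HasPoints.mkPoint_ax hl').2 (l₁.2 g hg) (l₂.2 g hg)⟩
  mkPoint_ax := fun {_ _} _ => HasPoints.mkPoint_ax (P := P) (L := L) _
  mkLine := fun {p₁ p₂} hp =>
    have hp' : p₁.1 ≠ p₂.1 := fun e => hp (Subtype.ext e)
    ⟨HasLines.mkLine hp', fun g hg => smul_line_eq hp' (HasLines.mkLine_ax hp').1
      (HasLines.mkLine_ax hp').2 (by rw [p₁.2 g hg]; exact (HasLines.mkLine_ax hp').1)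
      (by rw [p₂.2 g hg]; exact (HasLines.mkLine_ax hp').2)⟩
  mkLine_ax := fun {_ _} _ => HasLines.mkLine_ax (P := P) (L := L) _
  exists_config := by
    obtain ⟨a, b, c, d, hf, habc, habd, hacd, hbcd, hab, hac, had, hbc, hbd, hcd⟩ := h
    obtain ⟨l1, ha1, hd1⟩ := exists_fixed_line (fun g hg => (hf g hg).1) (fun g hg => (hf g hg).2.2.2) had
    obtain ⟨l2, hb2, hc2⟩ := exists_fixed_line (fun g hg => (hf g hg).2.1) (fun g hg => (hf g hg).2.2.1) hbc
    obtain ⟨l3, hb3, hd3⟩ := exists_fixed_line (fun g hg => (hf g hg).2.1) (fun g hg => (hf g hg).2.2.2) hbd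
    exact ⟨⟨a, fun g hg => (hf g hg).1⟩, ⟨b, fun g hg => (hf g hg).2.1⟩,
      ⟨c, fun g hg => (hf g hg).2.2.1⟩, l1, l2, l3,
      fun e => habc l2.1 e hb2 hc2, fun e => habd l3.1 e hb3 hd3, fun e => habd l1.1 ha1 e hd1,
      hb2, hb3, fun e => hacd l1.1 ha1 e hd1, hc2, fun e => hbcd l3.1 hb3 e hd3⟩

/-- Restriction of the normalizer to the fixed subplane. -/
def fixHom (A : Subgroup (Coll P L)) :
    ↥(Subgroup.normalizer (A : Set (Coll P L))) →* Coll (FixP A) (FixL A) :=
  have key : ∀ (g : Coll P L), g ∈ Subgroup.normalizer (A : Set (Coll P L)) →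
      ∀ a ∈ A, g⁻¹ * a * g ∈ A := fun g hg a ha => by
    have h := (Subgroup.mem_normalizer_iff.mp (inv_mem hg) a).mp ha
    rwa [inv_inv] at h
  have mapP : ∀ (g : Coll P L), g ∈ Subgroup.normalizer (A : Set (Coll P L)) →
      ∀ (x : FixP A), ∀ a ∈ A, a • (g • x.1) = g • x.1 := fun g hg x a ha => by
    rw [show a • g • x.1 = g • (g⁻¹ * a * g) • x.1 by simp only [mul_smul, smul_inv_smul],
      x.2 _ (key g hg a ha)]
  have mapL : ∀ (g : Coll P L), g ∈ Subgroup.normalizer (A : Set (Coll P L)) →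
      ∀ (x : FixL A), ∀ a ∈ A, a • (g • x.1) = g • x.1 := fun g hg x a ha => by
    rw [show a • g • x.1 = g • (g⁻¹ * a * g) • x.1 by simp only [mul_smul, smul_inv_smul],
      x.2 _ (key g hg a ha)]
  { toFun := fun g =>
      ⟨(({ toFun := fun x => ⟨(g : Coll P L) • x.1, mapP g.1 g.2 x⟩
           invFun := fun x => ⟨(g : Coll P L)⁻¹ • x.1, mapP _ (inv_mem g.2) x⟩
           left_inv := fun x => Subtype.ext (inv_smul_smul _ _)
           right_inv := fun x => Subtype.ext (smul_inv_smul _ _) } : Equiv.Perm (FixP A)),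
        ({ toFun := fun x => ⟨(g : Coll P L) • x.1, mapL g.1 g.2 x⟩
           invFun := fun x => ⟨(g : Coll P L)⁻¹ • x.1, mapL _ (inv_mem g.2) x⟩
           left_inv := fun x => Subtype.ext (inv_smul_smul _ _)
           right_inv := fun x => Subtype.ext (smul_inv_smul _ _) } : Equiv.Perm (FixL A))),
        fun x l => smul_mem_smul (g : Coll P L) x.1 l.1⟩
    map_one' := Subtype.ext (Prod.ext (Equiv.ext fun _ => Subtype.ext (one_smul _ _))
      (Equiv.ext fun _ => Subtype.ext (one_smul _ _)))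
    map_mul' := fun g h => Subtype.ext (Prod.ext (Equiv.ext fun _ => Subtype.ext (mul_smul _ _ _))
      (Equiv.ext fun _ => Subtype.ext (mul_smul _ _ _))) }

theorem fixHom_point {A : Subgroup (Coll P L)}
    (g : Subgroup.normalizer (A : Set (Coll P L))) (x : FixP A) :
    ((fixHom A g) • x).1 = (g : Coll P L) • x.1 := rfl

theorem fixHom_line {A : Subgroup (Coll P L)}
    (g : Subgroup.normalizer (A : Set (Coll P L))) (x : FixL A) :
    ((fixHom A g) • x).1 = (g : Coll P L) • x.1 := rfl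

/-- An axial collineation fixing a quadrangle is trivial. -/
theorem eq_one_of_axis_quad {g : Coll P L} {l : L} {A : Subgroup (Coll P L)} (hA : HasQuad A)
    (hg : g ∈ A) (hl : IsAxis g l) : g = 1 := by
  by_contra h1
  obtain ⟨a, b, c, d, hf, habc, habd, hacd, hbcd, hab, hac, had, hbc, hbd, hcd⟩ := hA
  obtain ⟨c₀, hc₀, -⟩ := exists_center hl
  have key : ∀ x : P, g • x = x → x ∈ l ∨ x = c₀ := fun x hx =>
    (em (x ∈ l)).imp id fun hxl => center_eq_of_fixed hl hc₀ h1 hxl hx
  obtain ⟨ga, gb, gc, gd⟩ := hf g hg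
  rcases key a ga with ha | ha
  · rcases key b gb with hb | hb
    · rcases key c gc with hc | hc
      · exact habc l ha hb hc
      · rcases key d gd with hd | hd
        · exact habd l ha hb hd
        · exact hcd (hc.trans hd.symm)
    · rcases key c gc with hc | hc
      · rcases key d gd with hd | hd
        · exact hacd l ha hc hd
        · exact hbd (hb.trans hd.symm)
      · exact hbc (hb.trans hc.symm)
  · rcases key b gb with hb | hb
    · rcases key c gc with hc | hc
      · rcases key d gd with hd | hd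
        · exact hbcd l hb hc hd
        · exact had (ha.trans hd.symm)
      · exact hac (ha.trans hc.symm)
    · exact hab (ha.trans hb.symm)

theorem exists_moved_on_fixed_line {A : Subgroup (Coll P L)} (hA : HasQuad A) (hne : A ≠ ⊥) :
    ∃ (l : FixL A) (x : P), x ∈ l.1 ∧ ∃ a ∈ A, a • x ≠ x := by
  by_contra h
  push Not at h
  refine hne ((Subgroup.eq_bot_iff_forall _).mpr fun g hg => ?_)
  letI := fixPlane hA
  obtain ⟨l, -⟩ : ∃ l : FixL A, True := by
    obtain ⟨-, -, -, l, -⟩ := (inferInstance : ProjectivePlane (FixP A) (FixL A)).exists_config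
    exact ⟨l, trivial⟩
  exact eq_one_of_axis_quad hA hg (l := l.1) fun x hx => h l x hx g hg

/-- Bruck's bound for a proper fixed subplane. -/
theorem subplane_order_sq_le {A : Subgroup (Coll P L)} (hA : HasQuad A) (hne : A ≠ ⊥) :
    letI := fixPlane hA
    ProjectivePlane.order (FixP A) (FixL A) ^ 2 ≤ ProjectivePlane.order P L := by
  letI := fixPlane hA
  obtain ⟨l, x, hxl, a, ha, hax⟩ := exists_moved_on_fixed_line hA hne
  cases nonempty_fintype (FixP A)
  have h1 : Nat.card {y : FixP A // y ∉ l} = ProjectivePlane.order (FixP A) (FixL A) ^ 2 := by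
    classical
    rw [Nat.card_eq_fintype_card, Fintype.card_subtype_compl,
      ← Nat.card_eq_fintype_card (α := {y // y ∈ l}), ← Configuration.pointCount,
      ProjectivePlane.pointCount_eq (FixP A) l, ProjectivePlane.card_points (FixP A) (FixL A)]
    omega
  have hx : ∀ y : {y : FixP A // y ∉ l}, x ≠ y.1.1 := fun y e => y.2 (e ▸ hxl : y.1.1 ∈ l.1)
  let f : {y : FixP A // y ∉ l} → {m : L // x ∈ m ∧ m ≠ l.1} := fun y =>
    ⟨HasLines.mkLine (hx y), (HasLines.mkLine_ax (hx y)).1,
      fun e => y.2 (show y.1.1 ∈ l.1 from e ▸ (HasLines.mkLine_ax (hx y)).2)⟩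
  have hf : Function.Injective f := by
    intro y y' e
    by_contra hne'
    set m : L := HasLines.mkLine (hx y) with hm
    have hy : y.1.1 ∈ m := (HasLines.mkLine_ax (hx y)).2
    have hy' : y'.1.1 ∈ m := by
      rw [show m = HasLines.mkLine (hx y') from congrArg Subtype.val e]
      exact (HasLines.mkLine_ax (hx y')).2
    have hml : m ≠ l.1 := fun e' => y.2 (show y.1.1 ∈ l.1 from e' ▸ hy)
    have hyy : y.1.1 ≠ y'.1.1 := fun e' => hne' (Subtype.ext (Subtype.ext e'))
    refine hax (smul_point_eq hml (HasLines.mkLine_ax (hx y)).1 hxl ?_ (l.2 a ha))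
    exact smul_line_eq hyy hy hy' (by rw [y.1.2 a ha]; exact hy) (by rw [y'.1.2 a ha]; exact hy')
  have h2 : Nat.card {m : L // x ∈ m ∧ m ≠ l.1} = ProjectivePlane.order P L := by
    have h : {m : L | x ∈ m ∧ m ≠ l.1} = {m : L | x ∈ m} \ {l.1} := by ext; simp
    have h3 : {m : L | x ∈ m}.ncard = ProjectivePlane.order P L + 1 := by
      rw [← Nat.card_coe_set_eq]; exact ProjectivePlane.lineCount_eq L x
    calc Nat.card {m : L // x ∈ m ∧ m ≠ l.1} = {m : L | x ∈ m ∧ m ≠ l.1}.ncard :=
          Nat.card_coe_set_eq _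
      _ = _ := by rw [h, Set.ncard_sdiff_singleton_of_mem (show l.1 ∈ {m : L | x ∈ m} from hxl), h3]; omega
  rw [← h1, ← h2]
  exact Nat.card_le_card_of_injective f hf

/-- Fixed points of a non-identity element without a fixed quadrangle lie on a line and a point. -/
theorem no_quad_cases {A : Subgroup (Coll P L)} (hA : ¬ HasQuad A) :
    (∀ a b c : FixP A, ∃ l : L, a.1 ∈ l ∧ b.1 ∈ l ∧ c.1 ∈ l) ∨
      ∃ (a : P) (l : L), ∀ x : FixP A, x.1 ∈ l ∨ x.1 = a := by
  classical
  by_cases hc : ∀ a b c : FixP A, ∃ l : L, a.1 ∈ l ∧ b.1 ∈ l ∧ c.1 ∈ l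
  · exact Or.inl hc
  push Not at hc
  obtain ⟨a, b, c, habc⟩ := hc
  refine Or.inr ?_
  have ne : ∀ {x y z : P}, NonColl L x y z → x ≠ y → x ≠ z ∧ y ≠ z := by
    intro x y z h hxy
    obtain ⟨l, hx, hy⟩ := exists_line_through (L := L) hxy
    exact ⟨fun e => h l hx hy (e ▸ hx), fun e => h l hx hy (e ▸ hy)⟩
  have hab : a.1 ≠ b.1 := by
    intro e
    obtain ⟨k, -⟩ := exists_not_through (L := L) a.1
    obtain ⟨w, -, hw⟩ := exists_mem_ne k a.1
    by_cases hac : a.1 = c.1
    · obtain ⟨l, hl, -⟩ := exists_line_through (L := L) hw.symm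
      exact habc l hl (e ▸ hl) (hac ▸ hl)
    · obtain ⟨l, hl, hl'⟩ := exists_line_through (L := L) hac
      exact habc l hl (e ▸ hl) hl'
  obtain ⟨hac, hbc⟩ := ne habc hab
  obtain ⟨sc, ha_sc, hb_sc⟩ := exists_line_through (L := L) hab
  obtain ⟨sb, ha_sb, hc_sb⟩ := exists_line_through (L := L) hac
  obtain ⟨sa, hb_sa, hc_sa⟩ := exists_line_through (L := L) hbc
  have na : a.1 ∉ sa := fun h => habc sa h hb_sa hc_sa
  have nb : b.1 ∉ sb := fun h => habc sb ha_sb h hc_sb
  have nc : c.1 ∉ sc := habc sc ha_sc hb_sc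
  have cover : ∀ x : FixP A, x.1 ∈ sa ∨ x.1 ∈ sb ∨ x.1 ∈ sc := by
    intro x
    by_contra hx
    push Not at hx
    refine hA ⟨a.1, b.1, c.1, x.1, fun g hg => ⟨a.2 g hg, b.2 g hg, c.2 g hg, x.2 g hg⟩, habc,
      fun m h1 h2 h3 => hx.2.2 (line_ext hab h1 h2 ha_sc hb_sc ▸ h3),
      fun m h1 h2 h3 => hx.2.1 (line_ext hac h1 h2 ha_sb hc_sb ▸ h3),
      fun m h1 h2 h3 => hx.1 (line_ext hbc h1 h2 hb_sa hc_sa ▸ h3),
      hab, hac, fun e => hx.2.1 (e ▸ ha_sb), hbc, fun e => hx.1 (e ▸ hb_sa), fun e => hx.1 (e ▸ hc_sa)⟩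
  -- Two sides cannot both carry a further fixed point.
  have two : ∀ (o u v : FixP A) (so su : L), o.1 ≠ u.1 → o.1 ≠ v.1 → u.1 ∉ su → o.1 ∈ so → v.1 ∉ so →
      o.1 ∈ su → v.1 ∈ su → u.1 ∈ so →
      ∀ x y : FixP A, x.1 ∈ so → x.1 ≠ o.1 → x.1 ≠ u.1 → y.1 ∈ su → y.1 ≠ o.1 → y.1 ≠ v.1 → False := by
    intro o u v so su hou hov hus hoso hvs hosu hvsu huso x y hx hxo hxu hy hyo hyv
    have hne : so ≠ su := fun e => hus (e ▸ huso)
    refine hA ⟨u.1, v.1, x.1, y.1, fun g hg => ⟨u.2 g hg, v.2 g hg, x.2 g hg, y.2 g hg⟩,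
      fun m h1 h2 h3 => hvs (line_ext hxu h3 h1 hx huso ▸ h2),
      fun m h1 h2 h3 => hus (line_ext hyv h3 h2 hy hvsu ▸ h1),
      fun m h1 h2 h3 => hne ?_, fun m h1 h2 h3 => hne ?_,
      fun e => hus (e ▸ hvsu), fun e => hxu e.symm, fun e => hus (e ▸ hy), fun e => hvs (e ▸ hx),
      fun e => hyv e.symm, fun e => hxo (point_ext hne hx hoso (e ▸ hy) hosu)⟩
    · have e := line_ext hxu h2 h1 hx huso
      exact absurd (point_ext hne (e ▸ h3) hoso hy hosu) hyo
    · have e := line_ext hyv h3 h1 hy hvsu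
      exact absurd (point_ext hne hx hoso (e ▸ h2) hosu) hxo
  by_cases ea : ∀ x : FixP A, x.1 ∈ sb ∨ x.1 ∈ sc → x.1 = a.1 ∨ x.1 = b.1 ∨ x.1 = c.1
  · refine ⟨a.1, sa, fun x => ?_⟩
    rcases cover x with h | h | h
    · exact Or.inl h
    all_goals
      rcases ea x (by tauto) with e | e | e
      · exact Or.inr e
      · exact Or.inl (e ▸ hb_sa)
      · exact Or.inl (e ▸ hc_sa)
  push Not at ea
  obtain ⟨x, hx, hxa, hxb, hxc⟩ := ea
  rcases hx with hx | hx
  · refine ⟨b.1, sb, fun y => ?_⟩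
    by_cases hy : y.1 = a.1 ∨ y.1 = b.1 ∨ y.1 = c.1
    · rcases hy with e | e | e
      · exact Or.inl (e ▸ ha_sb)
      · exact Or.inr e
      · exact Or.inl (e ▸ hc_sb)
    push Not at hy
    rcases cover y with h | h | h
    · exact (two c a b sb sa hac.symm hbc.symm na hc_sb nb hc_sa hb_sa ha_sb
        x y hx hxc hxa h hy.2.2 hy.2.1).elim
    · exact Or.inl h
    · exact (two a c b sb sc hac hab nc ha_sb nb ha_sc hb_sc hc_sb
        x y hx hxa hxc h hy.1 hy.2.1).elim
  · refine ⟨c.1, sc, fun y => ?_⟩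
    by_cases hy : y.1 = a.1 ∨ y.1 = b.1 ∨ y.1 = c.1
    · rcases hy with e | e | e
      · exact Or.inl (e ▸ ha_sc)
      · exact Or.inl (e ▸ hb_sc)
      · exact Or.inr e
    push Not at hy
    rcases cover y with h | h | h
    · exact (two b a c sc sa hab.symm hbc na hb_sc nc hb_sa hc_sa ha_sc
        x y hx hxb hxa h hy.2.1 hy.2.2).elim
    · exact (two a b c sc sb hab hac nb ha_sc nc ha_sb hc_sb hb_sc
        x y hx hxa hxb h hy.1 hy.2.2).elim
    · exact Or.inl h

theorem fix_zpowers {g : Coll P L} {x : P} (h : g • x = x) :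
    ∀ a ∈ Subgroup.zpowers g, a • x = x := fun _ ha =>
  MulAction.mem_stabilizer_iff.mp (Subgroup.zpowers_le.mpr (show g ∈ MulAction.stabilizer _ x from h) ha)

/-- Every line carries a fixed point of an involutory collineation. -/
theorem involution_meet {g : Coll P L} (hg : g * g = 1) (m : L) : ∃ x : P, x ∈ m ∧ g • x = x := by
  by_cases hm : g • m = m
  · obtain ⟨y, hy⟩ := exists_not_mem (P := P) m
    by_cases hgy : g • y = y
    · obtain ⟨k, hyk, hkm⟩ := exists_through_ne y m
      obtain ⟨k', hk'⟩ : ∃ k' : L, y ∈ k' := ⟨k, hyk⟩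
      obtain ⟨x, hx1, hx2⟩ := exists_meet (P := P) hkm
      by_cases hgx : g • x = x
      · exact ⟨x, hx2, hgx⟩
      -- a line through a moved point and its image
      obtain ⟨j, hj1, hj2⟩ := exists_line_through (L := L) (Ne.symm hgx)
      obtain ⟨z, hz, hzx, hzgx⟩ := exists_mem_ne₂ k x (g • x)
      by_cases hgz : g • z = z
      · by_cases hzy : z = y
        · obtain ⟨w, hwk, hwx, hwy⟩ := exists_mem_ne₂ k x y
          by_cases hgw : g • w = w
          · exact absurd (smul_point_eq hkm hx1 hx2 (smul_line_eq hwy hwk hyk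
              (by rw [hgw]; exact hwk) (by rw [hgy]; exact hyk)) hm) hgx
          · obtain ⟨i, hi1, hi2⟩ := exists_line_through (L := L) (Ne.symm hgw)
            have him : g • i = i := smul_line_eq (Ne.symm hgw) hi1 hi2 hi2
              (by rw [← mul_smul, hg, one_smul]; exact hi1)
            have hine : i ≠ m := fun e => hkm (line_ext hwx hwk hx1 (e ▸ hi1) hx2)
            obtain ⟨u, hu1, hu2⟩ := exists_meet (P := P) hine
            exact ⟨u, hu2, smul_point_eq hine hu1 hu2 him hm⟩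
        · exact absurd (smul_point_eq hkm hx1 hx2 (smul_line_eq hzy hz hyk
            (by rw [hgz]; exact hz) (by rw [hgy]; exact hyk)) hm) hgx
      · obtain ⟨i, hi1, hi2⟩ := exists_line_through (L := L) (Ne.symm hgz)
        have him : g • i = i := smul_line_eq (Ne.symm hgz) hi1 hi2 hi2
          (by rw [← mul_smul, hg, one_smul]; exact hi1)
        have hine : i ≠ m := fun e => hkm (line_ext hzx hz hx1 (e ▸ hi1) hx2)
        obtain ⟨u, hu1, hu2⟩ := exists_meet (P := P) hine
        exact ⟨u, hu2, smul_point_eq hine hu1 hu2 him hm⟩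
    · obtain ⟨i, hi1, hi2⟩ := exists_line_through (L := L) (Ne.symm hgy)
      have him : g • i = i := smul_line_eq (Ne.symm hgy) hi1 hi2 hi2
        (by rw [← mul_smul, hg, one_smul]; exact hi1)
      have hine : i ≠ m := fun e => hy (e ▸ hi1)
      obtain ⟨u, hu1, hu2⟩ := exists_meet (P := P) hine
      exact ⟨u, hu2, smul_point_eq hine hu1 hu2 him hm⟩
  · obtain ⟨x, hx1, hx2⟩ := exists_meet (P := P) (Ne.symm hm)
    refine ⟨x, hx1, ?_⟩
    have h1 : g • x ∈ g • m := (smul_mem_smul g x m).mpr hx1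
    have h2 : g • x ∈ m := by
      have h := (smul_mem_smul g x (g • m)).mpr hx2
      rwa [← mul_smul g g m, hg, one_smul] at h
    exact point_ext (Ne.symm hm) h2 hx1 h1 hx2

/-- An involutory collineation is axial or fixes a quadrangle. -/
theorem involution_cases {g : Coll P L} (hg : g * g = 1) :
    (∃ l : L, IsAxis g l) ∨ HasQuad (Subgroup.zpowers g) := by
  by_cases hq : HasQuad (Subgroup.zpowers g)
  · exact Or.inr hq
  refine Or.inl ?_
  have meet := involution_meet hg
  have axis_of : ∀ (a : P) (l : L), (∀ x : P, g • x = x → x ∈ l ∨ x = a) → IsAxis g l := by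
    intro a l h z hz
    obtain ⟨k, hzk, hkl, hak⟩ : ∃ k : L, z ∈ k ∧ k ≠ l ∧ (a ∈ k → a = z) := by
      obtain ⟨k, hzk, hkl⟩ := exists_through_ne z l
      by_cases hak : a ∈ k
      · obtain ⟨k2, hzk2, h1, h2⟩ := exists_through_ne₂ z l k
        exact ⟨k2, hzk2, h1, fun ha2 => point_ext h2 ha2 hzk2 hak hzk⟩
      · exact ⟨k, hzk, hkl, fun h => absurd h hak⟩
    obtain ⟨x, hxk, hx⟩ := meet k
    rcases h x hx with hxl | rfl
    · rwa [point_ext hkl hxk hzk hxl hz] at hx
    · rwa [hak hxk] at hx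
  rcases no_quad_cases hq with hcol | ⟨a, l, h⟩
  · obtain ⟨k, -⟩ := exists_line' P L
    obtain ⟨x, -, hx⟩ := meet k
    obtain ⟨k', hk'⟩ := exists_not_through (L := L) x
    obtain ⟨y, hy', hy⟩ := meet k'
    have hxy : x ≠ y := fun e => hk' (e ▸ hy')
    obtain ⟨l, hxl, hyl⟩ := exists_line_through (L := L) hxy
    refine ⟨l, axis_of x l fun z hz => Or.inl ?_⟩
    obtain ⟨m, h1, h2, h3⟩ := hcol ⟨x, fix_zpowers hx⟩ ⟨y, fix_zpowers hy⟩ ⟨z, fix_zpowers hz⟩
    exact line_ext hxy h1 h2 hxl hyl ▸ h3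
  · exact ⟨l, axis_of a l fun x hx => h ⟨x, fix_zpowers hx⟩⟩

theorem order_eq_of_card {P' L' : Type*} [Membership P' L'] [ProjectivePlane P' L'] [Finite P']
    [Finite L'] (h : Nat.card P = Nat.card P') :
    ProjectivePlane.order P L = ProjectivePlane.order P' L' := by
  cases nonempty_fintype P
  cases nonempty_fintype P'
  rw [Nat.card_eq_fintype_card, Nat.card_eq_fintype_card, ProjectivePlane.card_points P L,
    ProjectivePlane.card_points P' L'] at h
  rcases lt_trichotomy (ProjectivePlane.order P L) (ProjectivePlane.order P' L') with h' | h' | h'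
  · nlinarith
  · exact h'
  · nlinarith

/-- Baer: the fixed plane of an involution has order the square root of the order. -/
theorem baer {g : Coll P L} (hg : g * g = 1) (hg1 : g ≠ 1) (hq : HasQuad (Subgroup.zpowers g)) :
    letI := fixPlane hq
    ProjectivePlane.order (FixP (Subgroup.zpowers g)) (FixL (Subgroup.zpowers g)) ^ 2
      = ProjectivePlane.order P L := by
  classical
  set A := Subgroup.zpowers g with hA
  letI := fixPlane hq
  cases nonempty_fintype P
  cases nonempty_fintype L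
  haveI : Fintype (FixP A) := Fintype.ofFinite _
  haveI : Fintype (FixL A) := Fintype.ofFinite _
  set n := ProjectivePlane.order P L with hn
  set m := ProjectivePlane.order (FixP A) (FixL A) with hm
  have hb : m ^ 2 ≤ n := subplane_order_sq_le hq fun e =>
    hg1 (Subgroup.mem_bot.mp (e ▸ Subgroup.mem_zpowers g))
  have hm1 : 1 < m := ProjectivePlane.one_lt_order _ _
  let F : L → Prop := fun l => ∀ a ∈ A, a • l = l
  let f : (Σ x : FixP A, {l : L // x.1 ∈ l ∧ ¬ F l}) → {l : L // ¬ F l} := fun z => ⟨z.2.1, z.2.2.2⟩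
  have hf : Function.Bijective f := by
    constructor
    · rintro ⟨x, l, hxl, hl⟩ ⟨y, l', hyl, hl'⟩ e
      obtain rfl : l = l' := congrArg Subtype.val e
      obtain rfl : x = y := by
        by_contra hxy
        have hxy' : x.1 ≠ y.1 := fun e' => hxy (Subtype.ext e')
        exact hl fun a ha => smul_line_eq hxy' hxl hyl (by rw [x.2 a ha]; exact hxl)
          (by rw [y.2 a ha]; exact hyl)
      rfl
    · rintro ⟨l, hl⟩
      obtain ⟨x, hxl, hx⟩ := involution_meet hg l
      exact ⟨⟨⟨x, fix_zpowers hx⟩, l, hxl, hl⟩, rfl⟩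
  have h1 := Nat.card_congr (Equiv.ofBijective f hf)
  rw [Nat.card_sigma] at h1
  have h2 : ∀ x : FixP A, Nat.card {l : L // x.1 ∈ l ∧ ¬ F l} + (m + 1) = n + 1 := by
    intro x
    have e1 : Nat.card {l : L // x.1 ∈ l ∧ F l} = m + 1 := by
      rw [hm, ← ProjectivePlane.lineCount_eq (FixL A) x, Configuration.lineCount]
      exact Nat.card_congr
        { toFun := fun l => ⟨⟨l.1, l.2.2⟩, l.2.1⟩
          invFun := fun l => ⟨l.1.1, l.2, l.1.2⟩
          left_inv := fun _ => rfl
          right_inv := fun _ => rfl }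
    rw [← e1, hn, ← ProjectivePlane.lineCount_eq L x.1, Configuration.lineCount,
      Nat.card_eq_fintype_card, Nat.card_eq_fintype_card, Nat.card_eq_fintype_card,
      Fintype.card_subtype, Fintype.card_subtype, Fintype.card_subtype, ← Finset.card_union_of_disjoint]
    · congr 1
      ext l
      simp only [Finset.mem_union, Finset.mem_filter, Finset.mem_univ, true_and]
      tauto
    · exact Finset.disjoint_filter.mpr fun l _ hl hl' => hl.2 hl'.2
  rw [Finset.sum_congr rfl fun x _ => Nat.eq_sub_of_add_eq (h2 x), Finset.sum_const,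
    Finset.card_univ, smul_eq_mul, ProjectivePlane.card_points (FixP A) (FixL A),
    Nat.card_eq_fintype_card, Fintype.card_subtype_compl, ProjectivePlane.card_lines P L,
    ← Nat.card_eq_fintype_card (α := {l : L // F l}), show Nat.card {l : L // F l} = Nat.card (FixL A) from rfl,
    Nat.card_eq_fintype_card, ProjectivePlane.card_lines (FixP A) (FixL A), ← hm, ← hn] at h1
  obtain ⟨d, hd⟩ : ∃ d, n = m + d := ⟨n - m, by have := Nat.le_self_pow (two_ne_zero) m; omega⟩
  have h3 : n + 1 - (m + 1) = d := by omega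
  have h4 : m ^ 2 + m + 1 ≤ n ^ 2 + n + 1 := by rw [hd]; nlinarith
  rw [h3] at h1
  zify [h4] at h1
  nlinarith

/-- The image of a subgroup of the normalizer in the fixed subplane. -/
def fixImg {A : Subgroup (Coll P L)} (H : Subgroup (Coll P L))
    (h : H ≤ Subgroup.normalizer (A : Set (Coll P L))) : Subgroup (Coll (FixP A) (FixL A)) :=
  ((fixHom A).comp (Subgroup.inclusion h)).range

theorem mem_fixImg {A H : Subgroup (Coll P L)} {h : H ≤ Subgroup.normalizer (A : Set (Coll P L))}
    {s : Coll (FixP A) (FixL A)} :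
    s ∈ fixImg H h ↔ ∃ g : H, (fixHom A) (Subgroup.inclusion h g) = s := Iff.rfl

/-- A two-group fixing a quadrangle yields a chain of Baer subplanes. -/
theorem baer_chain.{a, b} : ∀ (k : ℕ) {P : Type a} {L : Type b} [Membership P L] [ProjectivePlane P L]
    [Finite P] [Finite L] (U : Subgroup (Coll P L)) (hU : HasQuad U), IsPGroup 2 U → Nat.card U ≤ k →
    letI := fixPlane hU
    ∃ j : ℕ, ProjectivePlane.order P L = ProjectivePlane.order (FixP U) (FixL U) ^ (2 ^ j) := by
  intro k
  induction k with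
  | zero =>
    intro P L _ _ _ _ U _ _ hk
    exact absurd hk (not_le.mpr Nat.card_pos)
  | succ k ih =>
    intro P L _ _ _ _ U hU h2 hk
    letI := fixPlane hU
    by_cases hb : U = ⊥
    · refine ⟨0, ?_⟩
      rw [pow_zero, pow_one]
      refine order_eq_of_card (Nat.card_congr
        { toFun := fun x => ⟨x, fun a ha => by subst hb; rw [Subgroup.mem_bot.mp ha, one_smul]⟩
          invFun := Subtype.val
          left_inv := fun _ => rfl
          right_inv := fun _ => rfl })
    haveI : Nontrivial U := (Subgroup.nontrivial_iff_ne_bot U).mpr hb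
    haveI : Fact (Nat.Prime 2) := ⟨Nat.prime_two⟩
    haveI := h2.center_nontrivial
    obtain ⟨z, hz⟩ := exists_prime_orderOf_dvd_card' 2 (G := Subgroup.center U)
      ((h2.to_subgroup _).card_eq_or_dvd.resolve_left (Finite.one_lt_card.ne'))
    set g : Coll P L := ((z : U) : Coll P L) with hg
    have hg2 : g * g = 1 := by
      have : z ^ 2 = 1 := hz ▸ pow_orderOf_eq_one z
      rw [sq] at this
      exact congrArg (fun w : Subgroup.center U => ((w : U) : Coll P L)) this
    have hg1 : g ≠ 1 := fun e => by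
      have : z = 1 := Subtype.ext (Subtype.ext e)
      rw [this, orderOf_one] at hz
      omega
    have hZU : Subgroup.zpowers g ≤ U := Subgroup.zpowers_le.mpr (z : U).2
    have hq := hU.mono hZU
    letI := fixPlane hq
    have hn : U ≤ Subgroup.normalizer ((Subgroup.zpowers g : Subgroup (Coll P L)) : Set (Coll P L)) := by
      intro u hu
      have hc : u * g = g * u :=
        congrArg Subtype.val (Subgroup.mem_center_iff.mp z.2 ⟨u, hu⟩)
      have fix : ∀ w ∈ Subgroup.zpowers g, u * w * u⁻¹ = w := fun w hw => by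
        obtain ⟨i, rfl⟩ := Subgroup.mem_zpowers_iff.mp hw
        rw [((show Commute u g from hc).zpow_right i).eq, mul_inv_cancel_right]
      refine Subgroup.mem_normalizer_iff.mpr fun w => ⟨fun hw => by rw [fix w hw]; exact hw, fun hw => ?_⟩
      have := fix _ hw
      rwa [← conj_injective.eq_iff.mp this]
    let U' := fixImg U hn
    have hq' : HasQuad U' := by
      obtain ⟨a, b, c, d, hf, habc, habd, hacd, hbcd, hab, hac, had, hbc, hbd, hcd⟩ := hU
      refine ⟨⟨a, fun w hw => (hf w (hZU hw)).1⟩, ⟨b, fun w hw => (hf w (hZU hw)).2.1⟩,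
        ⟨c, fun w hw => (hf w (hZU hw)).2.2.1⟩, ⟨d, fun w hw => (hf w (hZU hw)).2.2.2⟩, ?_,
        fun l => habc l.1, fun l => habd l.1, fun l => hacd l.1, fun l => hbcd l.1,
        fun e => hab (congrArg Subtype.val e), fun e => hac (congrArg Subtype.val e),
        fun e => had (congrArg Subtype.val e), fun e => hbc (congrArg Subtype.val e),
        fun e => hbd (congrArg Subtype.val e), fun e => hcd (congrArg Subtype.val e)⟩
      rintro _ ⟨u, rfl⟩
      exact ⟨Subtype.ext (hf u u.2).1, Subtype.ext (hf u u.2).2.1, Subtype.ext (hf u u.2).2.2.1,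
        Subtype.ext (hf u u.2).2.2.2⟩
    let f := (fixHom (Subgroup.zpowers g)).comp (Subgroup.inclusion hn)
    have hU' : IsPGroup 2 U' := h2.of_surjective f.rangeRestrict f.rangeRestrict_surjective
    have hlt : Nat.card U' < Nat.card U := by
      refine lt_of_le_of_ne (Nat.card_le_card_of_surjective _ f.rangeRestrict_surjective) fun e => ?_
      have hinj : Function.Injective f.rangeRestrict :=
        (Nat.bijective_iff_surjective_and_card _ |>.mpr ⟨f.rangeRestrict_surjective, e.symm⟩).1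
      refine hg1 ?_
      have : (z : U) = 1 := hinj (Subtype.ext (coll_ext fun x => Subtype.ext (x.2 g (Subgroup.mem_zpowers g))))
      rw [hg, this, OneMemClass.coe_one]
    obtain ⟨j, hj⟩ := ih U' hq' hU' (by omega)
    letI := fixPlane hq'
    refine ⟨j + 1, ?_⟩
    rw [← baer hg2 hg1 hq, hj, ← pow_mul, ← pow_succ]
    congr 1
    refine order_eq_of_card (Nat.card_congr
      { toFun := fun y => ⟨y.1.1, fun u hu => congrArg Subtype.val (y.2 _ ⟨⟨u, hu⟩, rfl⟩)⟩
        invFun := fun x => ⟨⟨x.1, fun w hw => x.2 w (hZU hw)⟩, fun s hs => by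
          obtain ⟨u, rfl⟩ := hs
          exact Subtype.ext (x.2 u u.2)⟩
        left_inv := fun _ => rfl
        right_inv := fun _ => rfl })

end Cfsg.Agent.OW
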