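import Cfsg.Agent.Lib.Plane.Transitive
import Cfsg.Agent.Lib.Plane.Fixed

/-!
A plane of odd order with many involutory homologies has prime power order and an elation.
-/

set_option autoImplicit false
set_option linter.unusedSectionVars false
set_option linter.style.haveILetI false

namespace Cfsg.Agent.OW

open Configuration

variable {P L : Type*} [Membership P L] [ProjectivePlane P L] [Finite P] [Finite L]

/-- A line fixed by a central collineation is the axis or passes through the centre. -/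
theorem fixed_line_center {g : Coll P L} {l m : L} {c : P} (ha : IsAxis g l) (hc : IsCenter g c)
    (hg : g ≠ 1) (hm : g • m = m) : m = l ∨ c ∈ m :=
  (em (c ∈ m)).elim Or.inr fun h => Or.inl
    (center_eq_of_fixed (P := Dual L) (L := Dual P) (g := dualHom P L g) (l := c) (c := l) (x := m)
      hc ha (fun e => hg (dualHom_injective (e.trans (map_one _).symm))) h hm)

/-- An involution has an even number of points in an invariant set without fixed points. -/
theorem even_card_of_fpf {α : Type*} [MulAction (Coll P L) α] {h : Coll P L} (h2 : h * h = 1)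
    (S : Finset α) (hinv : ∀ x ∈ S, h • x ∈ S) (hfpf : ∀ x ∈ S, h • x ≠ x) : Even S.card := by
  have := Finset.sum_involution (s := S) (f := fun _ => (1 : ZMod 2)) (fun x _ => h • x)
    (fun _ _ => by decide) (fun x hx _ => hfpf x hx) hinv
    (fun x _ => by rw [← mul_smul, h2, one_smul])
  simp only [Finset.sum_const, nsmul_eq_mul, mul_one] at this
  exact even_iff_two_dvd.mpr ((CharP.cast_eq_zero_iff (ZMod 2) 2 S.card).mp this)

/-- An involutory perspectivity in the group with the given centre and axis. -/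
def Hom (H : Subgroup (Coll P L)) (c : P) (k : L) : Prop :=
  ∃ h ∈ H, h ≠ 1 ∧ h * h = 1 ∧ IsAxis h k ∧ IsCenter h c

/-- Every antiflag with a point on the line is fixed by an involutory perspectivity. -/
def Rich (H : Subgroup (Coll P L)) : Prop :=
  ∀ (r : P) (l : L) (a : P), r ∉ l → a ∈ l →
    ∃ h ∈ H, h ≠ 1 ∧ h * h = 1 ∧ h • r = r ∧ h • l = l ∧ h • a = a ∧ ∃ k : L, IsAxis h k

/-- The order is a prime power and the group has an elation of that prime order. -/
def HasPE (H : Subgroup (Coll P L)) : Prop :=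
  ∃ p : ℕ, p.Prime ∧ (∃ A : ℕ, ProjectivePlane.order P L = p ^ A) ∧
    ∃ e ∈ H, e ≠ 1 ∧ e ^ p = 1 ∧ ∃ l : L, e ∈ elGroup P l

/-- The group read in the dual plane. -/
def dH (H : Subgroup (Coll P L)) : Subgroup (Coll (Dual L) (Dual P)) := H.map (dualHom P L)

theorem Hom.dual {H : Subgroup (Coll P L)} {c : P} {k : L} (h : Hom H c k) :
    Hom (P := Dual L) (L := Dual P) (dH H) k c := by
  obtain ⟨g, hg, h1, h2, ha, hc⟩ := h
  exact ⟨dualHom P L g, ⟨g, hg, rfl⟩, fun e => h1 (dualHom_injective (e.trans (map_one _).symm)),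
    by rw [← map_mul, h2, map_one], hc, ha⟩

theorem Hom.of_dual {H : Subgroup (Coll P L)} {c : P} {k : L}
    (h : Hom (P := Dual L) (L := Dual P) (dH H) k c) : Hom H c k := by
  obtain ⟨_, ⟨g, hg, rfl⟩, h1, h2, ha, hc⟩ := h
  exact ⟨g, hg, fun e => h1 (by rw [e, map_one]),
    dualHom_injective (by rw [map_mul, h2, map_one]), hc, ha⟩

variable {H : Subgroup (Coll P L)}

local notation "ordr" => ProjectivePlane.order P L

theorem HasPE.of_dual (h : HasPE (P := Dual L) (L := Dual P) (dH H)) : HasPE H := by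
  obtain ⟨p, hp, ⟨A, hA⟩, _, ⟨e, he, rfl⟩, he1, hep, c, hc⟩ := h
  obtain ⟨hc, k, hk, ha⟩ := mem_elGroup_iff.mp hc
  exact ⟨p, hp, ⟨A, (ProjectivePlane.Dual.order P L).symm.trans hA⟩, e, he,
    fun e' => he1 (by rw [e', map_one]), dualHom_injective (by rw [map_pow, hep, map_one]), k,
    mem_elGroup_of_center ha hc hk⟩

theorem two_lt_order_of_odd (hodd : Odd ordr) : 2 < ordr := by
  have := ProjectivePlane.one_lt_order P L
  obtain ⟨t, ht⟩ := hodd
  omega

/-- In odd order an involutory perspectivity is a homology. -/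
theorem Hom.not_mem (hodd : Odd ordr) {c : P} {k : L} (h : Hom H c k) : c ∉ k := by
  obtain ⟨g, -, h1, h2, ha, hc⟩ := h
  intro hck
  have h3 : orderOf g ∣ Nat.card (flGroup c k) :=
    Subgroup.orderOf_dvd_natCard (flGroup c k) ⟨ha, hc⟩
  rw [orderOf_eq_prime (p := 2) (by rw [sq, h2]) h1] at h3
  exact Nat.not_even_iff_odd.mpr hodd (even_iff_two_dvd.mpr (h3.trans (card_flGroup_dvd hck)))

theorem Hom.conj {c : P} {k : L} (h : Hom H c k) {g : Coll P L} (hg : g ∈ H) :
    Hom H (g • c) (g • k) := by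
  obtain ⟨s, hs, h1, h2, ha, hc⟩ := h
  refine ⟨g * s * g⁻¹, H.mul_mem (H.mul_mem hg hs) (H.inv_mem hg),
    fun e => h1 (conj_eq_one_iff.mp e), ?_, isAxis_conj ha g, isCenter_conj hc g⟩
  calc g * s * g⁻¹ * (g * s * g⁻¹) = g * (s * s) * g⁻¹ := by group
    _ = 1 := by rw [h2]; group

theorem Rich.cases (hF : Rich H) {r a : P} {l : L} (hr : r ∉ l) (ha : a ∈ l) :
    Hom H r l ∨ (∃ k, r ∈ k ∧ Hom H a k) ∨ ∃ k c, a ∈ k ∧ r ∈ k ∧ c ∈ l ∧ Hom H c k := by
  obtain ⟨h, hH, h1, h2, hhr, hhl, hha, k, hk⟩ := hF r l a hr ha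
  obtain ⟨c, hc, -⟩ := exists_center hk
  have hfix : ∀ x : P, h • x = x → x ∈ k ∨ x = c := fun x hx =>
    (em (x ∈ k)).imp id fun hxk => center_eq_of_fixed hk hc h1 hxk hx
  have hom : Hom H c k := ⟨h, hH, h1, h2, hk, hc⟩
  rcases fixed_line_center hk hc h1 hhl with rfl | hcl
  · rcases hfix r hhr with h' | rfl
    · exact absurd h' hr
    · exact Or.inl hom
  · rcases hfix r hhr with hrk | rfl
    · rcases hfix a hha with hak | rfl
      · exact Or.inr (Or.inr ⟨k, c, hak, hrk, hcl, hom⟩)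
      · exact Or.inr (Or.inl ⟨k, hrk, hom⟩)
    · exact absurd hcl hr

/-- Homology centres with a common axis are connected by elations of the group. -/
theorem andre_point (hodd : Odd ordr) {g : L} {x y : P} (hx : Hom H x g) (hy : Hom H y g) :
    ∃ e ∈ H ⊓ elGroup P g, e • x = y := by
  obtain ⟨e, he, he', hxy⟩ := andre (A := H ⊓ axGroup P g) inf_le_right (hx.not_mem hodd)
    (hy.not_mem hodd)
    (let ⟨s, hs, h1, _, ha, hc⟩ := hx; ⟨s, ⟨hs, ha⟩, h1, hc.smul_point⟩)
    (let ⟨s, hs, h1, _, ha, hc⟩ := hy; ⟨s, ⟨hs, ha⟩, h1, hc.smul_point⟩)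
  exact ⟨e, ⟨he.1, he'⟩, hxy⟩

theorem andre_line (hodd : Odd ordr) {a : P} {k k' : L} (hk : Hom H a k) (hk' : Hom H a k') :
    ∃ (t : L) (f : Coll P L), a ∈ t ∧ f ∈ H ∧ f ∈ flGroup a t ∧ f • k = k' := by
  obtain ⟨e, ⟨⟨f, hf, rfl⟩, he⟩, hxy⟩ := andre_point (P := Dual L) (L := Dual P) (H := dH H)
    (by rwa [ProjectivePlane.Dual.order P L]) hk.dual hk'.dual
  obtain ⟨hc, t, hat, hax⟩ := mem_elGroup_iff.mp he
  exact ⟨t, f, hat, hf, ⟨hax, hc⟩, hxy⟩

theorem card_centres (hodd : Odd ordr) {g : L} {c₀ : P} (hc₀ : Hom H c₀ g) :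
    Nat.card {x : P // Hom H x g} = Nat.card (H ⊓ elGroup P g : Subgroup (Coll P L)) := by
  let f : (H ⊓ elGroup P g : Subgroup (Coll P L)) → {x : P // Hom H x g} := fun e =>
    ⟨(e : Coll P L) • c₀, by
      have := hc₀.conj (g := (e : Coll P L)) e.2.1
      rwa [e.2.2.1.smul_line] at this⟩
  refine (Nat.card_congr (Equiv.ofBijective f ⟨fun e e' he => ?_, fun x => ?_⟩)).symm
  · refine Subtype.ext (inv_mul_eq_one.mp (elGroup_free (l := g)
      ((elGroup P g).mul_mem ((elGroup P g).inv_mem e.2.2) e'.2.2) (hc₀.not_mem hodd) ?_))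
    rw [mul_smul]
    exact inv_smul_eq_iff.mpr (congrArg Subtype.val he).symm
  · obtain ⟨e, he, hx⟩ := andre_point hodd hc₀ x.2
    exact ⟨⟨e, he⟩, Subtype.ext hx⟩

theorem odd_card_axes (hodd : Odd ordr) {a : P} {k₀ : L} (hk₀ : Hom H a k₀) :
    Odd (Nat.card {k : L // Hom H a k}) := by
  have hodd' : Odd (ProjectivePlane.order (Dual L) (Dual P)) := by
    rwa [ProjectivePlane.Dual.order P L]
  have e1 : Nat.card {k : L // Hom H a k}
      = Nat.card {k : Dual L // Hom (P := Dual L) (L := Dual P) (dH H) k a} :=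
    Nat.card_congr (Equiv.subtypeEquivRight fun k => ⟨Hom.dual, Hom.of_dual⟩)
  rw [e1, card_centres hodd' hk₀.dual]
  exact Odd.of_dvd_nat (hodd'.pow (n := 2))
    ((Subgroup.card_dvd_of_le inf_le_right).trans (card_elGroup_dvd (P := Dual L) (L := Dual P) a))

/-- Two centres and order divisible by the order of the plane finish the proof. -/
theorem hasPE_of_two {g : L} (hm : ordr ∣ Nat.card (H ⊓ elGroup P g : Subgroup (Coll P L)))
    {e f : Coll P L} {c d : P} (he : e ∈ H ⊓ elGroup P g) (hf : f ∈ H ⊓ elGroup P g) (he1 : e ≠ 1)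
    (hf1 : f ≠ 1) (hc : IsCenter e c) (hd : IsCenter f d) (hcd : c ≠ d) : HasPE H := by
  obtain ⟨-, p, hp, hexp⟩ := elation_elementary inf_le_right he hf he1 hf1 hc hd hcd
  haveI : Fact p.Prime := ⟨hp⟩
  obtain ⟨b, hb⟩ := IsPGroup.iff_card.mp (show IsPGroup p (H ⊓ elGroup P g : Subgroup (Coll P L))
    from fun x => ⟨1, Subtype.ext (by simpa using hexp x.1 x.2)⟩)
  obtain ⟨A, -, hA⟩ := (Nat.dvd_prime_pow hp).mp (hb ▸ hm)
  exact ⟨p, hp, ⟨A, hA⟩, e, he.1, he1, hexp e he, g, he.2⟩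

theorem exists_ne_one_of_dvd {A : Subgroup (Coll P L)} (h : ordr ∣ Nat.card A) :
    ∃ e ∈ A, e ≠ 1 := by
  refine (Subgroup.bot_or_exists_ne_one A).resolve_left fun hb => ?_
  rw [hb, Subgroup.card_bot] at h
  have := Nat.le_of_dvd one_pos h
  have := ProjectivePlane.one_lt_order P L
  omega

/-- A full group of elations is alone on its axis. -/
theorem lonely_center (hP : ¬ HasPE H) {d : P} {g : L} (hd : d ∈ g)
    (hfull : ordr ∣ Nat.card (H ⊓ flGroup d g : Subgroup (Coll P L))) {f : Coll P L} {c : P}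
    (hfH : f ∈ H) (hf1 : f ≠ 1) (hcg : c ∈ g) (hfa : IsAxis f g) (hfc : IsCenter f c) : c = d := by
  by_contra hcd
  obtain ⟨e, he, he1⟩ := exists_ne_one_of_dvd hfull
  exact hP (hasPE_of_two (hfull.trans (Subgroup.card_dvd_of_le (inf_le_inf_left H
    fun x hx => mem_elGroup_of_center hx.1 hx.2 hd)))
    ⟨hfH, mem_elGroup_of_center hfa hfc hcg⟩ ⟨he.1, mem_elGroup_of_center he.2.1 he.2.2 hd⟩ hf1 he1
    hfc he.2.2 hcd)

/-- A full group of elations is alone with its centre. -/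
theorem lonely_axis (hP : ¬ HasPE H) {d : P} {g : L} (hd : d ∈ g)
    (hfull : ordr ∣ Nat.card (H ⊓ flGroup d g : Subgroup (Coll P L))) {f : Coll P L} {t : L}
    (hfH : f ∈ H) (hf1 : f ≠ 1) (hdt : d ∈ t) (hfa : IsAxis f t) (hfc : IsCenter f d) : t = g := by
  refine lonely_center (P := Dual L) (L := Dual P) (H := dH H) (fun h => hP h.of_dual) (d := g)
    (g := d) hd ?_ (f := dualHom P L f) ⟨f, hfH, rfl⟩
    (fun e => hf1 (dualHom_injective (e.trans (map_one _).symm))) hdt hfc hfa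
  rw [ProjectivePlane.Dual.order P L]
  refine hfull.trans ?_
  rw [← Subgroup.card_map_of_injective (dualHom_injective (P := P) (L := L))]
  refine Subgroup.card_dvd_of_le ?_
  rintro _ ⟨x, hx, rfl⟩
  exact ⟨⟨x, hx.1, rfl⟩, hx.2.2, hx.2.1⟩

/-- The configuration of a line carrying a full group of elations with one centre. -/
def Cfg (H : Subgroup (Coll P L)) (g : L) (d : P) (j : L) : Prop :=
  d ∈ g ∧ d ∈ j ∧ j ≠ g ∧
    ProjectivePlane.order P L ∣ Nat.card (H ⊓ flGroup d g : Subgroup (Coll P L)) ∧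
    (H ⊓ elGroup P g ≤ flGroup d g) ∧ ∀ x : P, Hom H x g ↔ x ∈ j ∧ x ≠ d

theorem full_line (hodd : Odd ordr) (hP : ¬ HasPE H) {g : L} {c₀ : P} (hc₀ : Hom H c₀ g)
    (hm : ordr ∣ Nat.card (H ⊓ elGroup P g : Subgroup (Coll P L))) : ∃ d j, Cfg H g d j := by
  obtain ⟨e, he, he1⟩ := exists_ne_one_of_dvd hm
  obtain ⟨d, hdg, hd⟩ := elation_center he.2.1 he.2.2
  have hle : H ⊓ elGroup P g ≤ flGroup d g := fun f hf => by
    obtain ⟨c, -, hc⟩ := elation_center hf.2.1 hf.2.2
    refine ⟨hf.2.1, ?_⟩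
    by_cases hf1 : f = 1
    · rw [hf1]; exact isCenter_one d
    by_cases hcd : c = d
    · exact hcd ▸ hc
    · exact absurd (hasPE_of_two hm hf he hf1 he1 hc hd hcd) hP
  have heq : H ⊓ elGroup P g = H ⊓ flGroup d g :=
    le_antisymm (le_inf inf_le_left hle)
      (inf_le_inf_left H fun x hx => mem_elGroup_of_center hx.1 hx.2 hdg)
  have hc₀g := hc₀.not_mem hodd
  obtain ⟨j, hdj, hcj⟩ := exists_line_through (L := L) (fun e : d = c₀ => hc₀g (e ▸ hdg))
  refine ⟨d, j, hdg, hdj, fun e => hc₀g (e ▸ hcj), heq ▸ hm, hle, fun x => ?_⟩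
  have hsub : {x : P | Hom H x g} ⊆ {x : P | x ∈ j ∧ x ≠ d} := by
    intro y hy
    obtain ⟨f, hf, rfl⟩ := andre_point hodd hc₀ hy
    exact ⟨(hle hf).2.mem_line hdj hcj, fun e' => hy.not_mem hodd (e' ▸ hdg)⟩
  have hcard : {x : P | x ∈ j ∧ x ≠ d}.ncard ≤ {x : P | Hom H x g}.ncard := by
    rw [← Nat.card_coe_set_eq, ← Nat.card_coe_set_eq]
    show Nat.card {x : P // x ∈ j ∧ x ≠ d} ≤ Nat.card {x : P // Hom H x g}
    rw [card_line_sdiff hdj, card_centres hodd hc₀]
    exact Nat.le_of_dvd Nat.card_pos hm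
  exact Set.ext_iff.mp (Set.eq_of_subset_of_ncard_le hsub hcard) x

/-- Neither point is a centre for an axis through the other. -/
def Bad (H : Subgroup (Coll P L)) (a r : P) : Prop :=
  a ≠ r ∧ (∀ k : L, r ∈ k → ¬ Hom H a k) ∧ ∀ k : L, a ∈ k → ¬ Hom H r k

theorem Bad.symm {a r : P} (h : Bad H a r) : Bad H r a := ⟨h.1.symm, h.2.2, h.2.1⟩

theorem Bad.conj {a r : P} (h : Bad H a r) {g : Coll P L} (hg : g ∈ H) :
    Bad H (g • a) (g • r) := by
  refine ⟨fun e => h.1 (MulAction.injective g e), fun k hk hh => ?_, fun k hk hh => ?_⟩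
  · have h' := hh.conj (H.inv_mem hg)
    rw [inv_smul_smul] at h'
    exact h.2.1 (g⁻¹ • k) (by rw [mem_smul_line, inv_inv]; exact hk) h'
  · have h' := hh.conj (H.inv_mem hg)
    rw [inv_smul_smul] at h'
    exact h.2.2 (g⁻¹ • k) (by rw [mem_smul_line, inv_inv]; exact hk) h'

theorem Bad.meet (hF : Rich H) {a r : P} (hb : Bad H a r) {g l : L} (hag : a ∈ g) (hrg : r ∈ g)
    (hal : a ∈ l) (hlg : l ≠ g) : ∃ c, c ∈ l ∧ Hom H c g := by
  have hrl : r ∉ l := fun e => hlg (line_ext hb.1 hal e hag hrg)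
  rcases hF.cases hrl hal with h | ⟨k, hk, h⟩ | ⟨k, c, hak, hrk, hcl, h⟩
  · exact absurd h (hb.2.2 l hal)
  · exact absurd h (hb.2.1 k hk)
  · exact ⟨c, hcl, line_ext hb.1 hak hrk hag hrg ▸ h⟩

theorem Bad.trans (hodd : Odd ordr) (hF : Rich H) {a r : P} (hb : Bad H a r) {g l l' : L}
    (hag : a ∈ g) (hrg : r ∈ g) (hl : a ∈ l) (hlg : l ≠ g) (hl' : a ∈ l') (hlg' : l' ≠ g) :
    ∃ e ∈ H ⊓ elGroup P g, e • l = l' := by
  obtain ⟨c, hcl, hc⟩ := hb.meet hF hag hrg hl hlg
  obtain ⟨c', hcl', hc'⟩ := hb.meet hF hag hrg hl' hlg'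
  obtain ⟨e, he, hec⟩ := andre_point hodd hc hc'
  refine ⟨e, he, line_ext (fun e' : a = c' => hc'.not_mem hodd (e' ▸ hag)) ?_ ?_ hl' hcl'⟩
  · have h := (smul_mem_smul e a l).mpr hl
    rwa [he.2.1 a hag] at h
  · exact hec ▸ (smul_mem_smul e c l).mpr hcl

theorem Bad.dvd (hodd : Odd ordr) (hF : Rich H) {a r : P} (hb : Bad H a r) {g : L}
    (hag : a ∈ g) (hrg : r ∈ g) :
    ordr ∣ Nat.card (H ⊓ elGroup P g : Subgroup (Coll P L)) := by
  obtain ⟨l, hal, hlg⟩ := exists_through_ne a g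
  set E : Subgroup (Coll P L) := H ⊓ elGroup P g
  have horb : MulAction.orbit E l = {t : L | a ∈ t ∧ t ≠ g} := by
    ext t
    constructor
    · rintro ⟨e, rfl⟩
      refine ⟨?_, fun e' => hlg (MulAction.injective (e : Coll P L) (e'.trans e.2.2.1.smul_line.symm))⟩
      have h := (smul_mem_smul (e : Coll P L) a l).mpr hal
      rwa [e.2.2.1 a hag] at h
    · rintro ⟨h1, h2⟩
      obtain ⟨e, he, het⟩ := hb.trans hodd hF hag hrg hal hlg h1 h2
      exact ⟨⟨e, he⟩, het⟩
  have h1 : (MulAction.orbit E l).ncard = ordr := by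
    rw [horb, ← Nat.card_coe_set_eq, ← ProjectivePlane.Dual.order P L]
    exact card_line_sdiff (P := Dual L) (L := Dual P) (d := g) (m := a) hag
  have h2 := MulAction.index_stabilizer (G := E) l
  rw [h1] at h2
  exact h2 ▸ Subgroup.index_dvd_card _

theorem bad_cfg (hodd : Odd ordr) (hF : Rich H) (hP : ¬ HasPE H) {a r : P} (hb : Bad H a r)
    {g : L} (hag : a ∈ g) (hrg : r ∈ g) : ∃ d j, Cfg H g d j ∧ d ≠ a ∧ d ≠ r := by
  obtain ⟨l, hal, hlg⟩ := exists_through_ne a g
  obtain ⟨c, -, hc⟩ := hb.meet hF hag hrg hal hlg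
  obtain ⟨d, j, hcfg⟩ := full_line hodd hP hc (hb.dvd hodd hF hag hrg)
  have ne : ∀ {x y : P}, Bad H x y → x ∈ g → y ∈ g → d ≠ x := by
    rintro x y hxy hx hy rfl
    obtain ⟨t, ht, htg⟩ := exists_through_ne d g
    obtain ⟨t', ht', h1, h2⟩ := exists_through_ne₂ d g t
    obtain ⟨e, he, het⟩ := hxy.trans hodd hF hx hy ht htg ht' h1
    exact h2 ((hcfg.2.2.2.2.1 he).2 t ht ▸ het).symm
  exact ⟨d, j, hcfg, ne hb hag hrg, ne hb.symm hrg hag⟩

theorem Cfg.a_not_mem_j {g j : L} {d a : P} (hc : Cfg H g d j) (hag : a ∈ g) (had : a ≠ d) :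
    a ∉ j := fun e => had (point_ext hc.2.2.1 e hc.2.1 hag hc.1)

theorem Cfg.moves {g j : L} {d a : P} (hc : Cfg H g d j) (hag : a ∈ g) (had : a ≠ d)
    {e : Coll P L} (he : e ∈ H ⊓ flGroup d g) (he1 : e ≠ 1) {t : L} (hat : a ∈ t) (htg : t ≠ g) :
    e • t ≠ t := fun h => by
  rcases fixed_line_center he.2.1 he.2.2 he1 h with h' | h'
  · exact htg h'
  · exact htg (line_ext had hat h' hag hc.1)

theorem Cfg.axis_through (hodd : Odd ordr) (hP : ¬ HasPE H) {g j k : L} {d a : P}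
    (hc : Cfg H g d j) (hag : a ∈ g) (had : a ≠ d) (hk : Hom H a k) : d ∈ k := by
  by_contra hdk
  obtain ⟨e, he, he1⟩ := exists_ne_one_of_dvd hc.2.2.2.1
  have hak := hk.not_mem hodd
  have hkg : k ≠ g := fun e' => hak (e' ▸ hag)
  have hek : e • k ≠ k := fun h => (fixed_line_center he.2.1 he.2.2 he1 h).elim hkg hdk
  have hk' : Hom H a (e • k) := by
    have := hk.conj (g := e) he.1
    rwa [he.2.1 a hag] at this
  obtain ⟨t, f, hat, hfH, hf, hfk⟩ := andre_line hodd hk hk'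
  have hf1 : f ≠ 1 := fun h => hek (by rw [← hfk, h, one_smul])
  obtain ⟨s, hsk, hsg⟩ := exists_meet (P := P) hkg
  have hse : s ∈ e • k := he.2.1 s hsg ▸ (smul_mem_smul e s k).mpr hsk
  obtain ⟨u, huk, hut⟩ := exists_meet (P := P) (show k ≠ t from fun h => hak (h ▸ hat))
  have hue : u ∈ e • k := by
    rw [← hfk, ← hf.1 u hut]
    exact (smul_mem_smul f u k).mpr huk
  obtain rfl : u = s := point_ext hek hue hse huk hsk
  have htg : t = g := line_ext (fun h : a = u => hak (h ▸ huk)) hat hut hag hsg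
  exact had (lonely_center hP hc.1 hc.2.2.2.1 hfH hf1 hag (htg ▸ hf.1) hf.2)

theorem Cfg.axis_or (hodd : Odd ordr) (hP : ¬ HasPE H) {g j k : L} {d a : P}
    (hc : Cfg H g d j) (hag : a ∈ g) (had : a ≠ d) (hk : Hom H a k) : Hom H a j := by
  classical
  cases nonempty_fintype L
  obtain ⟨c, hcj, hcd⟩ := exists_mem_ne j d
  obtain ⟨h, hH, h1, h2, hax, hce⟩ := (hc.2.2.2.2.2 c).mpr ⟨hcj, hcd⟩
  let S : Finset L := Finset.univ.filter fun t => Hom H a t
  have hS : Odd S.card := by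
    rw [← Fintype.card_subtype, ← Nat.card_eq_fintype_card]
    exact odd_card_axes hodd hk
  obtain ⟨t, ht, htf⟩ : ∃ t ∈ S, h • t = t := by
    by_contra hne
    push Not at hne
    refine Nat.not_even_iff_odd.mpr hS (even_card_of_fpf h2 S (fun t ht => ?_) hne)
    simp only [S, Finset.mem_filter, Finset.mem_univ, true_and] at ht ⊢
    have := ht.conj (g := h) hH
    rwa [hax a hag] at this
  simp only [S, Finset.mem_filter, Finset.mem_univ, true_and] at ht
  have hat := ht.not_mem hodd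
  rcases fixed_line_center hax hce h1 htf with rfl | hct
  · exact absurd hag hat
  · rwa [line_ext hcd hct (hc.axis_through hodd hP hag had ht) hcj hc.2.1] at ht

/-- The point is the centre of no involutory perspectivity. -/
def Axisless (H : Subgroup (Coll P L)) (a : P) : Prop := ∀ k : L, ¬ Hom H a k

theorem exists_axisless (hodd : Odd ordr) (hF : Rich H) (hP : ¬ HasPE H) {a r : P}
    (hb : Bad H a r) : ∃ a' r', Bad H a' r' ∧ Axisless H a' := by
  obtain ⟨g, hag, hrg⟩ := exists_line_through (L := L) hb.1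
  obtain ⟨d, j, hc, hda, hdr⟩ := bad_cfg hodd hF hP hb hag hrg
  by_cases h1 : Axisless H a
  · exact ⟨a, r, hb, h1⟩
  by_cases h2 : Axisless H r
  · exact ⟨r, a, hb.symm, h2⟩
  simp only [Axisless, not_forall, not_not] at h1 h2
  obtain ⟨k, hk⟩ := h1
  obtain ⟨k', hk'⟩ := h2
  obtain ⟨e, he, hea⟩ := andre_point hodd (hc.axis_or hodd hP hag hda.symm hk)
    (hc.axis_or hodd hP hrg hdr.symm hk')
  obtain ⟨b, hbj, hbc⟩ := elation_center he.2.1 he.2.2
  have hba : b ≠ a := fun e' => hc.a_not_mem_j hag hda.symm (e' ▸ hbj)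
  obtain ⟨t, hbt, hat⟩ := exists_line_through (L := L) hba
  have hbg : b ∈ g := line_ext hb.1 hat (hea ▸ hbc.mem_line hbt hat) hag hrg ▸ hbt
  obtain rfl : b = d := point_ext hc.2.2.1 hbj hc.2.1 hbg hc.1
  have he1 : e ≠ 1 := fun h => hb.1 (by rw [← hea, h, one_smul])
  exact absurd (lonely_axis hP hc.1 hc.2.2.2.1 he.1 he1 hc.2.1 he.2.1 hbc) hc.2.2.1

section Axisless

variable (hodd : Odd (ProjectivePlane.order P L)) (hF : Rich H) (hP : ¬ HasPE H) {a r : P}
  (hb : Bad H a r) (hax : Axisless H a)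

include hodd hF hP hb in
theorem no_elation_centred {f : Coll P L} {t : L} (hf : f ∈ H) (hat : a ∈ t)
    (hfa : IsAxis f t) (hfc : IsCenter f a) : f = 1 := by
  classical
  by_contra hf1
  obtain ⟨g, hag, hrg⟩ := exists_line_through (L := L) hb.1
  obtain ⟨d, j, hc, hda, -⟩ := bad_cfg hodd hF hP hb hag hrg
  have axis_ne : ∀ {u : Coll P L} {s : L}, u ∈ H → u ≠ 1 → IsAxis u s → IsCenter u a → s ≠ g :=
    fun hu hu1 hua huc h => hda (lonely_center hP hc.1 hc.2.2.2.1 hu hu1 hag (h ▸ hua) huc).symm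
  obtain ⟨e₀, he₀, he₀1⟩ := exists_ne_one_of_dvd hc.2.2.2.1
  let Ea : Subgroup (Coll P L) := H ⊓ (elGroup (P := Dual L) (L := Dual P) a).comap (dualHom P L)
  have mem : ∀ {u : Coll P L}, u ∈ Ea ↔ u ∈ H ∧ IsCenter u a ∧ ∃ s : L, a ∈ s ∧ IsAxis u s := by
    intro u
    constructor
    · rintro ⟨h1, h2⟩
      obtain ⟨h3, s, hs, h4⟩ := mem_elGroup_iff.mp (Subgroup.mem_comap.mp h2)
      exact ⟨h1, h3, s, hs, h4⟩
    · rintro ⟨h1, h2, s, hs, h3⟩
      exact ⟨h1, Subgroup.mem_comap.mpr (mem_elGroup_of_center (P := Dual L) (L := Dual P) h2 h3 hs)⟩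
  have hfE : f ∈ Ea := mem.mpr ⟨hf, hfc, t, hat, hfa⟩
  have conjE : ∀ {e u : Coll P L}, e ∈ H ⊓ flGroup d g → u ∈ Ea → e * u * e⁻¹ ∈ Ea := by
    intro e u he hu
    obtain ⟨h1, h2, s, hs, h3⟩ := mem.mp hu
    refine mem.mpr ⟨H.mul_mem (H.mul_mem he.1 h1) (H.inv_mem he.1), ?_, e • s, ?_, isAxis_conj h3 e⟩
    · have := isCenter_conj h2 e
      rwa [he.2.1 a hag] at this
    · exact he.2.1 a hag ▸ (smul_mem_smul e a s).mpr hs
  obtain ⟨p, hp, hexp⟩ : ∃ p : ℕ, p.Prime ∧ ∀ u ∈ Ea, u ^ p = 1 := by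
    have inj : ∀ {u : Coll P L}, dualHom P L u = 1 → u = 1 := fun h =>
      dualHom_injective (h.trans (map_one _).symm)
    obtain ⟨-, p, hp, hexp⟩ := elation_elementary (P := Dual L) (L := Dual P)
      (A := Ea.map (dualHom P L)) (l := a) (a := dualHom P L f)
      (b := dualHom P L (e₀ * f * e₀⁻¹)) (c := t) (d := e₀ • t)
      (by rintro _ ⟨u, hu, rfl⟩; exact hu.2) ⟨f, hfE, rfl⟩ ⟨_, conjE he₀ hfE, rfl⟩
      (fun h => hf1 (inj h)) (fun h => hf1 (conj_eq_one_iff.mp (inj h))) hfa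
      (isAxis_conj hfa e₀)
      (fun h => hc.moves hag hda.symm he₀ he₀1 hat (axis_ne hf hf1 hfa hfc) h.symm)
    exact ⟨p, hp, fun u hu => inj (by rw [map_pow]; exact hexp _ ⟨u, hu, rfl⟩)⟩
  haveI : Fact p.Prime := ⟨hp⟩
  obtain ⟨b, hb'⟩ := IsPGroup.iff_card.mp
    (show IsPGroup p Ea from fun x => ⟨1, Subtype.ext (by simpa using hexp x.1 x.2)⟩)
  have hdvd : Nat.card Ea ∣ ProjectivePlane.order P L ^ 2 := by
    rw [← ProjectivePlane.Dual.order P L,
      ← Subgroup.card_map_of_injective (dualHom_injective (P := P) (L := L))]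
    refine (Subgroup.card_dvd_of_le ?_).trans (card_elGroup_dvd (P := Dual L) (L := Dual P) a)
    rintro _ ⟨u, hu, rfl⟩
    exact hu.2
  let E : Subgroup (Coll P L) := H ⊓ flGroup d g
  let X := {u : Ea // u ≠ 1}
  letI : MulAction E X :=
    { smul := fun e u => ⟨⟨(e : Coll P L) * u.1.1 * (e : Coll P L)⁻¹, conjE e.2 u.1.2⟩, fun h =>
        u.2 (Subtype.ext (conj_eq_one_iff.mp (congrArg Subtype.val h)))⟩
      one_smul := fun u => Subtype.ext (Subtype.ext (by
        show (1 : Coll P L) * u.1.1 * (1 : Coll P L)⁻¹ = u.1.1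
        group))
      mul_smul := fun e e' u => Subtype.ext (Subtype.ext (by
        show ((e : Coll P L) * e') * u.1.1 * ((e : Coll P L) * e')⁻¹
          = (e : Coll P L) * ((e' : Coll P L) * u.1.1 * (e' : Coll P L)⁻¹) * (e : Coll P L)⁻¹
        group)) }
  have hX : Nat.card E ∣ Nat.card X := card_dvd_of_free fun e u h => by
    by_contra he1
    have h' : (e : Coll P L) * u.1.1 * (e : Coll P L)⁻¹ = u.1.1 :=
      congrArg (fun z : X => (z.1 : Coll P L)) h
    obtain ⟨h1, h2, s, hs, h3⟩ := mem.mp u.1.2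
    have hu1 : (u.1 : Coll P L) ≠ 1 := fun h => u.2 (Subtype.ext h)
    have h4 := isAxis_conj h3 (e : Coll P L)
    rw [h'] at h4
    exact hc.moves hag hda.symm e.2 (fun h => he1 (Subtype.ext h)) hs (axis_ne h1 hu1 h3 h2)
      (axis_unique h4 h3 hu1)
  have hXc : Nat.card X + 1 = Nat.card Ea := by
    haveI : Fintype Ea := Fintype.ofFinite _
    have : 0 < Fintype.card Ea := Fintype.card_pos
    rw [Nat.card_eq_fintype_card, Nat.card_eq_fintype_card, Fintype.card_subtype_compl,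
      Fintype.card_subtype_eq]
    omega
  have hb0 : b ≠ 0 := by
    intro h0
    rw [h0, pow_zero] at hb'
    exact hf1 (Subgroup.mem_bot.mp (Subgroup.card_eq_one.mp hb' ▸ hfE))
  have hpE : p ∣ Nat.card Ea := hb' ▸ dvd_pow_self p hb0
  have hpm : p ∣ ProjectivePlane.order P L := hp.dvd_of_dvd_pow (hpE.trans hdvd)
  exact hp.not_dvd_one ((Nat.dvd_add_right ((hpm.trans hc.2.2.2.1).trans hX)).mp (hXc ▸ hpE))

include hodd hF hP hb in
theorem card_el_dvd {k : L} (hk : a ∈ k) :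
    Nat.card (H ⊓ elGroup P k : Subgroup (Coll P L)) ∣ ProjectivePlane.order P L := by
  let E : Subgroup (Coll P L) := H ⊓ elGroup P k
  let X := {t : L // a ∈ t ∧ t ≠ k}
  letI : MulAction E X :=
    { smul := fun e t => ⟨(e : Coll P L) • t.1,
        (mem_smul_line (e : Coll P L) a t.1).mpr (by
          rw [inv_smul_eq_iff.mpr (e.2.2.1 a hk).symm]; exact t.2.1),
        fun h => t.2.2 (MulAction.injective (e : Coll P L) (h.trans e.2.2.1.smul_line.symm))⟩
      one_smul := fun t => Subtype.ext (one_smul _ _)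
      mul_smul := fun e e' t => Subtype.ext (mul_smul _ _ _) }
  have h1 : Nat.card X = ProjectivePlane.order P L := by
    rw [← ProjectivePlane.Dual.order P L]
    exact card_line_sdiff (P := Dual L) (L := Dual P) (d := k) (m := a) hk
  rw [← h1]
  refine card_dvd_of_free (A := E) fun e t h => ?_
  by_contra he1
  have he1' : (e : Coll P L) ≠ 1 := fun h => he1 (Subtype.ext h)
  obtain ⟨c, hck, hc⟩ := elation_center e.2.2.1 e.2.2.2
  rcases fixed_line_center e.2.2.1 hc he1' (congrArg Subtype.val h) with h' | h'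
  · exact t.2.2 h'
  · rw [point_ext t.2.2 h' t.2.1 hck hk] at hc
    exact he1' (no_elation_centred hodd hF hP hb e.2.1 hk e.2.2.1 hc)

include hodd hF hP hb hax in
theorem cfg_all {k : L} (hk : a ∈ k) : ∃ d j, Cfg H k d j ∧ d ≠ a := by
  classical
  obtain ⟨g, hag, hrg⟩ := exists_line_through (L := L) hb.1
  obtain ⟨d, j, hc, hda, -⟩ := bad_cfg hodd hF hP hb hag hrg
  by_cases hkg : k = g
  · exact ⟨d, j, hkg ▸ hc, hda⟩
  by_cases hex : ∃ x, x ∈ k ∧ Bad H a x
  · obtain ⟨x, hxk, hx⟩ := hex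
    obtain ⟨d', j', hc', hd', -⟩ := bad_cfg hodd hF hP hx hk hxk
    exact ⟨d', j', hc', hd'⟩
  push Not at hex
  cases nonempty_fintype P
  cases nonempty_fintype L
  let n := ProjectivePlane.order P L
  have hn : 2 < n := two_lt_order_of_odd hodd
  let C : L → Finset P := fun t => Finset.univ.filter fun x => Hom H x t
  let T : Finset L := Finset.univ.filter fun t => a ∈ t ∧ t ≠ g
  have hT : T.card = n := by
    rw [← Fintype.card_subtype, ← Nat.card_eq_fintype_card]
    show _ = ProjectivePlane.order P L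
    rw [← ProjectivePlane.Dual.order P L]
    exact card_line_sdiff (P := Dual L) (L := Dual P) (d := g) (m := a) hag
  have hCt : ∀ t ∈ T, (C t).card ≤ (C k).card := by
    intro t ht
    simp only [T, Finset.mem_filter, Finset.mem_univ, true_and] at ht
    obtain ⟨e, he, hek⟩ := hb.trans hodd hF hag hrg ht.1 ht.2 hk hkg
    refine Finset.card_le_card_of_injOn (fun x => e • x) (fun x hx => ?_)
      (MulAction.injective e).injOn
    simp only [C, Finset.coe_filter, Finset.mem_univ, true_and, Set.mem_ofPred_eq] at hx ⊢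
    have := hx.conj (g := e) he.1
    rwa [hek] at this
  have hcov : (Finset.univ.filter fun x : P => x ∉ g) ⊆ C g ∪ T.biUnion C := by
    intro x hx
    simp only [Finset.mem_filter, Finset.mem_univ, true_and] at hx
    have hxa : a ≠ x := fun h => hx (h ▸ hag)
    obtain ⟨t, hat, hxt⟩ := exists_line_through (L := L) hxa
    have htg : t ≠ g := fun h => hx (h ▸ hxt)
    obtain ⟨e, he, hek⟩ := hb.trans hodd hF hag hrg hat htg hk hkg
    have hnb : ¬ Bad H a x := fun hbx => by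
      have := hbx.conj (g := e) he.1
      rw [he.2.1 a hag] at this
      exact hex (e • x) (hek ▸ (smul_mem_smul e x t).mpr hxt) this
    obtain ⟨s, has, hs⟩ : ∃ s, a ∈ s ∧ Hom H x s := by
      by_contra h
      push Not at h
      exact hnb ⟨hxa, fun s _ => hax s, h⟩
    simp only [C, T, Finset.mem_union, Finset.mem_biUnion, Finset.mem_filter, Finset.mem_univ,
      true_and]
    by_cases hsg : s = g
    · exact Or.inl (hsg ▸ hs)
    · exact Or.inr ⟨s, ⟨has, hsg⟩, hs⟩
  have hCg : (C g).card = n := by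
    rw [← Fintype.card_subtype, ← Nat.card_eq_fintype_card,
      Nat.card_congr (Equiv.subtypeEquivRight hc.2.2.2.2.2)]
    exact card_line_sdiff hc.2.1
  have hmain : n ^ 2 ≤ n + n * (C k).card := by
    calc n ^ 2 = (Finset.univ.filter fun x : P => x ∉ g).card := by
          rw [← Fintype.card_subtype, ← Nat.card_eq_fintype_card, card_off_line g]
      _ ≤ (C g).card + (T.biUnion C).card :=
          (Finset.card_le_card hcov).trans (Finset.card_union_le _ _)
      _ ≤ n + n * (C k).card := by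
          rw [hCg]
          refine Nat.add_le_add_left (Finset.card_biUnion_le.trans ?_) _
          calc T.sum (fun t => (C t).card) ≤ T.sum (fun _ => (C k).card) := Finset.sum_le_sum hCt
            _ = n * (C k).card := by rw [Finset.sum_const, hT, smul_eq_mul]
  have hge : n ≤ (C k).card + 1 := by
    refine Nat.le_of_mul_le_mul_left ?_ (show 0 < n by omega)
    rw [mul_add, mul_one, ← sq]
    omega
  obtain ⟨c₀, hc₀⟩ : ∃ c₀, Hom H c₀ k := by
    obtain ⟨c₀, hc₀⟩ := Finset.card_pos.mp (show 0 < (C k).card by omega)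
    exact ⟨c₀, (Finset.mem_filter.mp hc₀).2⟩
  have hCk : (C k).card = Nat.card (H ⊓ elGroup P k : Subgroup (Coll P L)) := by
    rw [← Fintype.card_subtype, ← Nat.card_eq_fintype_card]
    exact card_centres hodd hc₀
  have hdv := card_el_dvd hodd hF hP hb hk
  rw [← hCk] at hdv
  have heq : (C k).card = n := by
    have hle := Nat.le_of_dvd (by omega) hdv
    by_contra hne
    have h2 : n = (C k).card + 1 := by omega
    have h3 : (C k).card ∣ 1 := (Nat.dvd_add_right dvd_rfl).mp (h2 ▸ hdv)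
    have := Nat.le_of_dvd one_pos h3
    omega
  obtain ⟨d', j', hc'⟩ := full_line hodd hP hc₀ (hCk ▸ heq ▸ dvd_rfl)
  refine ⟨d', j', hc', fun h => ?_⟩
  obtain ⟨e, he, he1⟩ := exists_ne_one_of_dvd hc'.2.2.2.1
  exact he1 (no_elation_centred hodd hF hP hb he.1 hk he.2.1 (h ▸ he.2.2))

include hodd hF hP hb hax in
theorem axisless_struct :
    ∃ j : L, a ∉ j ∧ ∀ k : L, a ∈ k → ∃ d, Cfg H k d j ∧ d ≠ a := by
  have meet : ∀ {k k' j j' : L} {d d' : P}, a ∈ k → a ∈ k' → k ≠ k' → Cfg H k d j → d ≠ a →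
      Cfg H k' d' j' → d' ≠ a → d' ∈ j := by
    intro k k' j j' d d' hk hk' hkk hc hd hc' hd'
    have haj := hc.a_not_mem_j hk hd.symm
    obtain ⟨x, hxk', hxj⟩ := exists_meet (P := P) (show k' ≠ j from fun h => haj (h ▸ hk'))
    have hxd : x ≠ d := fun h => hd (point_ext hkk hc.1 hk (h ▸ hxk') hk')
    obtain ⟨h, hH, h1, h2, hax', hce⟩ := (hc.2.2.2.2.2 x).mpr ⟨hxj, hxd⟩
    obtain ⟨e, he, he1⟩ := exists_ne_one_of_dvd hc'.2.2.2.1
    have hmem : h * e * h⁻¹ ∈ H ⊓ elGroup P k' := by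
      refine ⟨H.mul_mem (H.mul_mem hH he.1) (H.inv_mem hH), ?_⟩
      have h' := flGroup_conj (k := h) he.2
      rw [hce k' hxk'] at h'
      exact mem_elGroup_of_center h'.1 h'.2 (hce k' hxk' ▸ (smul_mem_smul h d' k').mpr hc'.1)
    have hfix : h • d' = d' := center_unique (isCenter_conj he.2.2 h) (hc'.2.2.2.2.1 hmem).2
      fun h' => he1 (conj_eq_one_iff.mp h')
    by_cases hd'k : d' ∈ k
    · exact absurd (point_ext hkk hd'k hk hc'.1 hk') hd'
    · rw [center_eq_of_fixed hax' hce h1 hd'k hfix]; exact hxj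
  obtain ⟨g, hag, -⟩ := exists_line_through (L := L) hb.1
  obtain ⟨d, j, hc, hd⟩ := cfg_all hodd hF hP hb hax hag
  refine ⟨j, hc.a_not_mem_j hag hd.symm, fun k hk => ?_⟩
  by_cases hkg : k = g
  · exact ⟨d, hkg ▸ hc, hd⟩
  obtain ⟨d', j', hc', hd'⟩ := cfg_all hodd hF hP hb hax hk
  have e1 := meet hk hag hkg hc' hd' hc hd
  have e2 := meet hag hk (Ne.symm hkg) hc hd hc' hd'
  have hdd : d ≠ d' := fun h => hd (point_ext hkg (h ▸ hc'.1) hk hc.1 hag)
  exact ⟨d', line_ext hdd e1 hc'.2.1 hc.2.1 e2 ▸ hc', hd'⟩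

include hodd hF hP hb hax in
theorem axisless_false : False := by
  obtain ⟨j, haj, hst⟩ := axisless_struct hodd hF hP hb hax
  have centre_mem : ∀ {x : P} {k : L}, a ∈ k → Hom H x k → x ∈ j := fun hk hx => by
    obtain ⟨d, hc, -⟩ := hst _ hk
    exact ((hc.2.2.2.2.2 _).mp hx).1
  have at_point : ∀ {x : P} {k : L}, x ∈ j → a ∈ k → x ∈ k → Cfg H k x j := fun hxj hk hxk => by
    obtain ⟨d, hc, -⟩ := hst _ hk
    rwa [← point_ext (fun h : j = _ => haj (h ▸ hk)) hc.2.1 hxj hc.1 hxk]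
  -- a homology whose axis avoids the point
  obtain ⟨c₀, k₀, hak₀, hh⟩ : ∃ c k, a ∉ k ∧ Hom H c k := by
    obtain ⟨u, huj, -⟩ := exists_mem_ne j a
    obtain ⟨ua, hua, haua⟩ := exists_line_through (L := L) (fun h : u = a => haj (h ▸ huj))
    obtain ⟨k, huk, hkj, hkua⟩ := exists_through_ne₂ u j ua
    have hak : a ∉ k := fun h => hkua (line_ext (fun h' : u = a => haj (h' ▸ huj)) huk h hua haua)
    obtain ⟨y, hyk, hyu⟩ := exists_mem_ne k u
    obtain ⟨y', hy'k, hy'u, hyy⟩ := exists_mem_ne₂ k u y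
    have off : ∀ {z : P}, z ∈ k → z ≠ u → z ∉ j := fun hz hzu h =>
      hkj (line_ext hzu hz huk h huj)
    by_cases hbd : Bad H y y'
    · obtain ⟨d, j', hc, -⟩ := bad_cfg hodd hF hP hbd hyk hy'k
      obtain ⟨c, hcj, hcd⟩ := exists_mem_ne j' d
      exact ⟨c, k, hak, (hc.2.2.2.2.2 c).mpr ⟨hcj, hcd⟩⟩
    · rcases not_and_or.mp (fun h => hbd ⟨hyy.symm, h⟩) with h | h <;> push Not at h <;>
        obtain ⟨k', -, hk'⟩ := h
      · exact ⟨y, k', fun h => off hyk hyu (centre_mem h hk'), hk'⟩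
      · exact ⟨y', k', fun h => off hy'k hy'u (centre_mem h hk'), hk'⟩
  by_cases hcj : c₀ ∈ j
  · obtain ⟨x, hxj, hxc⟩ := exists_mem_ne j c₀
    obtain ⟨k₁, hak₁, hxk₁⟩ := exists_line_through (L := L) (fun h : a = x => haj (h ▸ hxj))
    obtain ⟨k₂, hak₂, hck₂⟩ := exists_line_through (L := L) (fun h : a = c₀ => haj (h ▸ hcj))
    have hc1 : Hom H c₀ k₁ := ((at_point hxj hak₁ hxk₁).2.2.2.2.2 c₀).mpr ⟨hcj, hxc.symm⟩
    obtain ⟨t, f, hct, hfH, hf, hfk⟩ := andre_line hodd hc1 hh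
    have hf1 : f ≠ 1 := fun h => hak₀ (by rw [← hfk, h, one_smul]; exact hak₁)
    have hcfg := at_point hcj hak₂ hck₂
    obtain rfl := lonely_axis hP hcfg.1 hcfg.2.2.2.1 hfH hf1 hct hf.1 hf.2
    refine hak₀ ?_
    rw [← hfk, ← hf.1 a hak₂]
    exact (smul_mem_smul f a k₁).mpr hak₁
  obtain ⟨h, hH, h1, h2, hha, hhc⟩ := id hh
  set a' := h • a with ha'def
  have ha' : a' ≠ a := fun e => hak₀ (by
    by_contra hk
    exact hax k₀ (center_eq_of_fixed hha hhc h1 hk e ▸ hh))
  have hax' : Axisless H a' := fun k hk => by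
    have := hk.conj (g := h⁻¹) (H.inv_mem hH)
    rw [inv_smul_smul] at this
    exact hax _ this
  obtain ⟨j', -, hst'⟩ := axisless_struct hodd hF hP (hb.conj hH) hax'
  obtain ⟨l, hal, ha'l⟩ := exists_line_through (L := L) ha'.symm
  obtain ⟨d, hc, -⟩ := hst l hal
  obtain ⟨d', hc', -⟩ := hst' l ha'l
  obtain ⟨u, huj, hud⟩ := exists_mem_ne j d
  obtain ⟨v, hvj, hvd, hvu⟩ := exists_mem_ne₂ j d u
  have hu' := ((hc'.2.2.2.2.2 u).mp ((hc.2.2.2.2.2 u).mpr ⟨huj, hud⟩)).1
  have hv' := ((hc'.2.2.2.2.2 v).mp ((hc.2.2.2.2.2 v).mpr ⟨hvj, hvd⟩)).1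
  obtain rfl : j' = j := line_ext hvu hv' hu' hvj huj
  have hul : u ∉ l := fun h => hud (point_ext hc.2.2.1 huj hc.2.1 h hc.1)
  obtain ⟨k, hak, huk⟩ := exists_line_through (L := L) (fun h : a = u => hul (h ▸ hal))
  obtain ⟨k', ha'k', huk'⟩ := exists_line_through (L := L) (fun h : a' = u => hul (h ▸ ha'l))
  obtain ⟨d₂, hc₂, -⟩ := hst' k' ha'k'
  have hd₂ : d₂ = u :=
    point_ext hc₂.2.2.1 hc₂.2.1 huj hc₂.1 huk'
  rw [hd₂] at hc₂
  obtain ⟨e, he, he1⟩ := exists_ne_one_of_dvd hc₂.2.2.2.1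
  have hcfg := at_point huj hak huk
  obtain rfl := lonely_axis hP hcfg.1 hcfg.2.2.2.1 he.1 he1 huk' he.2.1 he.2.2
  exact hul (line_ext ha'.symm hak ha'k' hal ha'l ▸ huk)

end Axisless

theorem fixed_on_line (hodd : Odd ordr) (hnb : ∀ a r : P, ¬ Bad H a r) {x y : P} {l : L}
    (hx : x ∈ l) (hy : y ∈ l) (hxy : x ≠ y) :
    ∃ h ∈ H, h * h = 1 ∧ h • l = l ∧ h • x = x ∧ h • y = y ∧
      ∀ z : P, z ∈ l → h • z = z → z = x ∨ z = y := by
  have key : ∀ {x y : P}, x ∈ l → y ∈ l → (∃ k, y ∈ k ∧ Hom H x k) →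
      ∃ h ∈ H, h * h = 1 ∧ h • l = l ∧ h • x = x ∧ h • y = y ∧
        ∀ z : P, z ∈ l → h • z = z → z = x ∨ z = y := by
    rintro x y hx hy ⟨k, hyk, hk⟩
    have hxk := hk.not_mem hodd
    obtain ⟨h, hH, h1, h2, ha, hc⟩ := hk
    refine ⟨h, hH, h2, hc l hx, hc.smul_point, ha y hyk, fun z hz hhz => ?_⟩
    by_cases hzk : z ∈ k
    · exact Or.inr (point_ext (fun e : k = l => hxk (e ▸ hx)) hzk hyk hz hy)
    · exact Or.inl (center_eq_of_fixed ha hc h1 hzk hhz)
  rcases not_and_or.mp (fun h => hnb x y ⟨hxy, h⟩) with h | h <;> push Not at h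
  · exact key hx hy h
  · obtain ⟨g, h1, h2, h3, h4, h5, h6⟩ := key hy hx h
    exact ⟨g, h1, h2, h3, h5, h4, fun z hz hgz => (h6 z hz hgz).symm⟩

theorem line_trans (hodd : Odd ordr) (hnb : ∀ a r : P, ¬ Bad H a r) {a b : P} {l : L}
    (ha : a ∈ l) (hb : b ∈ l) : ∃ g ∈ H, g • l = l ∧ g • a = b := by
  classical
  cases nonempty_fintype P
  let R : P → P → Prop := fun x y => ∃ g ∈ H, g • l = l ∧ g • x = y
  have hRself : ∀ x, R x x := fun x => ⟨1, one_mem _, one_smul _ _, one_smul _ _⟩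
  let O : P → Finset P := fun x => Finset.univ.filter (R x)
  have hinv : ∀ {h : Coll P L} {x z : P}, h ∈ H → h • l = l → z ∈ O x → h • z ∈ O x := by
    intro h x z hh hl hz
    simp only [O, Finset.mem_filter, Finset.mem_univ, true_and] at hz ⊢
    obtain ⟨g, hg, hgl, rfl⟩ := hz
    exact ⟨h * g, H.mul_mem hh hg, by rw [mul_smul, hgl, hl], mul_smul _ _ _⟩
  have hmem : ∀ {x z : P}, x ∈ l → z ∈ O x → z ∈ l := by
    intro x z hx hz
    simp only [O, Finset.mem_filter, Finset.mem_univ, true_and] at hz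
    obtain ⟨g, hg, hgl, rfl⟩ := hz
    exact hgl ▸ (smul_mem_smul g x l).mpr hx
  have single : ∀ {u v : P}, u ∈ l → v ∈ l → ¬ R u v → ∀ z, R u z → z = u := by
    intro u v hu hv huv z hz
    by_contra hzu
    have hzl : z ∈ l := hmem hu (by simp [O, hz])
    have huO : u ∈ O u := by simp [O, hRself]
    have hzO : z ∈ O u := by simp [O, hz]
    have hvO : v ∉ O u := by simp [O, huv]
    have huv' : u ≠ v := fun e => huv (e ▸ hRself u)
    obtain ⟨h, hH, h2, hl, hhu, -, hfix⟩ := fixed_on_line hodd hnb hu hv huv'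
    obtain ⟨h', hH', h2', hl', hu', hz', hfix'⟩ := fixed_on_line hodd hnb hu hzl (Ne.symm hzu)
    have e1 : Even ((O u).erase u).card := by
      refine even_card_of_fpf h2 _ (fun w hw => ?_) fun w hw hhw => ?_
      · rw [Finset.mem_erase] at hw ⊢
        exact ⟨fun e => hw.1 (MulAction.injective h (e.trans hhu.symm)), hinv hH hl hw.2⟩
      · rw [Finset.mem_erase] at hw
        rcases hfix w (hmem hu hw.2) hhw with e | e
        · exact hw.1 e
        · exact hvO (e ▸ hw.2)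
    have e2 : Even (((O u).erase u).erase z).card := by
      refine even_card_of_fpf h2' _ (fun w hw => ?_) fun w hw hhw => ?_
      · rw [Finset.mem_erase, Finset.mem_erase] at hw ⊢
        exact ⟨fun e => hw.1 (MulAction.injective h' (e.trans hz'.symm)),
          fun e => hw.2.1 (MulAction.injective h' (e.trans hu'.symm)), hinv hH' hl' hw.2.2⟩
      · rw [Finset.mem_erase, Finset.mem_erase] at hw
        rcases hfix' w (hmem hu hw.2.2) hhw with e | e
        · exact hw.2.1 e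
        · exact hw.1 e
    have hz'' : z ∈ (O u).erase u := Finset.mem_erase.mpr ⟨hzu, hzO⟩
    rw [← Finset.card_erase_add_one hz''] at e1
    exact (Nat.even_add_one.mp e1) e2
  by_contra hab
  have hab' : a ≠ b := fun e => hab (e ▸ hRself a)
  obtain ⟨c, hc, hca, hcb⟩ := exists_mem_ne₂ l a b
  have hac : ¬ R a c := fun h => hca (single ha hb hab c h)
  have hca' : ¬ R c a := by
    rintro ⟨g, hg, hgl, hgc⟩
    exact hac ⟨g⁻¹, H.inv_mem hg, inv_smul_eq_iff.mpr hgl.symm, inv_smul_eq_iff.mpr hgc.symm⟩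
  obtain ⟨h, hH, -, hl, -, -, hfix⟩ := fixed_on_line hodd hnb ha hb hab'
  rcases hfix c hc (single hc ha hca' (h • c) ⟨h, hH, hl, rfl⟩) with e | e
  · exact hca e
  · exact hcb e

theorem flag_trans_of_good (hodd : Odd ordr) (hnb : ∀ a r : P, ¬ Bad H a r) : FlagTrans H := by
  classical
  cases nonempty_fintype P
  cases nonempty_fintype L
  haveI : Fintype H := Fintype.ofFinite _
  have hpt : ∀ a b : P, ∃ g : H, g • a = b := by
    intro a b
    by_cases hab : a = b
    · exact ⟨1, by rw [one_smul, hab]⟩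
    obtain ⟨l, ha, hb⟩ := exists_line_through (L := L) hab
    obtain ⟨g, hg, -, hga⟩ := line_trans hodd hnb ha hb
    exact ⟨⟨g, hg⟩, hga⟩
  have bP := MulAction.sum_card_fixedBy_eq_card_orbits_mul_card_group H P
  have bL := MulAction.sum_card_fixedBy_eq_card_orbits_mul_card_group H L
  have heq : ∀ g : H, Fintype.card (MulAction.fixedBy P g) = Fintype.card (MulAction.fixedBy L g) := by
    intro g
    rw [← Nat.card_eq_fintype_card, ← Nat.card_eq_fintype_card]
    exact sum_fixed (g : Coll P L)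
  rw [Finset.sum_congr rfl fun g _ => heq g] at bP
  have horb := Nat.eq_of_mul_eq_mul_right Fintype.card_pos (bP.symm.trans bL)
  have h1 : Fintype.card (Quotient (MulAction.orbitRel H P)) ≤ 1 := by
    refine Fintype.card_le_one_iff.mpr fun q₁ q₂ => ?_
    rw [← q₁.out_eq, ← q₂.out_eq]
    exact Quotient.sound (hpt q₂.out q₁.out)
  rw [horb] at h1
  intro a c l m ha hc
  obtain ⟨g, hg⟩ : ∃ g : H, g • l = m :=
    Quotient.exact' (Fintype.card_le_one_iff.mp h1 (Quotient.mk'' m) (Quotient.mk'' l))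
  have hga : (g : Coll P L) • a ∈ m :=
    (show (g : Coll P L) • l = m from hg) ▸ (smul_mem_smul (g : Coll P L) a l).mpr ha
  obtain ⟨k, hk, hkm, hkc⟩ := line_trans hodd hnb hga hc
  exact ⟨k * g, H.mul_mem hk g.2, by rw [mul_smul, hkc],
    by rw [mul_smul, show (g : Coll P L) • l = m from hg, hkm]⟩

theorem good_case (hodd : Odd ordr) (hnb : ∀ a r : P, ¬ Bad H a r) : HasPE H := by
  classical
  cases nonempty_fintype P
  suffices h : ∃ (a : P) (k k' : L), k ≠ k' ∧ Hom H a k ∧ Hom H a k' by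
    obtain ⟨a, k, k', hkk, h1, h2⟩ := h
    obtain ⟨t, f, hat, hfH, hf, hfk⟩ := andre_line hodd h1 h2
    have hf1 : f ≠ 1 := fun e => hkk (by rw [← hfk, e, one_smul])
    have hfel := mem_elGroup_of_center hf.1 hf.2 hat
    obtain ⟨p, hp, hpow, hexp, -⟩ :=
      full_elations_of_flag (flag_trans_of_good hodd hnb) hf1 hfH hfel
    exact ⟨p, hp, hpow, f, hfH, hf1, (hexp t).1 f ⟨hfH, hfel⟩, t, hfel⟩
  by_contra hne
  push Not at hne
  set n := ProjectivePlane.order P L
  have hn : 2 < n := two_lt_order_of_odd hodd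
  let S : Finset (P × P) := Finset.univ.filter fun z => ∃ k, z.2 ∈ k ∧ Hom H z.1 k
  have hS : S.card ≤ Fintype.card P * (n + 1) := by
    refine (Finset.card_le_mul_card_image (f := Prod.fst) S (n + 1) fun a _ => ?_).trans ?_
    · by_cases hk : ∃ k, Hom H a k
      · obtain ⟨k, hk⟩ := hk
        have hk1 : Fintype.card {x : P // x ∈ k} = n + 1 := by
          rw [← Nat.card_eq_fintype_card]; exact ProjectivePlane.pointCount_eq P k
        rw [← hk1, ← Finset.card_univ]
        refine (Finset.card_le_card_of_injOn Prod.snd (t := Finset.univ.filter fun x : P => x ∈ k)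
          (fun z hz => ?_) ?_).trans (by rw [← Fintype.card_subtype, Finset.card_univ])
        · simp only [S, Finset.coe_filter, Finset.mem_filter, Finset.mem_univ, true_and,
            Set.mem_ofPred_eq] at hz ⊢
          obtain ⟨⟨k', h1, h2⟩, rfl⟩ := hz
          by_cases e : k = k'
          · exact e ▸ h1
          · exact absurd h2 (hne _ k k' e hk)
        · intro z hz z' hz' e
          simp only [Finset.coe_filter, Set.mem_ofPred_eq] at hz hz'
          exact Prod.ext (hz.2.trans hz'.2.symm) e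
      · rw [Finset.card_eq_zero.mpr (Finset.filter_eq_empty_iff.mpr fun z hz e => hk ?_)]
        · exact Nat.zero_le _
        · simp only [S, Finset.mem_filter, Finset.mem_univ, true_and] at hz
          obtain ⟨k, -, h⟩ := hz
          exact ⟨k, e ▸ h⟩
    · rw [mul_comm]
      exact Nat.mul_le_mul_right _ (Finset.card_le_univ _)
  have hcov : (Finset.univ : Finset P).offDiag ⊆ S ∪ S.image Prod.swap := by
    intro z hz
    simp only [Finset.mem_offDiag, Finset.mem_univ, true_and] at hz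
    simp only [S, Finset.mem_union, Finset.mem_image, Finset.mem_filter, Finset.mem_univ, true_and]
    rcases not_and_or.mp (fun h => hnb z.1 z.2 ⟨hz, h⟩) with h | h <;> push Not at h
    · exact Or.inl h
    · exact Or.inr ⟨z.swap, h, Prod.swap_swap z⟩
  have h3 := (Finset.card_le_card hcov).trans (Finset.card_union_le _ _)
  rw [Finset.offDiag_card, Finset.card_univ] at h3
  have h4 := h3.trans (Nat.add_le_add hS (Finset.card_image_le.trans hS))
  rw [ProjectivePlane.card_points P L] at h4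
  set N := n ^ 2 + n + 1 with hN
  have h5 : N * N ≤ N * (2 * n + 3) := by
    have := Nat.sub_le_iff_le_add.mp h4
    linarith
  have h6 := Nat.le_of_mul_le_mul_left h5 (by omega)
  nlinarith

/-- A rich group of involutory perspectivities in odd order. -/
theorem hasPE_of_rich (hodd : Odd ordr) (hF : Rich H) : HasPE H := by
  by_cases hnb : ∀ a r : P, ¬ Bad H a r
  · exact good_case hodd hnb
  push Not at hnb
  obtain ⟨a, r, hb⟩ := hnb
  by_contra hP
  obtain ⟨a', r', hb', hax⟩ := exists_axisless hodd hF hP hb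
  exact axisless_false hodd hF hP hb' hax

end Cfsg.Agent.OW
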