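import Cfsg.Agent.Lib.Plane.Stabilizers
import Cfsg.Agent.Lib.Plane.Homologies

/-!
A doubly transitive group of a finite plane contains a central collineation.
-/

set_option autoImplicit false
set_option linter.unusedSectionVars false
set_option linter.style.haveILetI false

namespace Cfsg.Agent.OW

open Configuration

section Groups

variable {Γ : Type*} [Group Γ] [Finite Γ]

theorem exists_central {p : ℕ} [hp : Fact p.Prime] {S : Subgroup Γ} (hS : IsPGroup p S)
    (hne : S ≠ ⊥) : ∃ z ∈ S, z ≠ 1 ∧ z ^ p = 1 ∧ ∀ s ∈ S, s * z = z * s := by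
  haveI : Nontrivial S := (Subgroup.nontrivial_iff_ne_bot S).mpr hne
  haveI := hS.center_nontrivial
  obtain ⟨z, hz⟩ := exists_prime_orderOf_dvd_card' p (G := Subgroup.center S)
    ((hS.to_subgroup _).card_eq_or_dvd.resolve_left Finite.one_lt_card.ne')
  have hz1 : z ≠ 1 := fun e => hp.out.one_lt.ne' (by rw [← hz, e, orderOf_one])
  refine ⟨((z : S) : Γ), (z : S).2, fun e => hz1 (Subtype.ext (Subtype.ext e)), ?_, fun s hs =>
    congrArg Subtype.val (Subgroup.mem_center_iff.mp z.2 ⟨s, hs⟩)⟩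
  have h : z ^ p = 1 := hz ▸ pow_orderOf_eq_one z
  exact congrArg (fun w : Subgroup.center S => ((w : S) : Γ)) h

theorem isPGroup_zpowers {p i : ℕ} [Fact p.Prime] {g : Γ} (h : g ^ p ^ i = 1) :
    IsPGroup p (Subgroup.zpowers g) := by
  rintro ⟨x, hx⟩
  obtain ⟨k, rfl⟩ := Subgroup.mem_zpowers_iff.mp hx
  refine ⟨i, Subtype.ext ?_⟩
  show (g ^ k) ^ p ^ i = 1
  rw [← zpow_natCast, ← zpow_mul, mul_comm, zpow_mul, zpow_natCast, h, one_zpow]

theorem orderOf_dvd_map {Δ : Type*} [Group Δ] (f : Γ →* Δ) (g : Γ) : orderOf (f g) ∣ orderOf g :=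
  orderOf_map_dvd f g

theorem fix_zpowers' {X : Type*} [MulAction Γ X] {g : Γ} {x : X} (h : g • x = x) :
    ∀ a ∈ Subgroup.zpowers g, a • x = x := fun _ ha =>
  MulAction.mem_stabilizer_iff.mp
    (Subgroup.zpowers_le.mpr (show g ∈ MulAction.stabilizer _ x from h) ha)

theorem smul_eq_of_comm {X : Type*} [MulAction Γ X] {s z : Γ} (h : s * z = z * s) {x : X}
    (hx : z • x = x) : z • s • x = s • x := by
  rw [← mul_smul, ← h, mul_smul, hx]

end Groups

variable {P L : Type*} [Membership P L] [ProjectivePlane P L] [Finite P] [Finite L]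

theorem eq_one_of_fix_off {g : Coll P L} {l : L} (h : ∀ x : P, x ∉ l → g • x = x) : g = 1 := by
  refine eq_one_of_fix_all fun a => ?_
  by_cases hal : a ∈ l
  · have key : ∀ t : L, a ∈ t → t ≠ l → g • t = t := by
      intro t hat htl
      obtain ⟨u, hut, hua⟩ := exists_mem_ne t a
      obtain ⟨v, hvt, hva, hvu⟩ := exists_mem_ne₂ t a u
      have off : ∀ {w : P}, w ∈ t → w ≠ a → w ∉ l := fun hw hwa e =>
        htl (line_ext hwa hw hat e hal)
      exact smul_line_eq hvu hvt hut (by rw [h v (off hvt hva)]; exact hvt)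
        (by rw [h u (off hut hua)]; exact hut)
    obtain ⟨t, hat, htl⟩ := exists_through_ne a l
    obtain ⟨t', hat', h1, h2⟩ := exists_through_ne₂ a l t
    exact smul_point_eq h2 hat' hat (key t' hat' h1) (key t hat htl)
  · exact h a hal

theorem exists_involution {G : Subgroup (Coll P L)} (hT : TwoTrans G) :
    ∃ g ∈ G, g ≠ 1 ∧ g * g = 1 := by
  obtain ⟨A, -⟩ := exists_point' P L
  obtain ⟨l, hl⟩ := exists_not_through (L := L) A
  obtain ⟨t, hAt, -⟩ := exists_through_ne A l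
  have h2 : 2 ∣ Nat.card G := by
    rcases Nat.even_or_odd (ProjectivePlane.order P L) with h | h
    · rw [card_St2_antiflag hT hl]
      exact Dvd.dvd.mul_left (Dvd.dvd.mul_right (dvd_pow h.two_dvd two_ne_zero) _) _
    · rw [card_St2_flag hT hAt]
      exact Dvd.dvd.mul_left (Dvd.dvd.mul_right h.add_one.two_dvd _) _
  haveI : Fact (Nat.Prime 2) := ⟨Nat.prime_two⟩
  obtain ⟨g, hg⟩ := exists_prime_orderOf_dvd_card' 2 h2
  refine ⟨g, g.2, fun e => ?_, ?_⟩
  · rw [show g = 1 from Subtype.ext e, orderOf_one] at hg; omega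
  · have h : g ^ 2 = 1 := hg ▸ pow_orderOf_eq_one g
    rw [sq] at h
    exact congrArg Subtype.val h

theorem even_case {G : Subgroup (Coll P L)} (hT : TwoTrans G)
    (hno : ∀ g ∈ G, g ≠ 1 → ∀ l : L, ¬ IsAxis g l) (hev : Even (ProjectivePlane.order P L)) :
    False := by
  haveI : Fact (Nat.Prime 2) := ⟨Nat.prime_two⟩
  obtain ⟨A, -⟩ := exists_point' P L
  obtain ⟨l', hl'⟩ := exists_not_through (L := L) A
  obtain ⟨l, hAl, -⟩ := exists_through_ne A l'
  obtain ⟨x, hx⟩ := exists_not_mem (P := P) l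
  set K := St2 G A l with hK
  obtain ⟨S, -, hS⟩ := exists_isSyl (p := 2) (R := ⊥) (K := K) bot_le IsPGroup.of_bot
  have hSb : S ≠ ⊥ := by
    rintro rfl
    obtain ⟨-, -, c, hc, hcard⟩ := hS
    rw [Subgroup.card_bot, one_mul] at hcard
    apply hc
    rw [← hcard, hK, card_St3_flag hT hAl hx]
    exact Dvd.dvd.mul_right (dvd_pow hev.two_dvd two_ne_zero) _
  obtain ⟨z, hzS, hz1, hz2, hzc⟩ := exists_central hS.2.1 hSb
  rw [sq] at hz2
  obtain ⟨hzG, hzA, hzl⟩ := mem_St2.mp (hS.1 hzS)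
  have hq := (involution_cases hz2).resolve_left fun ⟨k, hk⟩ => hno z hzG hz1 k hk
  letI := fixPlane hq
  have hb := baer hz2 hz1 hq
  set m := ProjectivePlane.order (FixP (Subgroup.zpowers z)) (FixL (Subgroup.zpowers z)) with hm
  let l₁ : FixL (Subgroup.zpowers z) := ⟨l, fix_zpowers' hzl⟩
  let Y : Set P := {y | y ∉ l ∧ z • y = y}
  have hYc : Y.ncard = m ^ 2 := by
    rw [hm, ← card_off l₁, ← Nat.card_coe_set_eq, ← Nat.card_coe_set_eq]
    exact Nat.card_congr
      { toFun := fun y => ⟨⟨y.1, fix_zpowers' y.2.2⟩, y.2.1⟩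
        invFun := fun y => ⟨y.1.1, y.2, y.1.2 z (Subgroup.mem_zpowers z)⟩
        left_inv := fun _ => rfl
        right_inv := fun _ => rfl }
  have hm0 : m ≠ 0 := (Nat.zero_lt_of_lt (ProjectivePlane.one_lt_order _ _)).ne'
  obtain ⟨t, o, ho, hto⟩ := Nat.exists_eq_pow_mul_and_not_dvd hm0 2 (by norm_num)
  have hd : 2 ^ (4 * t) ∣ Y.ncard := by
    refine dvd_card_of_orbits S Y _ (fun s hs y hy => ⟨fun h => hy.1 ?_,
      smul_eq_of_comm (hzc s hs) hy.2⟩) fun y hy => hS.pow_dvd_orbit y ?_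
    · refine (smul_mem_smul s y l).mp ?_
      rwa [(mem_St2.mp (hS.1 hs)).2.2]
    · rw [hK, orbit_flag hT hAl hy.1, card_off, ← hb, hto]
      exact ⟨o ^ 4, by ring⟩
  rw [hYc, hto] at hd
  have h3 : 2 ^ (2 * t) ∣ 2 ^ t * o :=
    (Nat.pow_dvd_pow_iff two_ne_zero).mp (show (2 ^ (2 * t)) ^ 2 ∣ (2 ^ t * o) ^ 2 by
      rw [← pow_mul]; convert hd using 2; ring)
  rw [show 2 * t = t + t by ring, pow_add] at h3
  have h4 := (Nat.mul_dvd_mul_iff_left (by positivity)).mp h3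
  have ht0 : t = 0 := by
    by_contra h
    exact ho ((dvd_pow_self 2 h).trans h4)
  rw [← hb, hto, ht0, pow_zero, one_mul, Nat.even_pow' two_ne_zero] at hev
  exact ho hev.two_dvd

theorem quad_sup {U : Subgroup (Coll P L)} {g : Coll P L} {a b c d : FixP U}
    (hga : g • a.1 = a.1) (hgb : g • b.1 = b.1) (hgc : g • c.1 = c.1) (hgd : g • d.1 = d.1)
    (habc : NonColl (FixL U) a b c) (habd : NonColl (FixL U) a b d) (hacd : NonColl (FixL U) a c d)
    (hbcd : NonColl (FixL U) b c d) (hab : a ≠ b) (hac : a ≠ c) (had : a ≠ d) (hbc : b ≠ c)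
    (hbd : b ≠ d) (hcd : c ≠ d) : HasQuad (U ⊔ Subgroup.zpowers g) := by
  have fix : ∀ x : FixP U, g • x.1 = x.1 → ∀ u ∈ U ⊔ Subgroup.zpowers g, u • x.1 = x.1 :=
    fun x hx u hu => (sup_le (show U ≤ MulAction.stabilizer (Coll P L) x.1 from fun w hw => x.2 w hw)
      (Subgroup.zpowers_le.mpr (show g ∈ MulAction.stabilizer (Coll P L) x.1 from hx))) hu
  have nc : ∀ {x y w : FixP U}, x ≠ y → NonColl (FixL U) x y w → NonColl L x.1 y.1 w.1 :=
    fun {x y w} hxy h k hx hy => h ⟨k, fun u hu => smul_line_eq (fun e => hxy (Subtype.ext e)) hx hy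
      (by rw [x.2 u hu]; exact hx) (by rw [y.2 u hu]; exact hy)⟩ hx hy
  exact ⟨a.1, b.1, c.1, d.1, fun u hu => ⟨fix a hga u hu, fix b hgb u hu, fix c hgc u hu,
    fix d hgd u hu⟩, nc hab habc, nc hab habd, nc hac hacd, nc hbc hbcd,
    fun e => hab (Subtype.ext e), fun e => hac (Subtype.ext e), fun e => had (Subtype.ext e),
    fun e => hbc (Subtype.ext e), fun e => hbd (Subtype.ext e), fun e => hcd (Subtype.ext e)⟩

theorem fixHom_eq_one_of_mem {A : Subgroup (Coll P L)} (hA : HasQuad A)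
    (g : Subgroup.normalizer (A : Set (Coll P L))) (hg : (g : Coll P L) ∈ A) : fixHom A g = 1 := by
  letI := fixPlane hA
  exact coll_ext fun x => Subtype.ext (x.2 _ hg)

/-- A maximal quadrangle fixing two-subgroup gives a rich group on its fixed plane. -/
theorem rich_of_max {G : Subgroup (Coll P L)} (hT : TwoTrans G) {U : Subgroup (Coll P L)}
    (hUG : U ≤ G) (hU : HasQuad U) (hU2 : IsPGroup 2 U)
    (hmax : ∀ W, U ≤ W → W ≤ G → IsPGroup 2 W → HasQuad W → W = U) :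
    letI := fixPlane hU
    Odd (ProjectivePlane.order (FixP U) (FixL U)) →
      Rich (fixImg (G ⊓ Subgroup.normalizer (U : Set (Coll P L))) (inf_le_right)) := by
  letI := fixPlane hU
  intro hm1 r l a hrl hal
  haveI : Fact (Nat.Prime 2) := ⟨Nat.prime_two⟩
  let N : Subgroup (Coll P L) := G ⊓ Subgroup.normalizer (U : Set (Coll P L))
  let H := fixImg (A := U) N inf_le_right
  let T : FixP U → FixL U → FixP U → Subgroup (Coll P L) := fun r l a =>
    St2 G a.1 l.1 ⊓ MulAction.stabilizer (Coll P L) r.1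
  have hUT : ∀ r l a, U ≤ T r l a := fun r l a u hu =>
    ⟨mem_St2.mpr ⟨hUG hu, a.2 u hu, l.2 u hu⟩, r.2 u hu⟩
  have sup2 : ∀ {g : Coll P L}, g ∈ Subgroup.normalizer (U : Set (Coll P L)) → ∀ i : ℕ,
      g ^ 2 ^ i = 1 → IsPGroup 2 (Subgroup.zpowers g ⊔ U : Subgroup (Coll P L)) :=
    fun hg i hi => (isPGroup_zpowers hi).to_sup_of_normal_right' hU2 (Subgroup.zpowers_le.mpr hg)
  by_cases hsyl : IsSyl 2 U (T r l a)
  · exfalso
    have hsyl' : ∀ {r' : FixP U} {l' : FixL U} {a' : FixP U}, r'.1 ∉ l'.1 → a'.1 ∈ l'.1 →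
        IsSyl 2 U (T r' l' a') := fun {r' l' a'} hr' ha' => by
      refine hsyl.of_card (hUT r' l' a') (c := 1) Nat.prime_two.not_dvd_one Nat.prime_two ?_
      rw [one_mul]
      have : Nonempty P := ⟨r.1⟩
      have h := (card_St2_flag hT ha').symm.trans (card_St2_flag hT (show a.1 ∈ l.1 from hal))
      rw [card_St3_flag hT ha' hr', card_St3_flag hT (show a.1 ∈ l.1 from hal) hrl] at h
      have hn := ProjectivePlane.one_lt_order P L
      exact Nat.eq_of_mul_eq_mul_left (by positivity)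
        (Nat.eq_of_mul_eq_mul_left (by omega) (Nat.eq_of_mul_eq_mul_left Nat.card_pos h))
    set W := H ⊓ MulAction.stabilizer (Coll (FixP U) (FixL U)) r
      ⊓ MulAction.stabilizer (Coll (FixP U) (FixL U)) l with hW
    have horb : MulAction.orbit W a = {b | b ∈ l} := by
      ext b
      constructor
      · rintro ⟨w, rfl⟩
        exact (mem_smul_line (w : Coll (FixP U) (FixL U)) _ l).mpr
          (by rw [inv_smul_smul]; exact hal) |> fun h => by
            rwa [show (w : Coll (FixP U) (FixL U)) • l = l from w.2.2] at h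
      · intro hb
        obtain ⟨g, hgG, hga, hgl, hgr⟩ := hT.triple (show a.1 ∈ l.1 from hal) hrl
          (show b.1 ∈ l.1 from hb) hrl
        have hsT := hsyl' hrl (show b.1 ∈ l.1 from hb)
        have hle : U.map (MulAut.conj g).toMonoidHom ≤ T r l b := by
          rintro _ ⟨u, hu, rfl⟩
          show g * u * g⁻¹ ∈ T r l b
          refine ⟨mem_St2.mpr ⟨G.mul_mem (G.mul_mem hgG (hUG hu)) (G.inv_mem hgG), ?_, ?_⟩, ?_⟩
          · rw [mul_smul, mul_smul, inv_smul_eq_iff.mpr hga.symm, a.2 u hu, hga]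
          · rw [mul_smul, mul_smul, inv_smul_eq_iff.mpr hgl.symm, l.2 u hu, hgl]
          · show (g * u * g⁻¹) • r.1 = r.1
            rw [mul_smul, mul_smul, inv_smul_eq_iff.mpr hgr.symm, r.2 u hu, hgr]
        obtain ⟨t, htT, ht⟩ := hsT.conj hle (hU2.map _)
        obtain ⟨htG, htb, htl⟩ := mem_St2.mp htT.1
        have hn : t * g ∈ N := ⟨G.mul_mem htG hgG, mem_normalizer_of_conj fun u hu => by
          have h := ht _ ⟨u, hu, rfl⟩
          show t * g * u * (t * g)⁻¹ ∈ U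
          rw [show t * g * u * (t * g)⁻¹ = t * (g * u * g⁻¹) * t⁻¹ by group]
          exact h⟩
        refine ⟨⟨fixHom U ⟨t * g, hn.2⟩, ⟨⟨⟨t * g, hn⟩, rfl⟩, Subtype.ext ?_⟩, Subtype.ext ?_⟩,
          Subtype.ext ?_⟩
        · exact (mul_smul t g r.1).trans (by rw [hgr]; exact htT.2)
        · exact (mul_smul t g l.1).trans (by rw [hgl]; exact htl)
        · exact (mul_smul t g a.1).trans (by rw [hga]; exact htb)
    have h2W : 2 ∣ Nat.card W := by
      rw [card_eq_orbit_mul W a, horb, card_range]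
      exact Dvd.dvd.mul_right hm1.add_one.two_dvd _
    obtain ⟨s, hs⟩ := exists_prime_orderOf_dvd_card' 2 h2W
    have hs1 : (s : Coll (FixP U) (FixL U)) ≠ 1 := fun e => by
      rw [show s = 1 from Subtype.ext e, orderOf_one] at hs; omega
    have hs2 : (s : Coll (FixP U) (FixL U)) * (s : Coll (FixP U) (FixL U)) = 1 := by
      have h : s ^ 2 = 1 := hs ▸ pow_orderOf_eq_one s
      rw [sq] at h
      exact congrArg Subtype.val h
    obtain ⟨b, hbl, hsb⟩ := involution_meet hs2 l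
    obtain ⟨⟨hsH, hsr⟩, hsl⟩ := s.2
    obtain ⟨g, hg⟩ := mem_fixImg.mp hsH
    obtain ⟨q, hq, i, hi⟩ := exists_pElement_pow (p := 2) (g : Coll P L)
    have hgT : (g : Coll P L) ∈ T r l b := by
      refine ⟨mem_St2.mpr ⟨g.2.1, ?_, ?_⟩, ?_⟩
      · have := congrArg Subtype.val (hg.symm ▸ hsb :
          fixHom U (Subgroup.inclusion inf_le_right g) • b = b)
        exact this
      · have := congrArg Subtype.val (hg.symm ▸ hsl :
          fixHom U (Subgroup.inclusion inf_le_right g) • l = l)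
        exact this
      · have := congrArg Subtype.val (hg.symm ▸ hsr :
          fixHom U (Subgroup.inclusion inf_le_right g) • r = r)
        exact this
    have hmem := (hsyl' hrl (show b.1 ∈ l.1 from hbl)).eq_of_le
      (T := Subgroup.zpowers ((g : Coll P L) ^ q) ⊔ U) le_sup_right
      (sup_le (Subgroup.zpowers_le.mpr (pow_mem hgT q)) (hUT r l b))
      (sup2 (pow_mem g.2.2 q) i hi)
    have hgU : (g : Coll P L) ^ q ∈ U :=
      hmem ▸ Subgroup.mem_sup_left (Subgroup.mem_zpowers _)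
    have h1 : fixHom U ((Subgroup.inclusion inf_le_right g) ^ q) = 1 :=
      fixHom_eq_one_of_mem hU _ hgU
    rw [map_pow, hg] at h1
    obtain ⟨k, rfl⟩ : Odd q := Nat.not_even_iff_odd.mp fun h => hq h.two_dvd
    rw [pow_succ, pow_mul, sq, hs2, one_pow, one_mul] at h1
    exact hs1 h1
  obtain ⟨V, hUV, hV⟩ := exists_isSyl (hUT r l a) hU2
  have hne : U ≠ V := fun e => hsyl (e ▸ hV)
  obtain ⟨g, hgV, hgU, hgN⟩ : ∃ g ∈ V, g ∉ U ∧ g ∈ Subgroup.normalizer (U : Set (Coll P L)) := by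
    haveI : Group.IsNilpotent V := hV.2.1.isNilpotent
    have hlt : U.subgroupOf V < ⊤ := lt_top_iff_ne_top.mpr fun e =>
      hne (le_antisymm hUV (Subgroup.subgroupOf_eq_top.mp e))
    obtain ⟨g, hg1, hg2⟩ := SetLike.exists_of_lt (Group.normalizerCondition_of_isNilpotent _ hlt)
    refine ⟨g, g.2, fun h => hg2 h, mem_normalizer_of_conj fun u hu => ?_⟩
    exact (Subgroup.mem_normalizer_iff.mp hg1 ⟨u, hUV hu⟩).mp hu
  obtain ⟨⟨hgG, hga, hgl⟩, hgr⟩ : (g ∈ G ∧ g • a.1 = a.1 ∧ g • l.1 = l.1) ∧ g • r.1 = r.1 :=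
    ⟨mem_St2.mp (hV.1 hgV).1, (hV.1 hgV).2⟩
  obtain ⟨i, hi⟩ : ∃ i : ℕ, g ^ 2 ^ i = 1 :=
    (hV.2.1 ⟨g, hgV⟩).imp fun i hi => congrArg Subtype.val hi
  let σ := fixHom U ⟨g, hgN⟩
  have big : ∀ {g' : Coll P L}, g' ∈ V → g' ∈ Subgroup.normalizer (U : Set (Coll P L)) → g' ∉ U →
      ¬ HasQuad (U ⊔ Subgroup.zpowers g') := by
    intro g' h1 h2 h3 hquad
    obtain ⟨j, hj⟩ : ∃ j : ℕ, g' ^ 2 ^ j = 1 :=
      (hV.2.1 ⟨g', h1⟩).imp fun j hj => congrArg Subtype.val hj
    have := hmax _ le_sup_left (sup_le hUG (Subgroup.zpowers_le.mpr (mem_St2.mp (hV.1 h1).1).1))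
      (sup_comm U (Subgroup.zpowers g') ▸ sup2 h2 j hj) hquad
    exact h3 (this ▸ Subgroup.mem_sup_right (Subgroup.mem_zpowers g'))
  have hσ : σ ≠ 1 := by
    intro e
    obtain ⟨A, B, C, D, hf, h1, h2, h3, h4, n1, n2, n3, n4, n5, n6⟩ := id hU
    have fx : ∀ w : FixP U, g • w.1 = w.1 := fun w =>
      congrArg Subtype.val (show σ • w = w by rw [e, one_smul])
    refine big hgV hgN hgU (quad_sup (a := ⟨A, fun u hu => (hf u hu).1⟩)
      (b := ⟨B, fun u hu => (hf u hu).2.1⟩) (c := ⟨C, fun u hu => (hf u hu).2.2.1⟩)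
      (d := ⟨D, fun u hu => (hf u hu).2.2.2⟩) (fx _) (fx _) (fx _) (fx _) (fun k => h1 k.1)
      (fun k => h2 k.1) (fun k => h3 k.1) (fun k => h4 k.1) (fun e => n1 (congrArg Subtype.val e))
      (fun e => n2 (congrArg Subtype.val e)) (fun e => n3 (congrArg Subtype.val e))
      (fun e => n4 (congrArg Subtype.val e)) (fun e => n5 (congrArg Subtype.val e))
      (fun e => n6 (congrArg Subtype.val e)))
  have hσ2 : σ ^ 2 ^ i = 1 := by
    rw [← map_pow, show (⟨g, hgN⟩ : Subgroup.normalizer (U : Set (Coll P L))) ^ 2 ^ i = 1 from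
      Subtype.ext hi, map_one]
  obtain ⟨k, -, hk⟩ := (Nat.dvd_prime_pow Nat.prime_two).mp (orderOf_dvd_of_pow_eq_one hσ2)
  obtain ⟨k, rfl⟩ : ∃ k', k = k' + 1 := ⟨k - 1, by
    have : k ≠ 0 := fun h => hσ (orderOf_eq_one_iff.mp (by rw [hk, h, pow_zero]))
    omega⟩
  have hτ1 : σ ^ 2 ^ k ≠ 1 := fun h => by
    have := Nat.le_of_dvd (by positivity) (hk ▸ orderOf_dvd_of_pow_eq_one h)
    rw [pow_succ] at this
    have : 0 < 2 ^ k := by positivity
    omega
  have hτ2 : σ ^ 2 ^ k * σ ^ 2 ^ k = 1 := by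
    rw [← pow_add, show 2 ^ k + 2 ^ k = 2 ^ (k + 1) by ring, ← hk, pow_orderOf_eq_one]
  have hmem : σ ^ 2 ^ k ∈ Subgroup.zpowers σ := pow_mem (Subgroup.mem_zpowers σ) _
  refine ⟨σ ^ 2 ^ k, ?_, hτ1, hτ2, fix_zpowers' (show σ • r = r from Subtype.ext hgr) _ hmem,
    fix_zpowers' (show σ • l = l from Subtype.ext hgl) _ hmem,
    fix_zpowers' (show σ • a = a from Subtype.ext hga) _ hmem, ?_⟩
  · refine pow_mem ?_ _
    exact mem_fixImg.mpr ⟨⟨g, show g ∈ G ⊓ _ from ⟨hgG, hgN⟩⟩, rfl⟩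
  refine (involution_cases hτ2).resolve_right fun hquad => ?_
  obtain ⟨A, B, C, D, hf, h1, h2, h3, h4, n1, n2, n3, n4, n5, n6⟩ := hquad
  obtain ⟨fA, fB, fC, fD⟩ := hf _ (Subgroup.mem_zpowers _)
  have fx : ∀ w : FixP U, σ ^ 2 ^ k • w = w → g ^ 2 ^ k • w.1 = w.1 := by
    intro w h
    rw [← map_pow] at h
    exact congrArg Subtype.val h
  refine big (pow_mem hgV (2 ^ k)) (pow_mem hgN _) (fun h => hτ1 ?_)
    (quad_sup (fx A fA) (fx B fB) (fx C fC) (fx D fD) h1 h2 h3 h4 n1 n2 n3 n4 n5 n6)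
  rw [← map_pow]
  exact fixHom_eq_one_of_mem hU _ h

theorem order_data {G : Subgroup (Coll P L)} (hT : TwoTrans G)
    (hno : ∀ g ∈ G, g ≠ 1 → ∀ l : L, ¬ IsAxis g l) :
    ∃ p N : ℕ, p.Prime ∧ Odd p ∧ ProjectivePlane.order P L = p ^ N ∧ 0 < N ∧
      ∀ (x : P) (l : L), x ∉ l → p ∣ Nat.card (St2 G x l) := by
  classical
  have hodd : Odd (ProjectivePlane.order P L) :=
    Nat.not_even_iff_odd.mp fun h => even_case hT hno h
  haveI : Fact (Nat.Prime 2) := ⟨Nat.prime_two⟩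
  haveI : Fintype (Subgroup (Coll P L)) := Fintype.ofFinite _
  obtain ⟨z, hzG, hz1, hz2⟩ := exists_involution hT
  have hq := (involution_cases hz2).resolve_left fun ⟨k, hk⟩ => hno z hzG hz1 k hk
  let Cands : Finset (Subgroup (Coll P L)) :=
    Finset.univ.filter fun W => W ≤ G ∧ IsPGroup 2 W ∧ HasQuad W
  obtain ⟨U, hU, hmax⟩ := Cands.exists_max_image (fun W => Nat.card W)
    ⟨Subgroup.zpowers z, Finset.mem_filter.mpr ⟨Finset.mem_univ _, Subgroup.zpowers_le.mpr hzG,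
      isPGroup_zpowers (p := 2) (i := 1) (by rw [pow_one, sq, hz2]), hq⟩⟩
  obtain ⟨-, hUG, hU2, hUq⟩ := Finset.mem_filter.mp hU
  have hmax' : ∀ W, U ≤ W → W ≤ G → IsPGroup 2 W → HasQuad W → W = U := fun W h1 h2 h3 h4 =>
    (Subgroup.eq_of_le_of_card_ge h1
      (hmax W (Finset.mem_filter.mpr ⟨Finset.mem_univ _, h2, h3, h4⟩))).symm
  letI := fixPlane hUq
  obtain ⟨j, hj⟩ := baer_chain _ U hUq hU2 le_rfl
  have hm1 : Odd (ProjectivePlane.order (FixP U) (FixL U)) := by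
    rw [hj, Nat.odd_pow_iff (by positivity)] at hodd
    exact hodd
  obtain ⟨p, hp, ⟨A₀, hA₀⟩, e, he, he1, hep, k₀, hk₀⟩ :=
    hasPE_of_rich hm1 (rich_of_max hT hUG hUq hU2 hmax' hm1)
  have hn : ProjectivePlane.order P L = p ^ (A₀ * 2 ^ j) := by rw [hj, hA₀, pow_mul]
  have hA0 : 0 < A₀ * 2 ^ j := by
    refine Nat.pos_of_ne_zero fun h => ?_
    rw [h, pow_zero] at hn
    exact absurd hn (ProjectivePlane.one_lt_order P L).ne'
  refine ⟨p, _, hp, (Nat.odd_pow_iff hA0.ne').mp (hn ▸ hodd), hn, hA0, fun x l hxl => ?_⟩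
  obtain ⟨c, hck, hc⟩ := elation_center hk₀.1 hk₀.2
  obtain ⟨w, hwk, hwc⟩ := exists_mem_ne k₀ c
  obtain ⟨t, hct, htk⟩ := exists_through_ne c k₀
  have hwt : w ∉ t := fun h => htk (line_ext hwc h hct hwk hck)
  obtain ⟨g, hg⟩ := mem_fixImg.mp he
  have hgw : (g : Coll P L) • w.1 = w.1 := congrArg Subtype.val
    (show fixHom U (Subgroup.inclusion inf_le_right g) • w = w by rw [hg]; exact hk₀.1 w hwk)
  have hgt : (g : Coll P L) • t.1 = t.1 := congrArg Subtype.val
    (show fixHom U (Subgroup.inclusion inf_le_right g) • t = t by rw [hg]; exact hc t hct)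
  haveI : Fact p.Prime := ⟨hp⟩
  have h1 : p ∣ orderOf (g : Coll P L) := by
    rw [← orderOf_eq_prime hep he1, ← hg, Subgroup.orderOf_coe,
      ← Subgroup.orderOf_coe (g : (G ⊓ Subgroup.normalizer (U : Set (Coll P L)) : Subgroup _))]
    refine (orderOf_dvd_map _ _).trans ?_
    rw [← Subgroup.orderOf_coe, Subgroup.coe_inclusion]
  rw [card_St2_eq hT hxl (show w.1 ∉ t.1 from hwt)]
  exact h1.trans (Subgroup.orderOf_dvd_natCard (St2 G w.1 t.1) (mem_St2.mpr ⟨g.2.1, hgw, hgt⟩))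

theorem odd_case {G : Subgroup (Coll P L)} (hT : TwoTrans G)
    (hno : ∀ g ∈ G, g ≠ 1 → ∀ l : L, ¬ IsAxis g l)
    (ih : ∀ (R : Subgroup (Coll P L)) (hR : HasQuad R), R ≠ ⊥ →
      letI := fixPlane hR
      ∀ G' : Subgroup (Coll (FixP R) (FixL R)), TwoTrans G' →
        ∃ g ∈ G', g ≠ 1 ∧ ∃ l : FixL R, IsAxis g l) : False := by
  classical
  obtain ⟨p, N, hp, hpodd, hn, hN, hdiv⟩ := order_data hT hno
  haveI : Fact p.Prime := ⟨hp⟩
  set n := ProjectivePlane.order P L with hn_def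
  have hpn : p ∣ n := hn ▸ dvd_pow_self p hN.ne'
  have hp1 : ¬ p ∣ n + 1 := fun h => hp.not_dvd_one ((Nat.dvd_add_right hpn).mp h)
  obtain ⟨A, -⟩ := exists_point' P L
  obtain ⟨l', hl'⟩ := exists_not_through (L := L) A
  obtain ⟨l, hAl, -⟩ := exists_through_ne A l'
  obtain ⟨x, hx⟩ := exists_not_mem (P := P) l
  set K := St2 G A l with hK
  set Kx : Subgroup (Coll P L) := K ⊓ MulAction.stabilizer (Coll P L) x with hKx
  obtain ⟨R, -, hR⟩ := exists_isSyl (p := p) (R := ⊥) (K := Kx) bot_le IsPGroup.of_bot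
  have hRb : R ≠ ⊥ := by
    rintro rfl
    obtain ⟨-, -, c, hc, hcard⟩ := hR
    rw [Subgroup.card_bot, one_mul] at hcard
    have h := hdiv x l hx
    rw [card_St3_antiflag hT hAl hx, ← hK, ← hKx, hcard] at h
    exact (hp.dvd_mul.mp h).elim hp1 hc
  have hRK : R ≤ K := hR.1.trans inf_le_left
  set M : Subgroup (Coll P L) := K ⊓ Subgroup.normalizer (R : Set (Coll P L)) with hM
  obtain ⟨Q, hRQ, hQ⟩ := exists_isSyl (p := p) (K := M) (le_inf hRK Subgroup.le_normalizer) hR.2.1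
  obtain ⟨S, hQS, hS⟩ := exists_isSyl (K := K) (hQ.1.trans inf_le_left) hQ.2.1
  have hSb : S ≠ ⊥ := fun e => hRb (le_bot_iff.mp (e ▸ hRQ.trans hQS))
  obtain ⟨z, hzS, hz1, hzp, hzc⟩ := exists_central hS.2.1 hSb
  obtain ⟨hzG, hzA, hzl⟩ := mem_St2.mp (hS.1 hzS)
  have hSfix : ∀ s ∈ S, s • A = A ∧ s • l = l := fun s hs => (mem_St2.mp (hS.1 hs)).2
  have trans_off : ∀ {y y' : P}, y ∉ l → y' ∉ l → ∃ s ∈ S, s • y = y' := by
    intro y y' hy hy'
    have hsub : MulAction.orbit S y ⊆ MulAction.orbit K y := fun _ ⟨s, e⟩ => ⟨⟨s, hS.1 s.2⟩, e⟩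
    have horb := orbit_flag hT hAl hy
    have h1 : p ^ (2 * N) ∣ (MulAction.orbit S y).ncard := hS.pow_dvd_orbit y (by
      rw [horb, card_off, ← hn_def, hn, ← pow_mul, mul_comm N 2])
    have h2 := Set.eq_of_subset_of_ncard_le hsub (by
      rw [horb, card_off, ← hn_def, hn, ← pow_mul, mul_comm N 2]
      exact Nat.le_of_dvd ((Set.ncard_pos).mpr ⟨y, MulAction.mem_orbit_self y⟩) h1)
    have : y' ∈ MulAction.orbit S y := by rw [h2, horb]; exact hy'
    obtain ⟨s, hs⟩ := this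
    exact ⟨s, s.2, hs⟩
  have z_off : ∀ y : P, y ∉ l → z • y ≠ y := fun y hy e => hz1 (eq_one_of_fix_off fun y' hy' => by
    obtain ⟨s, hs, rfl⟩ := trans_off hy hy'
    exact smul_eq_of_comm (hzc s hs) e)
  have z_on : ∀ q : P, q ∈ l → q ≠ A → z • q ≠ q := by
    intro q hql hqA e
    refine hno z hzG hz1 l fun q' hq' => ?_
    by_cases hq'A : q' = A
    · rw [hq'A]; exact hzA
    have horb : MulAction.orbit K q = {w | w ∈ l ∧ w ≠ A} := by
      ext w
      constructor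
      · rintro ⟨g, rfl⟩
        obtain ⟨-, hgA, hgl⟩ := mem_St2.mp g.2
        refine ⟨?_, fun e' => hqA (MulAction.injective (g : Coll P L) (e'.trans hgA.symm))⟩
        have h := (smul_mem_smul (g : Coll P L) q l).mpr hql
        rwa [hgl] at h
      · rintro ⟨hw, hwA⟩
        obtain ⟨g, hg, h1, h2⟩ := hT A q A w hqA.symm hwA.symm
        refine ⟨⟨g, mem_St2.mpr ⟨hg, h1, ?_⟩⟩, h2⟩
        exact line_ext hwA (h2 ▸ (smul_mem_smul g q l).mpr hql)
          (h1 ▸ (smul_mem_smul g A l).mpr hAl) hw hAl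
    have hsub : MulAction.orbit S q ⊆ MulAction.orbit K q := fun _ ⟨s, e⟩ => ⟨⟨s, hS.1 s.2⟩, e⟩
    have hc : (MulAction.orbit K q).ncard = n := by
      rw [horb, ← Nat.card_coe_set_eq]; exact card_line_sdiff hAl
    have h1 : p ^ N ∣ (MulAction.orbit S q).ncard := hS.pow_dvd_orbit q (by rw [hc, hn])
    have h2 := Set.eq_of_subset_of_ncard_le hsub (by
      rw [hc, hn]
      exact Nat.le_of_dvd ((Set.ncard_pos).mpr ⟨q, MulAction.mem_orbit_self q⟩) h1)
    have : q' ∈ MulAction.orbit S q := by rw [h2, horb]; exact ⟨hq', hq'A⟩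
    obtain ⟨s, rfl⟩ := this
    exact smul_eq_of_comm (hzc s s.2) e
  have z_lines : ∀ t : L, A ∈ t → t ≠ l → z • t ≠ t := by
    intro t hAt htl e
    obtain ⟨k, hk⟩ := exists_axis (g := z) (c := A) fun t' hAt' => by
      by_cases ht'l : t' = l
      · rw [ht'l]; exact hzl
      obtain ⟨y, hyt, hyA⟩ := exists_mem_ne t A
      obtain ⟨y', hyt', hyA'⟩ := exists_mem_ne t' A
      obtain ⟨s, hs, hsy⟩ := trans_off (fun h => htl (line_ext hyA hyt hAt h hAl))
        (fun h => ht'l (line_ext hyA' hyt' hAt' h hAl))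
      have hst : s • t = t' := line_ext hyA' (hsy ▸ (smul_mem_smul s y t).mpr hyt)
        ((hSfix s hs).1 ▸ (smul_mem_smul s A t).mpr hAt) hyt' hAt'
      rw [← hst]
      exact smul_eq_of_comm (hzc s hs) e
    exact hno z hzG hz1 k hk
  -- the fixed plane of R
  have hzR : z ∈ Subgroup.normalizer (R : Set (Coll P L)) := mem_normalizer_of_conj fun r hr => by
    rw [← hzc r (hRQ.trans hQS hr), mul_inv_cancel_right]
    exact hr
  have hRfix : ∀ r ∈ R, r • A = A ∧ r • x = x ∧ r • (z • x) = z • x ∧ r • (z • z • x) = z • z • x := by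
    intro r hr
    have hc := (hzc r (hRQ.trans hQS hr)).symm
    have hx' : r • x = x := (hR.1 hr).2
    have h2 := smul_eq_of_comm hc hx'
    exact ⟨(mem_St2.mp (hRK hr)).2.1, hx', h2, smul_eq_of_comm hc h2⟩
  obtain ⟨t, hAt, hxt⟩ := exists_line_through (L := L) (fun e : A = x => hx (e ▸ hAl))
  have htl : t ≠ l := fun e => hx (e ▸ hxt)
  have hoff : ∀ {y : P}, y ∉ l → z • y ∉ l := fun {y} hy h => hy (by
    have := (mem_smul_line z⁻¹ y l).mpr (by rwa [inv_inv])
    rwa [inv_smul_eq_iff.mpr hzl.symm] at this)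
  have hneA : ∀ {y : P}, y ∉ l → A ≠ y := fun hy e => hy (e ▸ hAl)
  have hzz : z • z • t ≠ t := by
    intro e
    obtain ⟨k, hk⟩ := hpodd
    have h2 : (z ^ 2) ^ (k + 1) = z := by
      rw [← pow_mul, show 2 * (k + 1) = p + 1 by omega, pow_succ, hzp, one_mul]
    refine z_lines t hAt htl ?_
    rw [← h2]
    refine MulAction.mem_stabilizer_iff.mp (pow_mem ?_ _)
    show (z ^ 2) • t = t
    rw [sq, mul_smul, e]
  have nc1 : NonColl L A x (z • x) := by
    intro k hAk hxk hzk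
    obtain rfl : k = t := line_ext (hneA hx) hAk hxk hAt hxt
    exact z_lines k hAt htl (line_ext (hneA (hoff hx)) (hzA ▸ (smul_mem_smul z A k).mpr hAt)
      ((smul_mem_smul z x k).mpr hxt) hAk hzk)
  have hquad : HasQuad R := by
    refine ⟨A, x, z • x, z • z • x, hRfix, nc1, ?_, ?_, ?_, hneA hx, hneA (hoff hx),
      hneA (hoff (hoff hx)), (z_off x hx).symm, ?_,
      fun e => z_off x hx (MulAction.injective z e.symm)⟩
    · intro k hAk hxk hzk
      obtain rfl : k = t := line_ext (hneA hx) hAk hxk hAt hxt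
      exact hzz (line_ext (hneA (hoff (hoff hx)))
        (by
          have h := (smul_mem_smul z (z • A) (z • k)).mpr ((smul_mem_smul z A k).mpr hAt)
          rwa [hzA, hzA] at h)
        ((smul_mem_smul z _ _).mpr ((smul_mem_smul z x k).mpr hxt)) hAk hzk)
    · intro k hAk hxk hzk
      refine nc1 (z⁻¹ • k) ?_ ?_ ?_
      · rw [mem_smul_line, inv_inv, hzA]; exact hAk
      · rw [mem_smul_line, inv_inv]; exact hxk
      · rw [mem_smul_line, inv_inv]; exact hzk
    · intro k h1 h2 h3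
      have hzk : z • k = k := line_ext (fun e => z_off x hx (MulAction.injective z e).symm)
        ((smul_mem_smul z x k).mpr h1) ((smul_mem_smul z _ k).mpr h2) h2 h3
      have hkl : k ≠ l := fun e => hx (e ▸ h1)
      obtain ⟨q, hqk, hql⟩ := exists_meet (P := P) hkl
      obtain rfl : q = A := by
        by_contra hqA
        exact z_on q hql hqA (smul_point_eq hkl hqk hql hzk hzl)
      exact z_lines k hqk hkl hzk
    · intro e
      obtain ⟨k, hk1, hk2⟩ := exists_line_through (L := L) (z_off x hx).symm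
      have hzk : z • k = k := line_ext (z_off x hx).symm
        (by rw [e]; exact (smul_mem_smul z _ k).mpr hk2) ((smul_mem_smul z x k).mpr hk1) hk1 hk2
      have hkl : k ≠ l := fun e => hx (e ▸ hk1)
      obtain ⟨q, hqk, hql⟩ := exists_meet (P := P) hkl
      obtain rfl : q = A := by
        by_contra hqA
        exact z_on q hql hqA (smul_point_eq hkl hqk hql hzk hzl)
      exact z_lines k hqk hkl hzk
  letI := fixPlane hquad
  set N3 : Subgroup (Coll P L) := G ⊓ Subgroup.normalizer (R : Set (Coll P L)) with hN3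
  set G3 := fixImg (A := R) N3 inf_le_right with hG3
  have hRG : R ≤ G := fun r hr => (mem_St2.mp (hRK hr)).1
  have hanti : AntiTrans G3 := by
    intro y y' k k' hy hy'
    obtain ⟨g, hgG, hgy, hgk⟩ := hT.antiflag (show y.1 ∉ k.1 from hy) (show y'.1 ∉ k'.1 from hy')
    have hRle : R ≤ St2 G y'.1 k'.1 := fun r hr =>
      mem_St2.mpr ⟨hRG hr, y'.2 r hr, k'.2 r hr⟩
    have hsyl : IsSyl p R (St2 G y'.1 k'.1) := hR.of_card hRle hp1 hp (by
      rw [card_St2_eq hT (show y'.1 ∉ k'.1 from hy') hx, card_St3_antiflag hT hAl hx])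
    have hle : R.map (MulAut.conj g).toMonoidHom ≤ St2 G y'.1 k'.1 := by
      rintro _ ⟨r, hr, rfl⟩
      show g * r * g⁻¹ ∈ St2 G y'.1 k'.1
      refine mem_St2.mpr ⟨G.mul_mem (G.mul_mem hgG (hRG hr)) (G.inv_mem hgG), ?_, ?_⟩
      · rw [mul_smul, mul_smul, inv_smul_eq_iff.mpr hgy.symm, y.2 r hr, hgy]
      · rw [mul_smul, mul_smul, inv_smul_eq_iff.mpr hgk.symm, k.2 r hr, hgk]
    obtain ⟨u, hu, hconj⟩ := hsyl.conj hle (hR.2.1.map _)
    obtain ⟨huG, huy, huk⟩ := mem_St2.mp hu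
    have hn' : u * g ∈ N3 := ⟨G.mul_mem huG hgG, mem_normalizer_of_conj fun r hr => by
      rw [show u * g * r * (u * g)⁻¹ = u * (g * r * g⁻¹) * u⁻¹ by group]
      exact hconj _ ⟨r, hr, rfl⟩⟩
    exact ⟨_, mem_fixImg.mpr ⟨⟨u * g, hn'⟩, rfl⟩,
      Subtype.ext ((mul_smul u g y.1).trans (by rw [hgy, huy])),
      Subtype.ext ((mul_smul u g k.1).trans (by rw [hgk, huk]))⟩
  have hT3 := hanti.twoTrans
  obtain ⟨q, hq, ⟨a₃, ha₃⟩, hexp, hfl⟩ := full_elations hT3 (ih R hquad hRb G3 hT3)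
  let A' : FixP R := ⟨A, fun r hr => (hRfix r hr).1⟩
  let l₁ : FixL R := ⟨l, fun r hr => (mem_St2.mp (hRK hr)).2.2⟩
  have hm3 := ProjectivePlane.one_lt_order (FixP R) (FixL R)
  let zz : Coll (FixP R) (FixL R) := fixHom R ⟨z, hzR⟩
  have hpm3 : p ∣ ProjectivePlane.order (FixP R) (FixL R) := by
    have hY : {k : FixL R | A' ∈ k ∧ k ≠ l₁}.ncard = ProjectivePlane.order (FixP R) (FixL R) := by
      rw [← Nat.card_coe_set_eq, ← ProjectivePlane.Dual.order (FixP R) (FixL R)]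
      exact card_line_sdiff (P := Dual (FixL R)) (L := Dual (FixP R)) (d := l₁) (m := A')
        (show A ∈ l from hAl)
    rw [← hY]
    refine dvd_card_of_orbits (Subgroup.zpowers zz) _ p (fun s hs k hk => ?_) fun k hk => ?_
    · have hsA : s • A' = A' := fix_zpowers' (show zz • A' = A' from Subtype.ext hzA) s hs
      have hsl : s • l₁ = l₁ := fix_zpowers' (show zz • l₁ = l₁ from Subtype.ext hzl) s hs
      exact ⟨hsA ▸ (smul_mem_smul s A' k).mpr hk.1,
        fun e => hk.2 (MulAction.injective s (e.trans hsl.symm))⟩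
    · have hzzp : orderOf zz ∣ p := orderOf_dvd_of_pow_eq_one (by
        rw [← map_pow, show (⟨z, hzR⟩ : Subgroup.normalizer (R : Set (Coll P L))) ^ p = 1 from
          Subtype.ext hzp, map_one])
      have h1 := card_eq_orbit_mul (Subgroup.zpowers zz) k
      rw [Nat.card_zpowers] at h1
      rcases (Nat.dvd_prime hp).mp ((Dvd.intro _ h1.symm).trans hzzp) with h | h
      · obtain ⟨w, hw⟩ := Set.ncard_eq_one.mp h
        have h2 : zz • k ∈ MulAction.orbit (Subgroup.zpowers zz) k :=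
          ⟨⟨zz, Subgroup.mem_zpowers zz⟩, rfl⟩
        have h3 : k ∈ MulAction.orbit (Subgroup.zpowers zz) k := MulAction.mem_orbit_self k
        rw [hw] at h2 h3
        exact absurd (congrArg Subtype.val (h2.trans h3.symm : zz • k = k))
          (z_lines k.1 hk.1 fun e => hk.2 (Subtype.ext e))
      · exact h ▸ dvd_rfl
  obtain rfl : p = q := (Nat.prime_dvd_prime_iff_eq hp hq).mp (hp.dvd_of_dvd_pow (ha₃ ▸ hpm3))
  obtain ⟨c, hcl, hcA⟩ := exists_mem_ne l₁ A'
  obtain ⟨e, he, he1⟩ := exists_ne_one_of_dvd (A := G3 ⊓ flGroup c l₁) (by rw [hfl c l₁ hcl])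
  have hep : e ^ p = 1 := (hexp l₁).1 e ⟨he.1, mem_elGroup_of_center he.2.1 he.2.2 hcl⟩
  obtain ⟨g, hg⟩ := mem_fixImg.mp he.1
  have hgM : (g : Coll P L) ∈ M := by
    refine ⟨mem_St2.mpr ⟨g.2.1, ?_, ?_⟩, g.2.2⟩
    · exact congrArg Subtype.val
        (show fixHom R (Subgroup.inclusion inf_le_right g) • A' = A' by
          rw [hg]; exact he.2.1 A' (show A ∈ l from hAl))
    · exact congrArg Subtype.val
        (show fixHom R (Subgroup.inclusion inf_le_right g) • l₁ = l₁ by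
          rw [hg]; exact he.2.1.smul_line)
  obtain ⟨q₀, hq₀, i, hi⟩ := exists_pElement_pow (p := p) (g : Coll P L)
  obtain ⟨u, huM, hu⟩ := hQ.conj (S := Subgroup.zpowers ((g : Coll P L) ^ q₀))
    (Subgroup.zpowers_le.mpr (pow_mem hgM q₀)) (isPGroup_zpowers hi)
  have hcomm := hzc _ (hQS (hu _ (Subgroup.mem_zpowers _)))
  set uu := fixHom R ⟨u, huM.2⟩ with huu
  have hf1 : e ^ q₀ ≠ 1 := fun h =>
    hq₀ ((orderOf_eq_prime hep he1) ▸ orderOf_dvd_of_pow_eq_one h)
  set f := uu * e ^ q₀ * uu⁻¹ with hf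
  have hfc : IsCenter f (uu • c) := (flGroup_conj (k := uu) (pow_mem he.2 q₀)).2
  have hf' : f ≠ 1 := fun h => hf1 (conj_eq_one_iff.mp h)
  have hfz : zz * f * zz⁻¹ = f := by
    have h2 : f = fixHom R (⟨u, huM.2⟩ * (Subgroup.inclusion inf_le_right g) ^ q₀ * ⟨u, huM.2⟩⁻¹) := by
      rw [map_mul, map_mul, map_inv, map_pow, hg]
    rw [h2, ← map_inv, ← map_mul, ← map_mul]
    refine congrArg _ (Subtype.ext ?_)
    show z * (u * (g : Coll P L) ^ q₀ * u⁻¹) * z⁻¹ = u * (g : Coll P L) ^ q₀ * u⁻¹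
    rw [← hcomm, mul_inv_cancel_right]
  have hfix : zz • (uu • c) = uu • c := center_unique (hfz ▸ isCenter_conj hfc zz) hfc hf'
  obtain ⟨-, huA, hul⟩ := mem_St2.mp huM.1
  refine z_on (u • c.1) (hul ▸ (smul_mem_smul u c.1 l).mpr hcl)
    (fun h => hcA (Subtype.ext (MulAction.injective u (h.trans huA.symm)))) ?_
  exact congrArg Subtype.val hfix

/-- A doubly transitive group contains a nontrivial central collineation. -/
theorem exists_axial.{a, b} : ∀ (k : ℕ) {P : Type a} {L : Type b} [Membership P L] [ProjectivePlane P L]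
    [Finite P] [Finite L] (G : Subgroup (Coll P L)), TwoTrans G → ProjectivePlane.order P L ≤ k →
    ∃ g ∈ G, g ≠ 1 ∧ ∃ l : L, IsAxis g l := by
  intro k
  induction k with
  | zero =>
    intro P L _ _ _ _ G _ hk
    have := ProjectivePlane.one_lt_order P L
    omega
  | succ k ih =>
    intro P L _ _ _ _ G hT hk
    by_contra hno
    push Not at hno
    refine odd_case hT hno fun R hR hRb => ?_
    letI := fixPlane hR
    intro G' hT'
    refine ih G' hT' ?_
    have h1 := subplane_order_sq_le hR hRb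
    have h2 := ProjectivePlane.one_lt_order (FixP R) (FixL R)
    nlinarith

end Cfsg.Agent.OW
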