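import Mathlib

/-!
A finite division algebra with both inverse properties is a field (Artin-Zorn).
-/

set_option autoImplicit false
set_option linter.unusedSectionVars false
set_option linter.style.haveILetI false

namespace Cfsg.Agent.OW

open Polynomial

/-- An operator with `T ^ q = T` over a field of `q` elements has an eigenvalue in the field. -/
theorem exists_eigen {K M : Type*} [Field K] [Fintype K] [AddCommGroup M] [Module K M]
    (T : Module.End K M) (hT : T ^ Fintype.card K = T) {w : M} (hw : w ≠ 0) :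
    ∃ c : K, ∃ u : M, u ≠ 0 ∧ T u = c • u := by
  classical
  have h1 : 1 < Fintype.card K := Fintype.one_lt_card
  have hprod : ∏ c : K, (X - C c) = X ^ Fintype.card K - X := by
    have hm : (X ^ Fintype.card K - X : K[X]).Monic :=
      monic_X_pow_sub (by rw [degree_X]; exact_mod_cast h1)
    have h2 := prod_multiset_X_sub_C_of_monic_of_roots_card_eq hm (by
      rw [FiniteField.roots_X_pow_card_sub_X, FiniteField.X_pow_card_sub_X_natDegree_eq K h1]
      rfl)
    rwa [FiniteField.roots_X_pow_card_sub_X] at h2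
  have key : ∀ s : Finset K, aeval T (∏ c ∈ s, (X - C c)) w = 0 →
      ∃ c : K, ∃ u : M, u ≠ 0 ∧ T u = c • u := by
    intro s
    induction s using Finset.induction with
    | empty =>
      intro h
      simp only [Finset.prod_empty, map_one, Module.End.one_apply] at h
      exact absurd h hw
    | insert c s hc ih =>
      intro h
      rw [Finset.prod_insert hc, map_mul, Module.End.mul_apply] at h
      by_cases hu : aeval T (∏ d ∈ s, (X - C d)) w = 0
      · exact ih hu
      refine ⟨c, _, hu, sub_eq_zero.mp ?_⟩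
      simpa using h
  refine key Finset.univ ?_
  rw [hprod]
  simp [hT]

/-- An operator with `T ^ q = T` and a single eigenvalue is scalar. -/
theorem eq_scalar {K M : Type*} [Field K] [Fintype K] [AddCommGroup M] [Module K M]
    (T : Module.End K M) (hT : T ^ Fintype.card K = T) (a : K)
    (h : ∀ (c : K) (u : M), u ≠ 0 → T u = c • u → c = a) (y : M) : T y = a • y := by
  classical
  by_contra hy
  have h1 : 1 < Fintype.card K := Fintype.one_lt_card
  have hprod : ∏ c : K, (X - C c) = X ^ Fintype.card K - X := by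
    have hm : (X ^ Fintype.card K - X : K[X]).Monic :=
      monic_X_pow_sub (by rw [degree_X]; exact_mod_cast h1)
    have h2 := prod_multiset_X_sub_C_of_monic_of_roots_card_eq hm (by
      rw [FiniteField.roots_X_pow_card_sub_X, FiniteField.X_pow_card_sub_X_natDegree_eq K h1]
      rfl)
    rwa [FiniteField.roots_X_pow_card_sub_X] at h2
  have key : ∀ s : Finset K, a ∉ s → ∀ w : M, aeval T (∏ c ∈ s, (X - C c)) w = 0 → w = 0 := by
    intro s
    induction s using Finset.induction with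
    | empty => intro _ w h; simpa using h
    | insert c s hc ih =>
      intro has w hw
      rw [Finset.mem_insert, not_or] at has
      rw [Finset.prod_insert hc, map_mul, Module.End.mul_apply] at hw
      refine ih has.2 w (by_contra fun hu => has.1 (h c _ hu (sub_eq_zero.mp ?_)).symm)
      simpa using hw
  refine hy (sub_eq_zero.mp (key (Finset.univ.erase a) (Finset.notMem_erase a _) (T y - a • y) ?_))
  have h2 : aeval T ((∏ c ∈ Finset.univ.erase a, (X - C c)) * (X - C a)) y = 0 := by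
    rw [Finset.prod_erase_mul _ _ (Finset.mem_univ a), hprod]
    simp [hT]
  simpa [map_mul] using h2

/-- A Frobenius power gives every endomorphism of a finite field. -/
theorem exists_frobenius {K : Type*} [Field K] [Finite K] (p : ℕ) [Fact p.Prime] [CharP K p]
    (σ : K →+* K) : ∃ i : ℕ, ∀ x : K, σ x = x ^ p ^ i := by
  letI : Algebra (ZMod p) K := ZMod.algebra K p
  let σ' : K →ₐ[ZMod p] K :=
    { σ with
      commutes' := fun r => RingHom.congr_fun
        (Subsingleton.elim (σ.comp (algebraMap (ZMod p) K)) (algebraMap (ZMod p) K)) r }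
  obtain ⟨i, hi⟩ := (FiniteField.bijective_frobeniusAlgHom_pow (ZMod p) K).2 σ'
  refine ⟨i, fun x => ?_⟩
  have key : ∀ (j : ℕ) (y : K), (FiniteField.frobeniusAlgHom (ZMod p) K ^ j) y = y ^ p ^ j := by
    intro j
    induction j with
    | zero => intro y; simp
    | succ j ih =>
      intro y
      rw [pow_succ, AlgHom.mul_apply, ih]
      simp [ZMod.card, ← pow_mul, pow_succ, mul_comm]
  rw [← key i x]
  exact (DFunLike.congr_fun hi x).symm

/-- A unital division algebra with both inverse properties. -/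
structure Quasi (V : Type*) [AddCommGroup V] where
  /-- The product. -/
  m : V →+ V →+ V
  /-- The unit. -/
  e : V
  e_left : ∀ y, m e y = y
  e_right : ∀ x, m x e = x
  e_ne : e ≠ 0
  linv : ∀ x, x ≠ 0 → ∃ y, ∀ z, m y (m x z) = z
  rinv : ∀ x, x ≠ 0 → ∃ y, ∀ z, m (m z x) y = z

namespace Quasi

variable {V : Type*} [AddCommGroup V] [Finite V] (Q : Quasi V)

/-- The opposite algebra. -/
def op : Quasi V where
  m := Q.m.flip
  e := Q.e
  e_left := Q.e_right
  e_right := Q.e_left
  e_ne := Q.e_ne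
  linv := Q.rinv
  rinv := Q.linv

/-- Left multiplication as a homomorphism into the endomorphisms. -/
def L : V →+ AddMonoid.End V := Q.m

theorem L_apply (x y : V) : Q.L x y = Q.m x y := rfl

theorem L_e : Q.L Q.e = 1 := DFunLike.ext _ _ Q.e_left

theorem L_inv {x : V} (hx : x ≠ 0) : ∃ y, Q.L y * Q.L x = 1 ∧ Q.L x * Q.L y = 1 := by
  obtain ⟨y, hy⟩ := Q.linv x hx
  have hinj : Function.Injective (Q.L x) := Function.LeftInverse.injective hy
  refine ⟨y, DFunLike.ext _ _ hy, DFunLike.ext _ _ fun z => ?_⟩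
  obtain ⟨w, rfl⟩ := Finite.surjective_of_injective hinj z
  exact congrArg (Q.L x) (hy w)

theorem mul_eq_zero {x y : V} (h : Q.m x y = 0) : x = 0 ∨ y = 0 := by
  by_contra hc
  push Not at hc
  obtain ⟨z, hz⟩ := Q.linv x hc.1
  exact hc.2 (by rw [← hz y, h, map_zero])

theorem hua (x y : V) : ∃ w, Q.L w = Q.L x * Q.L y * Q.L x := by
  by_cases hx : x = 0
  · exact ⟨0, by simp [hx]⟩
  by_cases hy : y = 0
  · exact ⟨0, by simp [hy]⟩
  obtain ⟨x', hx', -⟩ := Q.L_inv hx
  obtain ⟨y', hy', hy''⟩ := Q.L_inv hy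
  by_cases hu : y' - x = 0
  · refine ⟨x, ?_⟩
    rw [← sub_eq_zero.mp hu, hy', one_mul]
  obtain ⟨u, hu1, -⟩ := Q.L_inv hu
  rw [map_sub] at hu1
  have h : Q.L (x' + u) * (Q.L x - Q.L x * Q.L y * Q.L x) = 1 := by
    have e1 : Q.L x - Q.L x * Q.L y * Q.L x = (Q.L y' - Q.L x) * (Q.L y * Q.L x) := by
      rw [sub_mul, ← mul_assoc, ← mul_assoc, hy', one_mul]
    rw [map_add, add_mul]
    conv_lhs => arg 2; rw [e1, ← mul_assoc, hu1, one_mul]
    rw [mul_sub, ← mul_assoc, ← mul_assoc, hx', one_mul, sub_add_cancel]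
  have hw : x' + u ≠ 0 := by
    intro e
    rw [e, map_zero, zero_mul] at h
    exact Q.e_ne (by simpa using (DFunLike.congr_fun h Q.e).symm)
  obtain ⟨z, hz, -⟩ := Q.L_inv hw
  refine ⟨x - z, ?_⟩
  have h2 : Q.L z = Q.L x - Q.L x * Q.L y * Q.L x := left_inv_eq_right_inv hz h
  rw [map_sub, h2, sub_sub_cancel]

theorem moufang (x y z : V) : Q.m x (Q.m y (Q.m x z)) = Q.m (Q.m x (Q.m y x)) z := by
  obtain ⟨w, hw⟩ := Q.hua x y
  have he : w = Q.m x (Q.m y x) := by
    have h : Q.m w Q.e = Q.m x (Q.m y (Q.m x Q.e)) := DFunLike.congr_fun hw Q.e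
    rwa [Q.e_right, Q.e_right] at h
  rw [← he]
  exact (DFunLike.congr_fun hw z).symm

theorem left_alt (x z : V) : Q.m x (Q.m x z) = Q.m (Q.m x x) z := by
  have h := Q.moufang x Q.e z
  rwa [Q.e_left, Q.e_left] at h

theorem flexible (x y : V) : Q.m (Q.m x y) x = Q.m x (Q.m y x) := by
  have r : ∀ u v : V, Q.m (Q.m v u) u = Q.m v (Q.m u u) := fun u v => Q.op.left_alt u v
  have h := r (x + y) x
  simp only [map_add, AddMonoidHom.add_apply, r x x, r y x, ← Q.left_alt x y] at h
  refine sub_eq_zero.mp ?_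
  rw [← sub_eq_zero] at h
  rw [← h]
  abel

/-- Right multiplication. -/
def R (y : V) : AddMonoid.End V := Q.m.flip y

theorem R_apply (y x : V) : Q.R y x = Q.m x y := rfl

theorem R_add (x y : V) : Q.R (x + y) = Q.R x + Q.R y := map_add Q.m.flip x y

theorem R_neg (x : V) : Q.R (-x) = -Q.R x := map_neg Q.m.flip x

theorem R_zero : Q.R 0 = 0 := map_zero Q.m.flip

theorem commute_LR (x : V) : Commute (Q.L x) (Q.R x) :=
  DFunLike.ext _ _ fun y => (Q.flexible x y).symm

/-- Powers of an element. -/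
def pw (x : V) (i : ℕ) : V := (Q.L x ^ i) Q.e

theorem pw_zero (x : V) : Q.pw x 0 = Q.e := rfl

theorem pw_succ (x : V) (i : ℕ) : Q.pw x (i + 1) = Q.m x (Q.pw x i) := by
  rw [pw, pow_succ']; rfl

theorem L_pw (x : V) : ∀ i : ℕ, Q.L (Q.pw x i) = Q.L x ^ i := by
  intro i
  induction i using Nat.twoStepInduction with
  | zero => rw [pw_zero, pow_zero, L_e]
  | one => rw [pw_succ, pw_zero, Q.e_right, pow_one]
  | more i h1 _ =>
    obtain ⟨w, hw⟩ := Q.hua x (Q.pw x i)
    have e1 : Q.L w = Q.L x ^ (i + 2) := by rw [hw, h1, ← pow_succ', ← pow_succ]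
    have e2 : w = Q.pw x (i + 2) := by
      rw [pw, ← e1]
      exact (Q.e_right w).symm
    rw [← e2, e1]

theorem pw_op (x : V) : ∀ i : ℕ, Q.op.pw x i = Q.pw x i := by
  intro i
  induction i with
  | zero => rfl
  | succ i ih =>
    rw [pw_succ, ih]
    show Q.m (Q.pw x i) x = _
    rw [← Q.L_apply, Q.L_pw, pw, pow_succ]
    show (Q.L x ^ i) x = (Q.L x ^ i) (Q.m x Q.e)
    rw [Q.e_right]

theorem R_pw (x : V) (i : ℕ) : Q.R (Q.pw x i) = Q.R x ^ i := by
  have h := Q.op.L_pw x i
  rw [Q.pw_op] at h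
  exact h

/-- The subring generated by a left multiplication. -/
def K (a : V) : Subring (AddMonoid.End V) := Subring.closure {Q.L a}

theorem K_induction {a : V} {C : AddMonoid.End V → Prop} (zero : C 0)
    (add : ∀ u v, C u → C v → C (u + v)) (neg : ∀ u, C u → C (-u)) (pow : ∀ i : ℕ, C (Q.L a ^ i))
    {k : AddMonoid.End V} (hk : k ∈ Q.K a) : C k := by
  rw [K, Subring.mem_closure_iff] at hk
  induction hk using AddSubgroup.closure_induction with
  | mem u hu => obtain ⟨i, rfl⟩ := Submonoid.mem_closure_singleton.mp hu; exact pow i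
  | zero => exact zero
  | add u v _ _ hu hv => exact add u v hu hv
  | neg u _ hu => exact neg u hu

theorem mem_K_self (a : V) : Q.L a ∈ Q.K a := Subring.subset_closure rfl

theorem K_eq {a : V} {k : AddMonoid.End V} (hk : k ∈ Q.K a) : k = Q.L (k Q.e) := by
  refine Q.K_induction (C := fun u => u = Q.L (u Q.e)) ?_ ?_ ?_ ?_ hk
  · exact (map_zero Q.L).symm
  · intro u v hu hv
    rw [show (u + v) Q.e = u Q.e + v Q.e from rfl, map_add, ← hu, ← hv]
  · intro u hu
    rw [show (-u) Q.e = -(u Q.e) from rfl, map_neg, ← hu]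
  · intro i
    exact (Q.L_pw a i).symm

theorem K_comm {a : V} {j k : AddMonoid.End V} (hj : j ∈ Q.K a) (hk : k ∈ Q.K a) :
    j * k = k * j := by
  have h : Q.K a ≤ Subring.centralizer {Q.L a} :=
    Subring.closure_le.mpr (by simp [Set.mem_centralizer_iff])
  refine Q.K_induction (C := fun u => u * k = k * u) ?_ ?_ ?_ ?_ hj
  · simp
  · intro u v hu hv; rw [add_mul, mul_add, hu, hv]
  · intro u hu; rw [neg_mul, mul_neg, hu]
  · intro i
    have hc : Commute (Q.L a) k := Subring.mem_centralizer_iff.mp (h hk) (Q.L a) rfl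
    exact hc.pow_left i

theorem K_commute_R {a : V} {j k : AddMonoid.End V} (hj : j ∈ Q.K a) (hk : k ∈ Q.K a) :
    Commute j (Q.R (k Q.e)) := by
  refine Q.K_induction (C := fun u => Commute j (Q.R (u Q.e))) ?_ ?_ ?_ ?_ hk
  · show Commute j (Q.R 0)
    rw [R_zero]; exact Commute.zero_right j
  · intro u v hu hv
    show Commute j (Q.R (u Q.e + v Q.e))
    rw [R_add]; exact hu.add_right hv
  · intro u hu
    show Commute j (Q.R (-(u Q.e)))
    rw [R_neg]; exact hu.neg_right
  · intro i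
    show Commute j (Q.R (Q.pw a i))
    rw [R_pw]
    refine Commute.pow_right ?_ i
    refine Q.K_induction (C := fun u => Commute u (Q.R a)) (Commute.zero_left _)
      (fun u v hu hv => hu.add_left hv) (fun u hu => hu.neg_left)
      (fun i => (Q.commute_LR a).pow_left i) hj

theorem R_mul {a : V} {j k : AddMonoid.End V} (hj : j ∈ Q.K a) (hk : k ∈ Q.K a) :
    Q.R ((j * k) Q.e) = Q.R (j Q.e) * Q.R (k Q.e) := by
  refine Q.K_induction (C := fun u => Q.R ((u * k) Q.e) = Q.R (u Q.e) * Q.R (k Q.e)) ?_ ?_ ?_ ?_ hj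
  · show Q.R ((0 * k) Q.e) = Q.R 0 * _
    rw [zero_mul, R_zero, zero_mul]
    exact Q.R_zero
  · intro u v hu hv
    show Q.R ((u + v) (k Q.e)) = Q.R (u Q.e + v Q.e) * _
    rw [R_add, add_mul, ← hu, ← hv, ← R_add]
    rfl
  · intro u hu
    show Q.R (-(u (k Q.e))) = Q.R (-(u Q.e)) * _
    rw [R_neg, R_neg, neg_mul, ← hu]
    rfl
  · intro i
    refine Q.K_induction (C := fun u => Q.R ((Q.L a ^ i * u) Q.e) = Q.R (Q.pw a i) * Q.R (u Q.e))
      ?_ ?_ ?_ ?_ hk
    · show Q.R ((Q.L a ^ i) 0) = _ * Q.R 0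
      rw [map_zero, R_zero, mul_zero]
    · intro u v hu hv
      show Q.R ((Q.L a ^ i) (u Q.e + v Q.e)) = _ * Q.R (u Q.e + v Q.e)
      rw [map_add, R_add, R_add, mul_add, ← hu, ← hv]
      rfl
    · intro u hu
      show Q.R ((Q.L a ^ i) (-(u Q.e))) = _ * Q.R (-(u Q.e))
      rw [map_neg, R_neg, R_neg, mul_neg, ← hu]
      rfl
    · intro j
      rw [← pow_add]
      show Q.R (Q.pw a (i + j)) = Q.R (Q.pw a i) * Q.R (Q.pw a j)
      rw [R_pw, R_pw, R_pw, pow_add]

theorem K_noZero (a : V) : NoZeroDivisors (Q.K a) where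
  eq_zero_or_eq_zero_of_mul_eq_zero {j k} h := by
    by_cases hj : j = 0
    · exact Or.inl hj
    refine Or.inr ?_
    have hje : j.1 Q.e ≠ 0 := fun e => hj (Subtype.ext (by rw [Q.K_eq j.2, e, map_zero]; rfl))
    obtain ⟨y, hy, -⟩ := Q.L_inv hje
    rw [← Q.K_eq j.2] at hy
    refine Subtype.ext ?_
    have h' : j.1 * k.1 = 0 := congrArg Subtype.val h
    rw [← one_mul k.1, ← hy, mul_assoc, h', mul_zero]
    rfl

instance instCommK (a : V) : CommRing (Q.K a) :=
  { (inferInstance : Ring (Q.K a)) with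
    mul_comm := fun j k => Subtype.ext (Q.K_comm j.2 k.2) }

theorem K_isField (a : V) : IsField (Q.K a) := by
  haveI : Nontrivial (AddMonoid.End V) :=
    ⟨⟨1, 0, fun h => Q.e_ne (DFunLike.congr_fun h Q.e)⟩⟩
  haveI : NoZeroDivisors (Q.K a) := Q.K_noZero a
  haveI : IsDomain (Q.K a) := NoZeroDivisors.to_isDomain _
  haveI : Finite (AddMonoid.End V) := Finite.of_injective _ DFunLike.coe_injective
  exact Finite.isField_of_domain (Q.K a)

open Classical in
noncomputable instance instFieldK (a : V) : Field (Q.K a) :=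
  { Q.instCommK a with
    exists_pair_ne := (Q.K_isField a).exists_pair_ne
    inv := fun k => if h : k = 0 then 0 else Classical.choose ((Q.K_isField a).mul_inv_cancel h)
    mul_inv_cancel := fun k hk => by
      simp only [dif_neg hk]
      exact Classical.choose_spec ((Q.K_isField a).mul_inv_cancel hk)
    inv_zero := by simp
    nnqsmul := _
    nnqsmul_def := fun _ _ => rfl
    qsmul := _
    qsmul_def := fun _ _ => rfl }

instance (a : V) : Finite (Q.K a) := by
  haveI : Finite (AddMonoid.End V) := Finite.of_injective _ DFunLike.coe_injective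
  infer_instance

theorem smul_K_def {a : V} (k : Q.K a) (v : V) : k • v = k.1 v := rfl

/-- All the fields have one characteristic. -/
theorem exists_char : ∃ p : ℕ, p.Prime ∧ (∀ v : V, (p : ℕ) • v = 0) ∧
    ∀ a : V, CharP (Q.K a) p := by
  obtain ⟨p, hp⟩ := CharP.exists (Q.K Q.e)
  have hpp : p.Prime := (CharP.char_is_prime_or_zero (Q.K Q.e) p).resolve_right fun h0 => by
    subst h0
    haveI : CharZero (Q.K Q.e) := CharP.charP_to_charZero _
    exact not_finite (Q.K Q.e)
  have hv : ∀ v : V, (p : ℕ) • v = 0 := fun v => by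
    rw [← Nat.cast_smul_eq_nsmul (Q.K Q.e), CharP.cast_eq_zero, zero_smul]
  refine ⟨p, hpp, hv, fun a => ?_⟩
  obtain ⟨q, hq⟩ := CharP.exists (Q.K a)
  have h : ((p : ℕ) : Q.K a) • Q.e = 0 := by rw [Nat.cast_smul_eq_nsmul, hv]
  have h0 : ((p : ℕ) : Q.K a) = 0 := (smul_eq_zero.mp h).resolve_right Q.e_ne
  rcases (Nat.dvd_prime hpp).mp ((CharP.cast_eq_zero_iff (Q.K a) q p).mp h0) with h1 | h1
  · exact absurd h1 (CharP.char_ne_one (Q.K a) q)
  · exact h1 ▸ hq

variable {a : V}

/-- An eigenvector of a right multiplication twists the field by an endomorphism. -/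
theorem exists_twist {b : V} {c : Q.K a} (hb : b ≠ 0) (hbc : Q.m b a = c • b) :
    ∃ σ : Q.K a →+* Q.K a, (∀ k : Q.K a, Q.m b (k.1 Q.e) = σ k • b) ∧
      σ ⟨Q.L a, Q.mem_K_self a⟩ = c := by
  have ex : ∀ k : Q.K a, ∃ k' : Q.K a, Q.m b (k.1 Q.e) = k' • b := by
    rintro ⟨k, hk⟩
    refine Q.K_induction (C := fun u => ∃ k' : Q.K a, Q.m b (u Q.e) = k' • b) ?_ ?_ ?_ ?_ hk
    · exact ⟨0, (map_zero (Q.m b)).trans (zero_smul _ b).symm⟩
    · rintro u v ⟨u', hu⟩ ⟨v', hv⟩
      exact ⟨u' + v', by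
        show Q.m b (u Q.e + v Q.e) = _
        rw [map_add, hu, hv, add_smul]⟩
    · rintro u ⟨u', hu⟩
      exact ⟨-u', by
        show Q.m b (-(u Q.e)) = _
        rw [map_neg, hu, neg_smul]⟩
    · intro i
      refine ⟨c ^ i, ?_⟩
      show Q.R (Q.pw a i) b = _
      rw [R_pw]
      induction i with
      | zero => rw [pow_zero, pow_zero, one_smul]; rfl
      | succ i ih =>
        rw [pow_succ']
        show Q.R a ((Q.R a ^ i) b) = _
        rw [ih, pow_succ, mul_smul, ← hbc]
        have h := Q.K_commute_R (c ^ i).2 (Q.mem_K_self a)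
        rw [show Q.L a Q.e = a from Q.e_right a] at h
        exact (DFunLike.congr_fun h b).symm
  choose σ hσ using ex
  have inj : ∀ {u v : Q.K a}, u • b = v • b → u = v := fun h =>
    smul_left_injective (Q.K a) hb h
  refine ⟨{ toFun := σ, map_one' := ?_, map_mul' := ?_, map_zero' := ?_, map_add' := ?_ }, hσ, ?_⟩
  · refine inj ((hσ 1).symm.trans ?_)
    rw [one_smul]
    exact Q.e_right b
  · intro j k
    refine inj ((hσ (j * k)).symm.trans ?_)
    show Q.R ((j.1 * k.1) Q.e) b = _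
    rw [Q.R_mul j.2 k.2]
    show Q.R (j.1 Q.e) (Q.m b (k.1 Q.e)) = _
    rw [hσ k, mul_comm (σ j), mul_smul, ← hσ j]
    exact (DFunLike.congr_fun (Q.K_commute_R (σ k).2 j.2) b).symm
  · refine inj ((hσ 0).symm.trans ?_)
    rw [zero_smul]
    exact map_zero (Q.m b)
  · intro j k
    refine inj ((hσ (j + k)).symm.trans ?_)
    show Q.m b (j.1 Q.e + k.1 Q.e) = _
    rw [map_add, hσ j, hσ k, add_smul]
  · refine inj ((hσ _).symm.trans ?_)
    rw [← hbc]
    exact congrArg (Q.m b) (Q.e_right a)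

/-- Powers of a twisting element twist by powers. -/
theorem twist_pow {b : V} {r : ℕ} (h : ∀ k : Q.K a, Q.m b (k.1 Q.e) = k ^ r • b) :
    ∀ (j : ℕ) (k : Q.K a), (Q.L b ^ j) (k.1 Q.e) = k ^ r ^ j • Q.pw b j := by
  have step : ∀ (j : ℕ) (k : Q.K a), Q.m b (k • Q.pw b j) = k ^ r • Q.pw b (j + 1) := by
    intro j k
    have e1 : ∀ (g : Q.K a) (i : ℕ), g • Q.pw b i = (Q.R b ^ i) (g.1 Q.e) := fun g i => by
      rw [← R_pw, R_apply]
      exact congrFun (congrArg DFunLike.coe (Q.K_eq g.2)) _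
    have e2 : (Q.R b ^ j) (Q.m b (k.1 Q.e)) = Q.m b ((Q.R b ^ j) (k.1 Q.e)) :=
      (DFunLike.congr_fun ((Q.commute_LR b).pow_right j) (k.1 Q.e)).symm
    rw [e1, e1, ← e2, h]
    have e3 : k ^ r • b = Q.R b ((k ^ r).1 Q.e) := by
      have := e1 (k ^ r) 1
      rwa [pw_succ, pw_zero, Q.e_right, pow_one] at this
    rw [e3, pow_succ]
    rfl
  intro j
  induction j with
  | zero => intro k; rw [pow_zero, pow_zero, pow_one]; rfl
  | succ j ih =>
    intro k
    rw [pow_succ' (Q.L b)]
    show Q.m b ((Q.L b ^ j) (k.1 Q.e)) = _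
    rw [ih, step, ← pow_mul, ← pow_succ]

/-- An element commuting with a maximal field lies in it. -/
theorem mem_of_commute (hmax : ∀ x : V, Nat.card (Q.K x) ≤ Nat.card (Q.K a)) {b : V}
    (h : ∀ k : Q.K a, Q.m b (k.1 Q.e) = k • b) : Q.L b ∈ Q.K a := by
  classical
  obtain ⟨p, hp, -, hchar⟩ := Q.exists_char
  haveI : Fact p.Prime := ⟨hp⟩
  haveI := hchar a
  haveI : Fintype (Q.K a) := Fintype.ofFinite _
  obtain ⟨d, -, hd⟩ := FiniteField.card (Q.K a) p
  let W : Submodule (Q.K a) V := Submodule.span _ (Set.range (Q.pw b))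
  have hstep : ∀ (j : ℕ) (k : Q.K a), Q.m b (k • Q.pw b j) = k • Q.pw b (j + 1) := by
    intro j k
    have h1 : ∀ k : Q.K a, Q.m b (k.1 Q.e) = k ^ 1 • b := fun k => by rw [pow_one]; exact h k
    have h2 := Q.twist_pow h1
    have e1 : k • Q.pw b j = (Q.L b ^ j) (k.1 Q.e) := by rw [h2, one_pow, pow_one]
    rw [e1]
    show (Q.L b * Q.L b ^ j) (k.1 Q.e) = _
    rw [← pow_succ', h2, one_pow, pow_one]
  have hlin : ∀ w ∈ W, Q.m b w ∈ W ∧ ∀ g : Q.K a, Q.m b (g • w) = g • Q.m b w := by
    intro w hw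
    induction hw using Submodule.span_induction with
    | mem w hw =>
      obtain ⟨j, rfl⟩ := hw
      have h1 := hstep j 1
      rw [one_smul, one_smul] at h1
      exact ⟨h1 ▸ Submodule.subset_span ⟨_, rfl⟩, fun g => by rw [hstep, h1]⟩
    | zero => simp
    | add u v _ _ hu hv =>
      rw [map_add]
      exact ⟨W.add_mem hu.1 hv.1, fun g => by rw [smul_add, map_add, hu.2, hv.2, smul_add]⟩
    | smul g u _ hu =>
      rw [hu.2]
      exact ⟨W.smul_mem g hu.1, fun g' => by rw [smul_smul, hu.2, smul_smul]⟩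
  let T : Module.End (Q.K a) W :=
    { toFun := fun w => ⟨Q.m b w.1, (hlin w.1 w.2).1⟩
      map_add' := fun u v => Subtype.ext (map_add (Q.m b) u.1 v.1)
      map_smul' := fun g u => Subtype.ext ((hlin u.1 u.2).2 g) }
  let e₀ : W := ⟨Q.e, Submodule.subset_span ⟨0, rfl⟩⟩
  have he₀ : e₀ ≠ 0 := fun e => Q.e_ne (congrArg Subtype.val e)
  haveI : CharP (Module.End (Q.K a) W) p := by
    haveI : Nontrivial W := ⟨⟨e₀, 0, he₀⟩⟩
    exact charP_of_injective_algebraMap (algebraMap (Q.K a) (Module.End (Q.K a) W)).injective p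
  have hfrob : ∀ g : Q.K a, ∃ i : ℕ, (0 < i ∧ i ≤ d) ∧
      algebraMap (Q.K a) (Module.End (Q.K a) W) (g ^ p ^ i) + T ^ p ^ i
        = algebraMap (Q.K a) (Module.End (Q.K a) W) g + T := by
    intro g
    set y := g.1 Q.e + b
    haveI := hchar y
    haveI : Fintype (Q.K y) := Fintype.ofFinite _
    obtain ⟨i, -, hi⟩ := FiniteField.card (Q.K y) p
    refine ⟨i, ⟨i.pos, ?_⟩, ?_⟩
    · have h1 := hmax y
      rw [Nat.card_eq_fintype_card, Nat.card_eq_fintype_card, hi, hd] at h1
      exact (Nat.pow_le_pow_iff_right hp.one_lt).mp h1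
    have hy : Q.L y ^ p ^ (i : ℕ) = Q.L y :=
      hi ▸ congrArg Subtype.val (FiniteField.pow_card (⟨Q.L y, Q.mem_K_self y⟩ : Q.K y))
    rw [map_pow, ← add_pow_char_pow_of_commute _ _ (Algebra.commutes g T)]
    set T' := algebraMap (Q.K a) (Module.End (Q.K a) W) g + T with hT'
    have e1 : ∀ (m : ℕ) (w : W), ((T' ^ m) w).1 = (Q.L y ^ m) w.1 := by
      intro m
      induction m with
      | zero => intro w; rfl
      | succ m ih =>
        intro w
        rw [pow_succ', pow_succ']
        show g • ((T' ^ m) w).1 + Q.m b ((T' ^ m) w).1 = Q.L y ((Q.L y ^ m) w.1)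
        rw [ih, show Q.L y = g.1 + Q.L b by rw [map_add, ← Q.K_eq g.2]]
        rfl
    refine LinearMap.ext fun w => Subtype.ext ?_
    rw [e1, hy, ← pow_one T', e1, pow_one]
  have hTq : T ^ Fintype.card (Q.K a) = T := by
    choose i hi hi' using hfrob
    obtain ⟨g, hg⟩ : ∃ g, i g = d := by
      by_contra hne
      push Not at hne
      have hlt : Fintype.card (Q.K a) ≤ ∑ j ∈ Finset.range (d : ℕ), p ^ j := by
        rw [← Finset.card_univ, Finset.card_eq_sum_card_fiberwise
          (f := i) (t := Finset.range (d : ℕ))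
          (fun g _ => Finset.mem_range.mpr (lt_of_le_of_ne (hi g).2 (hne g)))]
        refine Finset.sum_le_sum fun j _ => ?_
        rcases (Finset.univ.filter fun g => i g = j).eq_empty_or_nonempty with he | ⟨g₁, hg₁⟩
        · rw [he]; simp
        rw [Finset.mem_filter] at hg₁
        have hj : j ≠ 0 := hg₁.2 ▸ (hi g₁).1.ne'
        set f : (Q.K a)[X] := X ^ p ^ j - X - C (g₁ ^ p ^ j - g₁) with hf
        have hj1 : 1 < p ^ j := Nat.one_lt_pow hj hp.one_lt
        have hdeg : f.natDegree = p ^ j := by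
          rw [hf, natDegree_sub_C, FiniteField.X_pow_card_sub_X_natDegree_eq _ hj1]
        have hf0 : f ≠ 0 := fun h0 => by
          rw [h0, natDegree_zero] at hdeg
          omega
        refine le_trans ?_ ((card_roots' f).trans hdeg.le)
        refine (Finset.card_le_card (fun u hu => ?_)).trans (Multiset.toFinset_card_le f.roots)
        rw [Finset.mem_filter] at hu
        rw [Multiset.mem_toFinset, mem_roots hf0]
        have e1 := hi' u
        have e2 := hi' g₁
        rw [hu.2] at e1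
        rw [hg₁.2] at e2
        have e3 : algebraMap (Q.K a) (Module.End (Q.K a) W) ((u ^ p ^ j - u) - (g₁ ^ p ^ j - g₁)) = 0 := by
          refine LinearMap.ext fun w => ?_
          have f1 := LinearMap.congr_fun e1 w
          have f2 := LinearMap.congr_fun e2 w
          simp only [LinearMap.add_apply, Module.algebraMap_end_apply] at f1 f2
          rw [Module.algebraMap_end_apply, sub_smul, sub_smul, sub_smul,
            eq_sub_of_add_eq f1, eq_sub_of_add_eq f2, LinearMap.zero_apply]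
          abel
        haveI : Nontrivial W := ⟨⟨e₀, 0, he₀⟩⟩
        have e4 := (map_eq_zero_iff _ (algebraMap (Q.K a) (Module.End (Q.K a) W)).injective).mp e3
        simp [f, IsRoot, e4]
      rw [hd] at hlt
      have hgeom : ∀ m : ℕ, ∑ j ∈ Finset.range m, p ^ j < p ^ m := by
        intro m
        induction m with
        | zero => simp
        | succ m ih =>
          rw [Finset.sum_range_succ, pow_succ]
          have := Nat.mul_le_mul_left (p ^ m) hp.two_le
          omega
      exact absurd hlt (not_le.mpr (hgeom d))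
    have h1 := hi' g
    rw [hg, ← hd, FiniteField.pow_card] at h1
    refine LinearMap.ext fun w => ?_
    have f1 := LinearMap.congr_fun h1 w
    simp only [LinearMap.add_apply] at f1
    exact add_left_cancel f1
  obtain ⟨c, u, hu, hTu⟩ := exists_eigen T hTq he₀
  have h2 : Q.m (b - c.1 Q.e) u.1 = 0 := by
    rw [map_sub, AddMonoidHom.sub_apply, ← Q.L_apply (c.1 Q.e), ← Q.K_eq c.2, sub_eq_zero]
    exact congrArg Subtype.val hTu
  rcases Q.mul_eq_zero h2 with h3 | h3
  · rw [sub_eq_zero.mp h3, ← Q.K_eq c.2]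
    exact c.2
  · exact absurd (Subtype.ext h3) hu

theorem twist_trivial (hmax : ∀ x : V, Nat.card (Q.K x) ≤ Nat.card (Q.K a)) {p : ℕ}
    [Fact p.Prime] [CharP (Q.K a) p] {b : V} (hb : b ≠ 0) {i : ℕ}
    (h : ∀ k : Q.K a, Q.m b (k.1 Q.e) = k ^ p ^ i • b) : ∀ k : Q.K a, k ^ p ^ i = k := by
  classical
  by_contra hne
  let Bad : ℕ → Prop := fun i => ∃ b : V, b ≠ 0 ∧ (∀ k : Q.K a, Q.m b (k.1 Q.e) = k ^ p ^ i • b) ∧
    ¬ ∀ k : Q.K a, k ^ p ^ i = k
  have hex : ∃ i, Bad i := ⟨i, b, hb, h, hne⟩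
  clear hne h hb b i
  set i := Nat.find hex with hi
  obtain ⟨b, hb, h, hne⟩ := Nat.find_spec hex
  rw [← hi] at h hne
  have hp : p.Prime := Fact.out
  haveI : Fintype (Q.K a) := Fintype.ofFinite _
  obtain ⟨d, -, hd⟩ := FiniteField.card (Q.K a) p
  have hi0 : i ≠ 0 := fun e => hne fun k => by rw [e, pow_zero, pow_one]
  have hper : ∀ (k : Q.K a) (s t : ℕ), k ^ p ^ (d * s + t) = k ^ p ^ t := by
    intro k s t
    rw [pow_add, pow_mul, pow_mul, ← hd, FiniteField.pow_card_pow]
  have hfix_lt : ∀ m : ℕ, 0 < m → m < (d : ℕ) → ¬ ∀ k : Q.K a, k ^ p ^ m = k := by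
    intro m hm hmd hall
    have hm1 : 1 < p ^ m := Nat.one_lt_pow hm.ne' hp.one_lt
    have hf0 := FiniteField.X_pow_card_sub_X_ne_zero (Q.K a) hm1
    have h1 : (Finset.univ : Finset (Q.K a)).card ≤ p ^ m := by
      refine le_trans ?_ ((card_roots' _).trans
        (FiniteField.X_pow_card_sub_X_natDegree_eq (Q.K a) hm1).le)
      refine (Finset.card_le_card (fun k _ => ?_)).trans (Multiset.toFinset_card_le _)
      rw [Multiset.mem_toFinset, mem_roots hf0]
      simp [IsRoot, hall k]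
    rw [Finset.card_univ, hd] at h1
    exact absurd h1 (not_le.mpr (Nat.pow_lt_pow_right hp.one_lt hmd))
  have hpow : ∀ j : ℕ, Q.pw b j ≠ 0 := by
    intro j
    induction j with
    | zero => exact Q.e_ne
    | succ j ih => rw [pw_succ]; exact fun e => (Q.mul_eq_zero e).elim hb ih
  have htw : ∀ (j : ℕ) (k : Q.K a),
      Q.m (Q.pw b j) (k.1 Q.e) = k ^ p ^ (i * j) • Q.pw b j := fun j k => by
    rw [← Q.L_apply, Q.L_pw, Q.twist_pow h, ← pow_mul]
  have hid : i ∣ (d : ℕ) := by
    by_contra hnd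
    have hr : 0 < (d : ℕ) % i := Nat.pos_of_ne_zero fun e => hnd (Nat.dvd_of_mod_eq_zero e)
    have hri : (d : ℕ) % i < i := Nat.mod_lt _ (Nat.pos_of_ne_zero hi0)
    have hle : i - (d : ℕ) % i < i := by omega
    have hmul : i * ((d : ℕ) / i + 1) = (d : ℕ) * 1 + (i - (d : ℕ) % i) := by
      have := Nat.div_add_mod (d : ℕ) i
      rw [mul_add, mul_one]
      omega
    refine Nat.find_min hex hle ⟨Q.pw b ((d : ℕ) / i + 1), hpow _, fun k => ?_, ?_⟩
    · rw [htw, hmul, hper]
    · rcases lt_or_ge (i - (d : ℕ) % i) d with hlt | hge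
      · exact hfix_lt _ (by omega) hlt
      · intro hall
        refine absurd hge (not_le.mpr ?_)
        by_contra hcon
        have hdi : (d : ℕ) < i := by omega
        rw [Nat.mod_eq_of_lt hdi] at hr
        refine Nat.find_min hex (show i - (d : ℕ) < i by omega)
          ⟨b, hb, fun k => ?_, fun hall' => hne fun k => ?_⟩
        · rw [h, ← hper k 1 (i - d), mul_one, Nat.add_sub_cancel' hdi.le]
        · rw [← Nat.add_sub_cancel' hdi.le, ← mul_one (d : ℕ), hper, mul_one]
          exact hall' k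
  obtain ⟨t, ht⟩ := hid
  have ht1 : 1 < t := by
    rcases Nat.lt_trichotomy t 1 with h0 | h0 | h0
    · have := d.pos
      rw [ht, Nat.lt_one_iff.mp h0, mul_zero] at this
      omega
    · refine absurd (fun k => ?_) hne
      rw [h0, mul_one] at ht
      rw [← ht, ← hd, FiniteField.pow_card]
    · exact h0
  set r := p ^ i with hr
  have hr1 : 1 < r := Nat.one_lt_pow hi0 hp.one_lt
  have hq : Fintype.card (Q.K a) = r ^ t := by rw [hd, ht, pow_mul]
  -- the power of b lies in the field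
  have hbt : Q.L (Q.pw b t) ∈ Q.K a := Q.mem_of_commute hmax fun k => by
    rw [htw, ← ht, ← hd, FiniteField.pow_card]
  set β : Q.K a := ⟨Q.L (Q.pw b t), hbt⟩ with hβdef
  have hβe : β.1 Q.e = Q.pw b t := Q.e_right _
  have hβ0 : β ≠ 0 := fun e => hpow t (by rw [← hβe, e]; rfl)
  have hβr : β ^ r = β := by
    refine smul_left_injective (Q.K a) hb ?_
    show β ^ r • b = β • b
    rw [← h, hβe, ← pw_succ]
    show Q.pw b (t + 1) = Q.L (Q.pw b t) b
    rw [L_pw, pw, pow_succ]
    show (Q.L b ^ t) (Q.m b Q.e) = _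
    rw [Q.e_right]
  let E : ℕ → ℕ := fun m => ∑ j ∈ Finset.range m, r ^ j
  have hEs : ∀ m, E (m + 1) = r * E m + 1 := fun m => geom_sum_succ
  obtain ⟨c, hc⟩ : ∃ c : Q.K a, c ^ E t = β := by
    obtain ⟨g, hg⟩ := IsCyclic.exists_generator (α := (Q.K a)ˣ)
    obtain ⟨k, hk⟩ := (Submonoid.mem_powers_iff _ _).mp
      (mem_powers_iff_mem_zpowers.mpr (hg (Units.mk0 β hβ0)))
    have hord : orderOf g = r ^ t - 1 := by
      rw [orderOf_eq_card_of_forall_mem_zpowers hg, Nat.card_eq_fintype_card,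
        Fintype.card_units, hq]
    have hβu : (Units.mk0 β hβ0) ^ r = Units.mk0 β hβ0 := Units.ext (by simpa using hβr)
    rw [← hk, ← pow_mul, pow_eq_pow_iff_modEq, hord] at hβu
    have hgeom : E t * (r - 1) + 1 = r ^ t := by
      have := geom_sum_mul_add (r - 1) t
      rwa [Nat.sub_add_cancel hr1.le] at this
    have hdvd : E t * (r - 1) ∣ k * (r - 1) := by
      have h1 := (Nat.modEq_iff_dvd' (Nat.le_mul_of_pos_right k (by omega))).mp hβu.symm
      rw [show r ^ t - 1 = E t * (r - 1) by omega] at h1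
      rw [Nat.mul_sub_one k r]; exact h1
    obtain ⟨m, hm⟩ := Nat.dvd_of_mul_dvd_mul_right (by omega) hdvd
    refine ⟨(g : Q.K a) ^ m, ?_⟩
    rw [← pow_mul, mul_comm, ← hm, ← Units.val_pow_eq_pow_val, hk, Units.val_mk0]
  have hc0 : c ≠ 0 := fun e => by
    rw [e, zero_pow] at hc
    · exact hβ0 hc.symm
    · have : E t = r * E (t - 1) + 1 := by rw [← hEs, Nat.sub_add_cancel ht1.le]
      omega
  let co : ℕ → Q.K a := fun m => (c ^ E m)⁻¹
  let f : ℕ → V := fun m => co m • Q.pw b m
  have hbf : ∀ m, Q.m b (f m) = c • f (m + 1) := by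
    intro m
    have e1 : f m = (co m).1 (Q.pw b m) := rfl
    have e2 : (co m).1 (Q.pw b m) = (Q.R b ^ m) ((co m).1 Q.e) := by
      rw [← R_pw, R_apply]
      exact congrFun (congrArg DFunLike.coe (Q.K_eq (co m).2)) _
    have e3 : Q.m b ((Q.R b ^ m) ((co m).1 Q.e)) = (Q.R b ^ m) (Q.m b ((co m).1 Q.e)) :=
      DFunLike.congr_fun ((Q.commute_LR b).pow_right m) ((co m).1 Q.e)
    have e4 : (co m) ^ r • b = Q.R b (((co m) ^ r).1 Q.e) := by
      show ((co m) ^ r).1 b = _
      exact congrFun (congrArg DFunLike.coe (Q.K_eq ((co m) ^ r).2)) _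
    rw [e1, e2, e3, h, e4]
    show (Q.R b ^ m * Q.R b) (((co m) ^ r).1 Q.e) = _
    rw [← pow_succ, ← R_pw, R_apply, ← Q.L_apply, ← Q.K_eq ((co m) ^ r).2, smul_smul]
    show ((co m) ^ r) • Q.pw b (m + 1) = _
    congr 1
    show ((c ^ E m)⁻¹) ^ r = c * (c ^ E (m + 1))⁻¹
    rw [hEs, pow_succ, mul_comm r, pow_mul, mul_inv, inv_pow, mul_left_comm, mul_inv_cancel₀ hc0,
      mul_one]
  have hwrap : f t = f 0 := by
    show (c ^ E t)⁻¹ • Q.pw b t = (c ^ E 0)⁻¹ • Q.e
    rw [hc, ← hβe, ← smul_K_def, smul_smul, inv_mul_cancel₀ hβ0]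
    simp [E]
  set v := ∑ m ∈ Finset.range t, f m with hv
  have hbv : Q.m b v = c • v := by
    rw [hv, map_sum, Finset.smul_sum, Finset.sum_congr rfl fun m _ => hbf m, ← Finset.smul_sum,
      ← Finset.smul_sum]
    congr 1
    have h1 := Finset.sum_range_succ f t
    rw [Finset.sum_range_succ', hwrap] at h1
    exact add_right_cancel h1
  have hv0 : v ≠ 0 := by
    intro hv0
    set α : Q.K a := ⟨Q.L a, Q.mem_K_self a⟩
    let T : Module.End (Q.K a) V :=
      { toFun := fun x => Q.R (α.1 Q.e) x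
        map_add' := map_add _
        map_smul' := fun g x => (DFunLike.congr_fun (Q.K_commute_R g.2 α.2) x).symm }
    have hT : ∀ m, T (f m) = α ^ r ^ m • f m := by
      intro m
      rw [map_smul]
      show co m • Q.m (Q.pw b m) (α.1 Q.e) = _
      rw [htw, smul_smul, smul_smul, mul_comm, hr, ← pow_mul]
    let φ : (Q.K a)[X] := ∏ m ∈ Finset.Ico 1 t, (X - C (α ^ r ^ m))
    have hev : ∀ m, aeval T φ (f m) = φ.eval (α ^ r ^ m) • f m := by
      intro m
      by_cases h0 : f m = 0
      · simp [h0]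
      exact Module.End.aeval_apply_of_hasEigenvector ⟨Module.End.mem_eigenspace_iff.mpr (hT m), h0⟩
    have h1 : aeval T φ v = φ.eval (α ^ r ^ 0) • f 0 := by
      rw [hv, map_sum, Finset.sum_eq_single 0]
      · exact hev 0
      · intro m hm hm0
        rw [hev, show φ.eval (α ^ r ^ m) = 0 by
          rw [eval_prod]
          exact Finset.prod_eq_zero (i := m)
            (Finset.mem_Ico.mpr ⟨by omega, Finset.mem_range.mp hm⟩) (by simp), zero_smul]
      · intro h0
        exact absurd (Finset.mem_range.mpr (by omega)) h0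
    rw [hv0, map_zero, eq_comm, smul_eq_zero] at h1
    rcases h1 with h1 | h1
    · rw [eval_prod, Finset.prod_eq_zero_iff] at h1
      obtain ⟨m, hm, hm'⟩ := h1
      rw [Finset.mem_Ico] at hm
      simp only [eval_sub, eval_X, eval_C, pow_zero, pow_one, sub_eq_zero, hr, ← pow_mul] at hm'
      refine hfix_lt (i * m) (Nat.mul_pos (Nat.pos_of_ne_zero hi0) hm.1)
        (ht ▸ Nat.mul_lt_mul_of_pos_left hm.2 (Nat.pos_of_ne_zero hi0)) ?_
      intro k
      refine Subtype.ext ?_
      have key : Q.K a ≤ (RingHom.eqLocus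
          (iterateFrobenius (Q.K a) p (i * m)) (RingHom.id _)).map (Q.K a).subtype := by
        refine Subring.closure_le.mpr ?_
        rintro _ rfl
        refine ⟨α, ?_, rfl⟩
        show iterateFrobenius (Q.K a) p (i * m) α = α
        rw [iterateFrobenius_def]
        exact hm'.symm
      obtain ⟨k', hk', e⟩ := key k.2
      obtain rfl : k' = k := Subtype.ext e
      have hk'' : iterateFrobenius (Q.K a) p (i * m) k' = k' := hk'
      rw [iterateFrobenius_def] at hk''
      exact congrArg Subtype.val hk''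
    · simp only [f, co, E, Finset.range_zero, Finset.sum_empty, pow_zero, inv_one, one_smul] at h1
      exact Q.e_ne h1
  have h3 : Q.m (b - c.1 Q.e) v = 0 := by
    rw [map_sub, AddMonoidHom.sub_apply, ← Q.L_apply (c.1 Q.e), ← Q.K_eq c.2, sub_eq_zero]
    exact hbv
  have hbc : b = c.1 Q.e := sub_eq_zero.mp ((Q.mul_eq_zero h3).resolve_right hv0)
  refine hne fun k => smul_left_injective (Q.K a) hb ?_
  show k ^ r • b = k • b
  rw [← h]
  conv_lhs => rw [hbc, ← Q.L_apply, ← Q.K_eq c.2]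
  rw [hbc]
  exact DFunLike.congr_fun (Q.K_comm c.2 k.2) Q.e

/-- Finite division algebras with both inverse properties are commutative and associative. -/
theorem commutative_associative :
    (∀ x y : V, Q.m x y = Q.m y x) ∧ ∀ x y z : V, Q.m (Q.m x y) z = Q.m x (Q.m y z) := by
  classical
  haveI : Nonempty V := ⟨0⟩
  obtain ⟨a, hmax⟩ := Finite.exists_max fun x : V => Nat.card (Q.K x)
  obtain ⟨p, hp, -, hchar⟩ := Q.exists_char
  haveI : Fact p.Prime := ⟨hp⟩
  haveI := hchar a
  haveI : Fintype (Q.K a) := Fintype.ofFinite _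
  set α : Q.K a := ⟨Q.L a, Q.mem_K_self a⟩ with hα
  let T : Module.End (Q.K a) V :=
    { toFun := fun x => Q.R (α.1 Q.e) x
      map_add' := map_add _
      map_smul' := fun g x => (DFunLike.congr_fun (Q.K_commute_R g.2 α.2) x).symm }
  have hTa : ∀ x, T x = Q.m x a := fun x => congrArg (Q.m x) (Q.e_right a)
  have hTpow : T ^ Fintype.card (Q.K a) = T := by
    refine LinearMap.ext fun x => ?_
    have e1 : ∀ m : ℕ, (T ^ m) x = Q.R ((α ^ m).1 Q.e) x := by
      intro m
      induction m with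
      | zero => exact (Q.e_right x).symm
      | succ m ih =>
        rw [pow_succ', Module.End.mul_apply, ih, pow_succ']
        show _ = Q.R ((α.1 * (α ^ m).1) Q.e) x
        rw [Q.R_mul α.2 (α ^ m).2]
        rfl
    rw [e1, FiniteField.pow_card]
    rfl
  have htriv : ∀ (x : V) (σ : Q.K a →+* Q.K a), x ≠ 0 →
      (∀ k : Q.K a, Q.m x (k.1 Q.e) = σ k • x) → ∀ k, σ k = k := by
    intro x σ hx hσ k
    obtain ⟨i, hi⟩ := exists_frobenius p σ
    rw [hi]
    exact Q.twist_trivial hmax hx (fun k => by rw [hσ, hi]) k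
  have hscal : ∀ x, T x = α • x := eq_scalar T hTpow α fun c u hu huc => by
    obtain ⟨σ, hσ, hσa⟩ := Q.exists_twist hu (c := c) ((hTa u).symm.trans huc)
    rw [← hσa]
    exact htriv u σ hu hσ α
  have hall : ∀ x : V, Q.L x ∈ Q.K a := by
    intro x
    by_cases hx : x = 0
    · rw [hx, map_zero]; exact (Q.K a).zero_mem
    obtain ⟨σ, hσ, -⟩ := Q.exists_twist hx (c := α) ((hTa x).symm.trans (hscal x))
    exact Q.mem_of_commute hmax fun k => by rw [hσ, htriv x σ hx hσ]
  have hmul : ∀ x y : V, Q.L (Q.m x y) = Q.L x * Q.L y := by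
    intro x y
    rw [Q.K_eq ((Q.K a).mul_mem (hall x) (hall y))]
    show _ = Q.L (Q.m x (Q.m y Q.e))
    rw [Q.e_right]
  refine ⟨fun x y => ?_, fun x y z => DFunLike.congr_fun (hmul x y) z⟩
  have h := DFunLike.congr_fun (Q.K_comm (hall x) (hall y)) Q.e
  show Q.m x y = Q.m y x
  have h' : Q.m x (Q.m y Q.e) = Q.m y (Q.m x Q.e) := h
  rwa [Q.e_right, Q.e_right] at h'

end Quasi

end Cfsg.Agent.OW
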