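import Cfsg.Agent.Lib.Plane.Transitive
import Cfsg.Agent.Lib.Plane.Field

/-!
Coordinates of a finite plane with all elations.
-/

set_option autoImplicit false
set_option linter.unusedSectionVars false
set_option linter.style.haveILetI false

namespace Cfsg.Agent.OW

open Configuration

/-- A triangle in a plane with all elations. -/
structure Frame (P L : Type*) [Membership P L] [ProjectivePlane P L] [Finite P] [Finite L] where
  /-- The line at infinity. -/
  li : L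
  /-- The horizontal axis. -/
  xl : L
  /-- The vertical axis. -/
  yl : L
  /-- The horizontal direction. -/
  X : P
  /-- The vertical direction. -/
  Y : P
  /-- The origin. -/
  O : P
  X_li : X ∈ li
  Y_li : Y ∈ li
  X_ne_Y : X ≠ Y
  O_li : O ∉ li
  O_xl : O ∈ xl
  X_xl : X ∈ xl
  O_yl : O ∈ yl
  Y_yl : Y ∈ yl
  full : ∀ (d : P) (l : L), d ∈ l → Nat.card (flGroup d l) = ProjectivePlane.order P L
  comm : ∀ l : L, ∀ g ∈ elGroup P l, ∀ h ∈ elGroup P l, g * h = h * g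

namespace Frame

variable {P L : Type*} [Membership P L] [ProjectivePlane P L] [Finite P] [Finite L] (F : Frame P L)

theorem X_yl : F.X ∉ F.yl := fun h =>
  F.O_li (line_ext F.X_ne_Y h F.Y_yl F.X_li F.Y_li ▸ F.O_yl)

theorem Y_xl : F.Y ∉ F.xl := fun h =>
  F.O_li (line_ext F.X_ne_Y F.X_xl h F.X_li F.Y_li ▸ F.O_xl)

theorem xl_ne_li : F.xl ≠ F.li := fun h => F.O_li (h ▸ F.O_xl)

theorem yl_ne_li : F.yl ≠ F.li := fun h => F.O_li (h ▸ F.O_yl)

theorem xl_ne_yl : F.xl ≠ F.yl := fun h => F.X_yl (h ▸ F.X_xl)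

theorem O_ne_X : F.O ≠ F.X := fun h => F.O_li (h ▸ F.X_li)

theorem O_ne_Y : F.O ≠ F.Y := fun h => F.O_li (h ▸ F.Y_li)

theorem el_of {c : P} {g : Coll P L} (hg : g ∈ flGroup c F.li) (hc : c ∈ F.li) :
    g ∈ elGroup P F.li :=
  mem_elGroup_of_center hg.1 hg.2 hc

theorem el_eq {g h : Coll P L} (hg : g ∈ elGroup P F.li) (hh : h ∈ elGroup P F.li)
    (e : g • F.O = h • F.O) : g = h :=
  (inv_mul_eq_one.mp (elGroup_free ((elGroup P F.li).mul_mem ((elGroup P F.li).inv_mem hh) hg)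
    F.O_li (by rw [mul_smul]; exact inv_smul_eq_iff.mpr e))).symm

theorem el_surj {x : P} (hx : x ∉ F.li) : ∃ g ∈ elGroup P F.li, g • F.O = x := by
  cases nonempty_fintype P
  let f : elGroup P F.li → {y : P // y ∉ F.li} := fun g =>
    ⟨(g : Coll P L) • F.O, smul_not_mem g.2.1 F.O_li⟩
  have hinj : Function.Injective f := fun g h e =>
    Subtype.ext (F.el_eq g.2 h.2 (congrArg Subtype.val e))
  have hcard : Nat.card {y : P // y ∉ F.li} ≤ Nat.card (elGroup P F.li) := by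
    rw [card_off_line]
    have h := card_elGroup (G := ⊤) F.li (ProjectivePlane.order P L) fun d hd => by
      rw [top_inf_eq]; exact F.full d F.li hd
    rw [top_inf_eq] at h
    rw [h]
    have := ProjectivePlane.one_lt_order P L
    obtain ⟨m, hm⟩ : ∃ m, ProjectivePlane.order P L = m + 1 := ⟨_, (Nat.sub_add_cancel this.le).symm⟩
    rw [hm, Nat.add_sub_cancel]
    linarith
  obtain ⟨g, hg⟩ := (hinj.bijective_of_nat_card_le hcard).2 ⟨x, hx⟩
  exact ⟨g, g.2, congrArg Subtype.val hg⟩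

theorem mem_fl_of_line {g : Coll P L} (hg : g ∈ elGroup P F.li) {d : P} {m : L} (hd : d ∈ F.li)
    (hdm : d ∈ m) (hOm : F.O ∈ m) (hgO : g • F.O ∈ m) : g ∈ flGroup d F.li := by
  obtain ⟨c, hcl, hc⟩ := elation_center hg.1 hg.2
  by_cases hg1 : g = 1
  · rw [hg1]; exact one_mem _
  have hne : F.O ≠ g • F.O := fun e => hg1 (elGroup_free hg F.O_li e.symm)
  obtain ⟨k, hck, hOk⟩ := exists_line_through (L := L) (fun e : c = F.O => F.O_li (e ▸ hcl))
  have hkm : k = m := line_ext hne hOk (hc.mem_line hck hOk) hOm hgO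
  subst hkm
  have hkl : k ≠ F.li := fun e => F.O_li (e ▸ hOm)
  obtain rfl : c = d := point_ext hkl hck hdm hcl hd
  exact ⟨hg.1, hc⟩

/-- The vertical translations. -/
abbrev V : Type _ := flGroup F.Y F.li

/-- The horizontal translations. -/
abbrev U : Type _ := flGroup F.X F.li

/-- The shears with vertical axis. -/
abbrev S : Type _ := flGroup F.Y F.yl

theorem V_comm (a b : F.V) : a * b = b * a :=
  Subtype.ext (F.comm F.li _ (F.el_of a.2 F.Y_li) _ (F.el_of b.2 F.Y_li))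

instance : CommGroup F.V :=
  { (inferInstance : Group F.V) with mul_comm := F.V_comm }

theorem shear_fix (σ : F.S) : (σ : Coll P L) • F.li = F.li ∧ (σ : Coll P L) • F.O = F.O :=
  ⟨σ.2.2 _ F.Y_li, σ.2.1 _ F.O_yl⟩

theorem smul_mem_yl (b : F.V) : (b : Coll P L) • F.O ∈ F.yl := b.2.2.mem_line F.Y_yl F.O_yl

theorem smul_mem_xl (a : F.U) : (a : Coll P L) • F.O ∈ F.xl := a.2.2.mem_line F.X_xl F.O_xl

theorem shear_comm (σ : F.S) (b : F.V) :
    (σ : Coll P L) * b = (b : Coll P L) * σ := by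
  have h := flGroup_conj (k := (σ : Coll P L)) b.2
  rw [(F.shear_fix σ).1, σ.2.2.smul_point] at h
  have e : (σ : Coll P L) * b * (σ : Coll P L)⁻¹ = b := F.el_eq (F.el_of h F.Y_li) (F.el_of b.2 F.Y_li) (by
    rw [mul_smul, mul_smul, inv_smul_eq_iff.mpr (F.shear_fix σ).2.symm]
    exact σ.2.1 _ (F.smul_mem_yl b))
  exact mul_inv_eq_iff_eq_mul.mp e

theorem shear_mem (σ : F.S) (a : F.U) :
    (a : Coll P L)⁻¹ * (σ * a * (σ : Coll P L)⁻¹) ∈ flGroup F.Y F.li := by
  have h := flGroup_conj (k := (σ : Coll P L)) a.2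
  rw [(F.shear_fix σ).1] at h
  have hσX : (σ : Coll P L) • F.X ∈ F.li := σ.2.2.mem_line F.Y_li F.X_li
  refine F.mem_fl_of_line ((elGroup P F.li).mul_mem
    ((elGroup P F.li).inv_mem (F.el_of a.2 F.X_li)) (F.el_of h hσX)) F.Y_li F.Y_yl F.O_yl ?_
  rw [mul_smul, mul_smul, mul_smul, inv_smul_eq_iff.mpr (F.shear_fix σ).2.symm,
    ← smul_mem_smul (a : Coll P L), smul_inv_smul]
  refine σ.2.2.mem_line ?_ ((smul_mem_smul (a : Coll P L) F.O F.yl).mpr F.O_yl)
  rw [mem_smul_line, inv_smul_eq_iff.mpr (a.2.1 _ F.Y_li).symm]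
  exact F.Y_yl

/-- A shear adds to a horizontal translation a vertical one. -/
def f (σ : F.S) : F.U →* F.V where
  toFun a := ⟨(a : Coll P L)⁻¹ * (σ * a * (σ : Coll P L)⁻¹), F.shear_mem σ a⟩
  map_one' := Subtype.ext (by simp)
  map_mul' a b := by
    refine Subtype.ext ?_
    have hc : (b : Coll P L) * ((a : Coll P L)⁻¹ * (σ * a * (σ : Coll P L)⁻¹))
        = (a : Coll P L)⁻¹ * (σ * a * (σ : Coll P L)⁻¹) * b :=
      F.comm F.li _ (F.el_of b.2 F.X_li) _ (F.el_of (F.shear_mem σ a) F.Y_li)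
    show ((a : Coll P L) * b)⁻¹ * (σ * ((a : Coll P L) * b) * (σ : Coll P L)⁻¹)
      = ((a : Coll P L)⁻¹ * (σ * a * (σ : Coll P L)⁻¹))
        * ((b : Coll P L)⁻¹ * (σ * b * (σ : Coll P L)⁻¹))
    calc ((a : Coll P L) * b)⁻¹ * (σ * ((a : Coll P L) * b) * (σ : Coll P L)⁻¹)
        = (b : Coll P L)⁻¹ * ((a : Coll P L)⁻¹ * (σ * a * (σ : Coll P L)⁻¹))
          * (σ * b * (σ : Coll P L)⁻¹) := by group
      _ = _ := by
        rw [show (b : Coll P L)⁻¹ * ((a : Coll P L)⁻¹ * (σ * a * (σ : Coll P L)⁻¹))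
            = (a : Coll P L)⁻¹ * (σ * a * (σ : Coll P L)⁻¹) * (b : Coll P L)⁻¹ from
          ((show Commute (b : Coll P L) _ from hc).inv_left).eq]
        group

theorem f_spec (σ : F.S) (a : F.U) :
    (σ : Coll P L) * a * (σ : Coll P L)⁻¹ = (a : Coll P L) * (F.f σ a : Coll P L) :=
  (mul_inv_cancel_left _ _).symm

theorem f_mul (σ τ : F.S) (a : F.U) : F.f (σ * τ) a = F.f σ a * F.f τ a := by
  refine Subtype.ext (mul_left_cancel (a := (a : Coll P L)) ?_)
  rw [← F.f_spec]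
  show ((σ : Coll P L) * τ) * a * ((σ : Coll P L) * τ)⁻¹
    = (a : Coll P L) * ((F.f σ a : Coll P L) * (F.f τ a : Coll P L))
  calc ((σ : Coll P L) * τ) * a * ((σ : Coll P L) * τ)⁻¹
      = (σ : Coll P L) * ((τ : Coll P L) * a * (τ : Coll P L)⁻¹) * (σ : Coll P L)⁻¹ := by group
    _ = (σ : Coll P L) * a * ((F.f τ a : Coll P L) * (σ : Coll P L)⁻¹) := by rw [F.f_spec]; group
    _ = (σ : Coll P L) * a * ((σ : Coll P L)⁻¹ * (F.f τ a : Coll P L)) := by
      rw [((show Commute (σ : Coll P L) (F.f τ a : Coll P L) from F.shear_comm σ _).inv_left).eq]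
    _ = (σ : Coll P L) * a * (σ : Coll P L)⁻¹ * (F.f τ a : Coll P L) := by group
    _ = _ := by rw [F.f_spec, mul_assoc]

theorem f_eq_one {σ : F.S} {a : F.U} (h : F.f σ a = 1) : σ = 1 ∨ a = 1 := by
  by_contra hc
  push Not at hc
  have h' := F.f_spec σ a
  rw [h, OneMemClass.coe_one, mul_one, mul_inv_eq_iff_eq_mul] at h'
  have hfix : (σ : Coll P L) • (a : Coll P L) • F.O = (a : Coll P L) • F.O := by
    rw [← mul_smul, h', mul_smul, (F.shear_fix σ).2]
  have ha1 : (a : Coll P L) • F.O ≠ F.O := fun e =>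
    hc.2 (Subtype.ext (elGroup_free (F.el_of a.2 F.X_li) F.O_li e))
  have hay : (a : Coll P L) • F.O ∉ F.yl := fun e =>
    ha1 (point_ext F.xl_ne_yl (F.smul_mem_xl a) F.O_xl e F.O_yl)
  exact hc.1 (Subtype.ext (eq_one_of_fixed σ.2.1 σ.2.2 hay
    (fun e => hay (e ▸ F.Y_yl)) hfix))

theorem exists_a₀ : ∃ a : F.U, a ≠ 1 := by
  have h := F.full F.X F.li F.X_li
  haveI : Nontrivial F.U := Finite.one_lt_card_iff_nontrivial.mp (by
    rw [h]; exact ProjectivePlane.one_lt_order P L)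
  exact exists_ne 1

theorem exists_σ₁ : ∃ σ : F.S, σ ≠ 1 := by
  have h := F.full F.Y F.yl F.Y_yl
  haveI : Nontrivial F.S := Finite.one_lt_card_iff_nontrivial.mp (by
    rw [h]; exact ProjectivePlane.one_lt_order P L)
  exact exists_ne 1

/-- The unit shear. -/
noncomputable def σ₁ : F.S := F.exists_σ₁.choose

theorem σ₁_ne : F.σ₁ ≠ 1 := F.exists_σ₁.choose_spec

/-- The unit horizontal translation. -/
noncomputable def a₀ : F.U := F.exists_a₀.choose

theorem a₀_ne : F.a₀ ≠ 1 := F.exists_a₀.choose_spec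

theorem f_bij {σ : F.S} (hσ : σ ≠ 1) : Function.Bijective (F.f σ) :=
  ((injective_iff_map_eq_one (F.f σ)).mpr fun _ h =>
    (F.f_eq_one h).resolve_left hσ).bijective_of_nat_card_le
      (by rw [F.full _ _ F.X_li, F.full _ _ F.Y_li])

/-- Horizontal and vertical translations are identified by the unit shear. -/
noncomputable def tx : F.V ≃* F.U := (MulEquiv.ofBijective (F.f F.σ₁) (F.f_bij F.σ₁_ne)).symm

/-- The unit. -/
noncomputable def e : F.V := F.f F.σ₁ F.a₀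

theorem tx_e : F.tx F.e = F.a₀ := (MulEquiv.ofBijective _ (F.f_bij F.σ₁_ne)).symm_apply_apply _

theorem f_tx (u : F.V) : F.f F.σ₁ (F.tx u) = u :=
  (MulEquiv.ofBijective _ (F.f_bij F.σ₁_ne)).apply_symm_apply u

/-- Evaluation of shears at the unit. -/
noncomputable def evHom : F.S →* F.V :=
  MonoidHom.mk' (fun σ => F.f σ F.a₀) fun σ τ => F.f_mul σ τ F.a₀

theorem evHom_bij : Function.Bijective F.evHom :=
  ((injective_iff_map_eq_one F.evHom).mpr fun _ h =>
    (F.f_eq_one h).resolve_right F.a₀_ne).bijective_of_nat_card_le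
      (by rw [F.full _ _ F.Y_li, F.full _ _ F.Y_yl])

/-- The shear of given slope. -/
noncomputable def sh : F.V ≃* F.S := (MulEquiv.ofBijective F.evHom F.evHom_bij).symm

theorem sh_e : F.sh F.e = F.σ₁ := (MulEquiv.ofBijective _ F.evHom_bij).symm_apply_apply _

theorem f_sh (x : F.V) : F.f (F.sh x) F.a₀ = x :=
  (MulEquiv.ofBijective _ F.evHom_bij).apply_symm_apply x

/-- The product. -/
noncomputable def m (x y : F.V) : F.V := F.f (F.sh x) (F.tx y)

theorem m_mul_left (x x' y : F.V) : F.m (x * x') y = F.m x y * F.m x' y := by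
  rw [m, map_mul, F.f_mul]; rfl

theorem m_mul_right (x y y' : F.V) : F.m x (y * y') = F.m x y * F.m x y' := by
  rw [m, map_mul, map_mul]; rfl

theorem m_one_left (y : F.V) : F.m 1 y = 1 := by
  have h := F.m_mul_left 1 1 y
  rwa [one_mul, left_eq_mul] at h

theorem m_one_right (x : F.V) : F.m x 1 = 1 := by
  rw [m, map_one, map_one]

theorem m_e_left (y : F.V) : F.m F.e y = y := by rw [m, F.sh_e, F.f_tx]

theorem m_e_right (x : F.V) : F.m x F.e = x := by rw [m, F.tx_e, F.f_sh]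

theorem e_ne : F.e ≠ 1 := fun h => (F.f_eq_one h).elim F.σ₁_ne F.a₀_ne

/-- The point with given coordinates. -/
noncomputable def pt (u y : F.V) : P := ((F.tx u : Coll P L) * (y : Coll P L)) • F.O

theorem pt_not_li (u y : F.V) : F.pt u y ∉ F.li :=
  smul_not_mem ((axGroup P F.li).mul_mem (F.tx u).2.1 y.2.1) F.O_li

theorem pt_one_one : F.pt 1 1 = F.O := by simp [pt]

theorem pt_one_left (y : F.V) : F.pt 1 y = (y : Coll P L) • F.O := by simp [pt]

theorem pt_one_right (u : F.V) : F.pt u 1 = (F.tx u : Coll P L) • F.O := by simp [pt]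

theorem pt_inj {u u' y y' : F.V} (h : F.pt u y = F.pt u' y') : u = u' ∧ y = y' := by
  have h2 := F.el_eq
    ((elGroup P F.li).mul_mem (F.el_of (F.tx u).2 F.X_li) (F.el_of y.2 F.Y_li))
    ((elGroup P F.li).mul_mem (F.el_of (F.tx u').2 F.X_li) (F.el_of y'.2 F.Y_li)) h
  have e' : (F.tx u' : Coll P L)⁻¹ * (F.tx u : Coll P L) = (y' : Coll P L) * (y : Coll P L)⁻¹ := by
    rw [eq_mul_inv_iff_mul_eq, mul_assoc, h2, inv_mul_cancel_left]
  have h1 := flGroup_disjoint F.X_ne_Y ((flGroup F.X F.li).mul_mem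
    ((flGroup F.X F.li).inv_mem (F.tx u').2) (F.tx u).2)
    (e' ▸ (flGroup F.Y F.li).mul_mem y'.2 ((flGroup F.Y F.li).inv_mem y.2))
  have e1 : (F.tx u' : Coll P L) = F.tx u := inv_mul_eq_one.mp h1
  have e2 : u = u' := F.tx.injective (Subtype.ext e1.symm)
  rw [e1] at h2
  exact ⟨e2, Subtype.ext (mul_left_cancel h2)⟩

theorem pt_surj {x : P} (hx : x ∉ F.li) : ∃ u y, F.pt u y = x := by
  cases nonempty_fintype P
  let g : F.V × F.V → {z : P // z ∉ F.li} := fun w => ⟨F.pt w.1 w.2, F.pt_not_li _ _⟩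
  have hinj : Function.Injective g := fun w w' h =>
    Prod.ext (F.pt_inj (congrArg Subtype.val h)).1 (F.pt_inj (congrArg Subtype.val h)).2
  obtain ⟨w, hw⟩ := (hinj.bijective_of_nat_card_le (by
    rw [card_off_line, Nat.card_prod, F.full _ _ F.Y_li, sq])).2 ⟨x, hx⟩
  exact ⟨w.1, w.2, congrArg Subtype.val hw⟩

theorem translate_pt (k u y : F.V) : (k : Coll P L) • F.pt u y = F.pt u (k * y) := by
  rw [pt, pt, ← mul_smul]
  congr 1
  rw [← mul_assoc, F.comm F.li _ (F.el_of k.2 F.Y_li) _ (F.el_of (F.tx u).2 F.X_li), mul_assoc]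
  rfl

theorem translate_pt' (v u y : F.V) : (F.tx v : Coll P L) • F.pt u y = F.pt (v * u) y := by
  rw [pt, pt, ← mul_smul, map_mul, ← mul_assoc]
  rfl

theorem shear_pt (x u y : F.V) :
    (F.sh x : Coll P L) • F.pt u y = F.pt u (F.m x u * y) := by
  have h := F.f_spec (F.sh x) (F.tx u)
  rw [mul_inv_eq_iff_eq_mul] at h
  rw [pt, pt, ← mul_smul]
  have e : (F.sh x : Coll P L) * ((F.tx u : Coll P L) * y)
      = (F.tx u : Coll P L) * ((F.m x u * y : F.V) : Coll P L) * (F.sh x : Coll P L) := by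
    rw [← mul_assoc, h, mul_assoc, F.shear_comm, ← mul_assoc, mul_assoc (F.tx u : Coll P L)]
    rfl
  rw [e, mul_smul, (F.shear_fix _).2]

theorem pt_mem_xl {u y : F.V} : F.pt u y ∈ F.xl ↔ y = 1 := by
  constructor
  · intro h
    rw [pt, mul_smul] at h
    have hfix : ∀ a : F.U, (a : Coll P L) • F.xl = F.xl := fun a => a.2.2 _ F.X_xl
    rw [← hfix (F.tx u), smul_mem_smul] at h
    exact Subtype.ext (elGroup_free (F.el_of y.2 F.Y_li) F.O_li
      (point_ext F.xl_ne_yl h F.O_xl (F.smul_mem_yl y) F.O_yl))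
  · rintro rfl
    rw [pt_one_right]
    exact F.smul_mem_xl _

theorem pt_mem_yl {u y : F.V} : F.pt u y ∈ F.yl ↔ u = 1 := by
  constructor
  · intro h
    have h1 := (smul_mem_smul ((y : Coll P L)⁻¹) _ _).mpr h
    rw [show ((y : Coll P L)⁻¹) = ((y⁻¹ : F.V) : Coll P L) from rfl, F.translate_pt,
      inv_mul_cancel, pt_one_right, (y⁻¹).2.2 _ F.Y_yl] at h1
    have h2 := point_ext F.xl_ne_yl (F.smul_mem_xl (F.tx u)) F.O_xl h1 F.O_yl
    exact F.tx.injective (by
      rw [map_one]; exact Subtype.ext (elGroup_free (F.el_of (F.tx u).2 F.X_li) F.O_li h2))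
  · rintro rfl
    rw [pt_one_left]
    exact F.smul_mem_yl _

/-- The line with given slope and intercept. -/
noncomputable def ln (x k : F.V) : L := ((k : Coll P L) * (F.sh x : Coll P L)) • F.xl

/-- The vertical line with given abscissa. -/
noncomputable def vert (u : F.V) : L := (F.tx u : Coll P L) • F.yl

/-- The point at infinity of given slope. -/
noncomputable def dir (x : F.V) : P := (F.sh x : Coll P L) • F.X

theorem pt_mem_ln {x k u y : F.V} : F.pt u y ∈ F.ln x k ↔ y = F.m x u * k := by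
  rw [ln, mul_smul]
  have e : F.pt u y = (k : Coll P L) • (F.sh x : Coll P L) • F.pt u ((F.m x u)⁻¹ * (k⁻¹ * y)) := by
    rw [F.shear_pt, mul_inv_cancel_left, F.translate_pt, mul_inv_cancel_left]
  rw [e, smul_mem_smul, smul_mem_smul, F.pt_mem_xl, inv_mul_eq_one, eq_inv_mul_iff_mul_eq,
    mul_comm k, eq_comm]

theorem pt_mem_vert {v u y : F.V} : F.pt u y ∈ F.vert v ↔ u = v := by
  rw [vert]
  have e : F.pt u y = (F.tx v : Coll P L) • F.pt (v⁻¹ * u) y := by
    rw [F.translate_pt', mul_inv_cancel_left]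
  rw [e, smul_mem_smul, F.pt_mem_yl, inv_mul_eq_one, eq_comm]

theorem dir_li (x : F.V) : F.dir x ∈ F.li := (F.sh x).2.2.mem_line F.Y_li F.X_li

theorem dir_ne_Y (x : F.V) : F.dir x ≠ F.Y := fun h =>
  F.X_ne_Y (MulAction.injective (F.sh x : Coll P L) (h.trans (F.sh x).2.2.smul_point.symm))

theorem dir_one : F.dir 1 = F.X := by simp [dir]

theorem dir_inj {x x' : F.V} (h : F.dir x = F.dir x') : x = x' := by
  refine F.sh.injective (inv_mul_eq_one.mp (Subtype.ext ?_)).symm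
  refine eq_one_of_fixed ((axGroup P F.yl).mul_mem ((axGroup P F.yl).inv_mem (F.sh x').2.1) (F.sh x).2.1)
    ((ceGroup L F.Y).mul_mem ((ceGroup L F.Y).inv_mem (F.sh x').2.2) (F.sh x).2.2) F.X_yl F.X_ne_Y ?_
  show ((F.sh x' : Coll P L)⁻¹ * F.sh x) • F.X = F.X
  rw [mul_smul]
  exact inv_smul_eq_iff.mpr h

theorem dir_surj {q : P} (hq : q ∈ F.li) (hqY : q ≠ F.Y) : ∃ x, F.dir x = q := by
  have hqy : q ∉ F.yl := fun e => hqY (point_ext F.yl_ne_li e F.Y_yl hq F.Y_li)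
  obtain ⟨σ, hσ, hσq⟩ := exists_elation (A := flGroup F.Y F.yl) le_rfl (F.full _ _ F.Y_yl)
    F.Y_yl F.Y_li F.X_yl hqy F.X_li hq
  obtain ⟨x, hx⟩ := F.sh.surjective ⟨σ, hσ⟩
  exact ⟨x, by rw [dir, hx]; exact hσq⟩

theorem dir_mem_ln (x k : F.V) : F.dir x ∈ F.ln x k := by
  rw [ln, mul_smul, ← k.2.1 _ (F.dir_li x)]
  exact (smul_mem_smul _ _ _).mpr ((smul_mem_smul _ _ _).mpr F.X_xl)

theorem dir_mem_ln_iff {x x' k : F.V} : F.dir x' ∈ F.ln x k ↔ x' = x := by
  refine ⟨fun h => F.dir_inj (point_ext (l := F.ln x k) (m := F.li) ?_ h (F.dir_mem_ln x k)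
    (F.dir_li x') (F.dir_li x)), fun h => h ▸ F.dir_mem_ln x k⟩
  exact fun e => F.pt_not_li 1 k
    (Eq.mp (congrArg (fun l => F.pt 1 k ∈ l) e) (F.pt_mem_ln.mpr (by rw [F.m_one_right, one_mul])))

theorem Y_mem_vert (v : F.V) : F.Y ∈ F.vert v := by
  rw [vert, mem_smul_line, inv_smul_eq_iff.mpr ((F.tx v).2.1 _ F.Y_li).symm]
  exact F.Y_yl

theorem vert_ne_li (v : F.V) : F.vert v ≠ F.li := fun e =>
  F.pt_not_li v 1 (Eq.mp (congrArg (fun l => F.pt v 1 ∈ l) e) (F.pt_mem_vert.mpr rfl))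

theorem ln_ne_li (x k : F.V) : F.ln x k ≠ F.li := fun e =>
  F.pt_not_li 1 k
    (Eq.mp (congrArg (fun l => F.pt 1 k ∈ l) e) (F.pt_mem_ln.mpr (by rw [F.m_one_right, one_mul])))

theorem Y_not_ln (x k : F.V) : F.Y ∉ F.ln x k := fun h =>
  F.dir_ne_Y x (point_ext (F.ln_ne_li x k) (F.dir_mem_ln x k) h (F.dir_li x) F.Y_li)

theorem line_cases (l : L) :
    l = F.li ∨ (∃ v, l = F.vert v) ∨ ∃ x k, l = F.ln x k := by
  by_cases hl : l = F.li
  · exact Or.inl hl
  refine Or.inr ?_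
  obtain ⟨q, hql, hqi⟩ := exists_meet (P := P) hl
  obtain ⟨z, hzl, hzq⟩ := exists_mem_ne l q
  have hzi : z ∉ F.li := fun e => hl (line_ext hzq hzl hql e hqi)
  obtain ⟨u, y, rfl⟩ := F.pt_surj hzi
  by_cases hqY : q = F.Y
  · subst hqY
    exact Or.inl ⟨u, line_ext hzq hzl hql (F.pt_mem_vert.mpr rfl) (F.Y_mem_vert u)⟩
  · obtain ⟨x, rfl⟩ := F.dir_surj hqi hqY
    exact Or.inr ⟨x, (F.m x u)⁻¹ * y, line_ext hzq hzl hql
      (F.pt_mem_ln.mpr (by rw [mul_inv_cancel_left])) (F.dir_mem_ln _ _)⟩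

theorem exists_right {u : F.V} (hu : u ≠ 1) (hu' : F.e * u ≠ 1) :
    ∃ z, ∀ w, F.m (w * F.m w u) z = F.m w u := by
  have hE : F.pt F.e 1 ∈ F.xl := F.pt_mem_xl.mpr rfl
  have hEy : F.pt F.e 1 ∉ F.yl := fun h => F.e_ne (F.pt_mem_yl.mp h)
  obtain ⟨π, hπ, hπX⟩ := exists_elation (A := flGroup F.O F.yl) le_rfl (F.full _ _ F.O_yl)
    F.O_yl F.O_xl F.X_yl hEy F.X_xl hE
  have hπY : π • F.Y = F.Y := hπ.1 _ F.Y_yl
  have hπxl : π • F.xl = F.xl := hπ.2 _ F.O_xl
  set Uu := F.pt u 1 with hU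
  have hπU : π • Uu ∈ F.xl := by
    have := (smul_mem_smul π Uu F.xl).mpr (F.pt_mem_xl.mpr rfl)
    rwa [hπxl] at this
  have hπQ : ∀ w : F.V, π • F.pt u (F.m w u) ∈ F.ln w 1
      ∧ π • F.pt u (F.m w u) ∈ F.ln ((F.m w u)⁻¹) (F.m w u) ∧
      ∀ k : L, F.Y ∈ k → π • Uu ∈ k → π • F.pt u (F.m w u) ∈ k := by
    intro w
    set k := F.m w u with hk
    refine ⟨?_, ?_, ?_⟩
    · have hfix : π • F.ln w 1 = F.ln w 1 := hπ.2 _ (by
        rw [← F.pt_one_one, F.pt_mem_ln, F.m_one_right, one_mul])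
      rw [← hfix, smul_mem_smul, F.pt_mem_ln, mul_one]
    · have himg : π • F.ln 1 k = F.ln k⁻¹ k := by
        have h0 : F.pt 1 k ∈ F.ln 1 k := F.pt_mem_ln.mpr (by rw [F.m_one_right, one_mul])
        have h1 : π • F.pt 1 k = F.pt 1 k := hπ.1 _ (F.pt_mem_yl.mpr rfl)
        have hX : F.X ∈ F.ln 1 k := F.dir_one ▸ F.dir_mem_ln 1 k
        have hne : F.pt 1 k ≠ F.pt F.e 1 := fun e => F.e_ne (F.pt_inj e).1.symm
        refine line_ext hne ?_ ?_ (F.pt_mem_ln.mpr (by rw [F.m_one_right, one_mul]))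
          (F.pt_mem_ln.mpr (by rw [F.m_e_right, inv_mul_cancel]))
        · rw [← h1, smul_mem_smul]; exact h0
        · rw [← hπX, smul_mem_smul]; exact hX
      rw [← himg, smul_mem_smul, F.pt_mem_ln, F.m_one_left, one_mul]
    · intro l hYl hUl
      have hv : F.pt u k ∈ F.vert u := F.pt_mem_vert.mpr rfl
      have h3 : π • F.vert u = l := by
        refine line_ext (p := F.Y) (q := π • Uu) ?_ ?_ ?_ hYl hUl
        · intro e
          exact F.Y_xl (e ▸ hπU)
        · rw [← hπY, smul_mem_smul]; exact F.Y_mem_vert u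
        · rw [smul_mem_smul]; exact F.pt_mem_vert.mpr rfl
      rw [← h3, smul_mem_smul]; exact hv
  by_cases hUi : π • Uu ∈ F.li
  · exfalso
    obtain ⟨h1, h2, h3⟩ := hπQ F.e
    have h4 := h3 F.li F.Y_li hUi
    have h5 : π • F.pt u (F.m F.e u) = F.dir F.e :=
      point_ext (F.ln_ne_li _ _) h1 (F.dir_mem_ln _ _) h4 (F.dir_li _)
    rw [h5, F.dir_mem_ln_iff, F.m_e_left] at h2
    exact hu' (by rw [h2, inv_mul_cancel])
  obtain ⟨z, y, hzy⟩ := F.pt_surj hUi
  refine ⟨z, fun w => ?_⟩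
  obtain ⟨h1, h2, h3⟩ := hπQ w
  have h4 := h3 (F.vert z) (F.Y_mem_vert z) (hzy ▸ F.pt_mem_vert.mpr rfl)
  obtain ⟨z', y', h5⟩ := F.pt_surj (show π • F.pt u (F.m w u) ∉ F.li from fun h => by
    have h' := point_ext (F.vert_ne_li z) h4 (F.Y_mem_vert z) h F.Y_li
    exact F.Y_not_ln w 1 (Eq.mp (congrArg (fun q => q ∈ F.ln w 1) h') h1))
  rw [← h5] at h1 h2 h4
  obtain rfl := F.pt_mem_vert.mp h4
  rw [F.pt_mem_ln, mul_one] at h1
  rw [F.pt_mem_ln, h1] at h2
  have h6 : F.m (F.m w u)⁻¹ z' = (F.m (F.m w u) z')⁻¹ := by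
    refine eq_inv_of_mul_eq_one_left ?_
    rw [← F.m_mul_left, inv_mul_cancel, F.m_one_left]
  rw [F.m_mul_left, h2, h6, mul_right_comm, inv_mul_cancel, one_mul]

theorem exists_left {u : F.V} (hu : u ≠ 1) (hu' : u * F.e ≠ 1) :
    ∃ z, ∀ v, F.m z (F.m u v * v) = F.m u v := by
  have hX : F.dir u ∉ F.xl := fun h =>
    hu (F.dir_inj ((point_ext F.xl_ne_li h F.X_xl (F.dir_li u) F.X_li).trans F.dir_one.symm))
  obtain ⟨τ, hτ, hτY⟩ := exists_elation (A := flGroup F.X F.xl) le_rfl (F.full _ _ F.X_xl)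
    F.X_xl F.X_li F.Y_xl hX F.Y_li (F.dir_li u)
  have hτO : τ • F.O = F.O := hτ.1 _ F.O_xl
  have hτli : τ • F.li = F.li := hτ.2 _ F.X_li
  have himg : ∀ v, τ • F.pt (F.m u v) (F.m u v) = F.pt (F.m u v * v) (F.m u v) := by
    intro v
    set y := F.m u v
    have hline : ∀ x, τ • F.ln 1 x = F.ln 1 x := fun x =>
      hτ.2 _ (F.dir_one ▸ F.dir_mem_ln 1 x)
    have hv : τ • F.vert 1 = F.ln u 1 := by
      refine line_ext (p := F.O) (q := F.dir u) ?_ ?_ ?_ ?_ (F.dir_mem_ln u 1)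
      · exact fun e => F.O_li (e ▸ F.dir_li u)
      · rw [← hτO, smul_mem_smul, ← F.pt_one_one]; exact F.pt_mem_vert.mpr rfl
      · rw [← hτY, smul_mem_smul]; exact F.Y_mem_vert 1
      · rw [← F.pt_one_one, F.pt_mem_ln, F.m_one_right, one_mul]
    -- the image of the vertical axis point of height y
    have h0 : τ • F.pt 1 y = F.pt v y := by
      have h1 : F.ln 1 y ≠ F.ln u 1 := fun e => hu (F.dir_mem_ln_iff.mp (e ▸ F.dir_mem_ln 1 y :
        F.dir 1 ∈ F.ln u 1)).symm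
      refine point_ext h1 ?_ (F.pt_mem_ln.mpr (by rw [F.m_one_left, one_mul])) ?_
        (F.pt_mem_ln.mpr (by rw [mul_one]))
      · rw [← hline y, smul_mem_smul, F.pt_mem_ln, F.m_one_left, one_mul]
      · rw [← hv, smul_mem_smul, F.pt_mem_vert]
    -- shears commute with horizontal translations
    have hcomm : ∀ a : F.U, τ * (a : Coll P L) = (a : Coll P L) * τ := by
      intro a
      have h := flGroup_conj (k := τ) a.2
      rw [hτli, hτ.2.smul_point] at h
      exact mul_inv_eq_iff_eq_mul.mp (F.el_eq (F.el_of h F.X_li) (F.el_of a.2 F.X_li) (by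
        rw [mul_smul, mul_smul, inv_smul_eq_iff.mpr hτO.symm]
        exact hτ.1 _ (F.smul_mem_xl a)))
    have h2 : F.pt y y = (F.tx y : Coll P L) • F.pt 1 y := by rw [F.translate_pt', mul_one]
    rw [h2, ← mul_smul, hcomm, mul_smul, h0, F.translate_pt']
  by_cases hY : τ • F.dir F.e = F.Y
  · exfalso
    have h1 := himg F.e
    rw [F.m_e_right] at h1
    have hline : τ • F.ln F.e 1 = F.vert 1 := by
      refine line_ext (p := F.O) (q := F.Y) F.O_ne_Y ?_ ?_ ?_ (F.Y_mem_vert 1)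
      · rw [← hτO, smul_mem_smul, ← F.pt_one_one, F.pt_mem_ln, F.m_one_right, one_mul]
      · exact Eq.mp (congrArg (fun q => q ∈ τ • F.ln F.e 1) hY)
          ((smul_mem_smul τ _ _).mpr (F.dir_mem_ln _ _))
      · rw [← F.pt_one_one]; exact F.pt_mem_vert.mpr rfl
    have h2 : F.pt (u * F.e) u ∈ F.vert 1 := by
      rw [← h1, ← hline, smul_mem_smul, F.pt_mem_ln, F.m_e_left, mul_one]
    exact hu' (F.pt_mem_vert.mp h2)
  have hd : τ • F.dir F.e ∈ F.li := by
    have := (smul_mem_smul τ _ _).mpr (F.dir_li F.e)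
    rwa [hτli] at this
  obtain ⟨z, hz⟩ := F.dir_surj hd hY
  refine ⟨z, fun v => ?_⟩
  have hline : τ • F.ln F.e 1 = F.ln z 1 := by
    refine line_ext (p := F.O) (q := F.dir z) ?_ ?_ ?_ ?_ (F.dir_mem_ln z 1)
    · exact fun e => F.O_li (e ▸ F.dir_li z)
    · rw [← hτO, smul_mem_smul, ← F.pt_one_one, F.pt_mem_ln, F.m_one_right, one_mul]
    · rw [hz, smul_mem_smul]; exact F.dir_mem_ln _ _
    · rw [← F.pt_one_one, F.pt_mem_ln, F.m_one_right, one_mul]
  have h2 : F.pt (F.m u v * v) (F.m u v) ∈ F.ln z 1 := by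
    rw [← himg v, ← hline, smul_mem_smul, F.pt_mem_ln, F.m_e_left, mul_one]
  rw [F.pt_mem_ln, mul_one] at h2
  exact h2.symm

theorem m_inv_left (x y : F.V) : F.m x⁻¹ y = (F.m x y)⁻¹ := by
  refine eq_inv_of_mul_eq_one_left ?_
  rw [← F.m_mul_left, inv_mul_cancel, F.m_one_left]

theorem m_inv_right (x y : F.V) : F.m x y⁻¹ = (F.m x y)⁻¹ := by
  refine eq_inv_of_mul_eq_one_left ?_
  rw [← F.m_mul_right, inv_mul_cancel, F.m_one_right]

theorem left_inverse {d : F.V} (hd : d ≠ 1) : ∃ c, ∀ v, F.m c (F.m d v) = v := by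
  by_cases hde : d = F.e
  · exact ⟨F.e, fun v => by rw [hde, F.m_e_left, F.m_e_left]⟩
  set u := d * F.e⁻¹ with hu
  have hu1 : u ≠ 1 := fun h => hde (mul_inv_eq_one.mp h)
  obtain ⟨z, hz⟩ := F.exists_left hu1 (by rwa [hu, inv_mul_cancel_right])
  refine ⟨F.e * z⁻¹, fun v => ?_⟩
  have h := hz v
  rw [hu, F.m_mul_left, F.m_inv_left, F.m_e_left, inv_mul_cancel_right] at h
  rw [F.m_mul_left, F.m_e_left, F.m_inv_left, h, mul_inv_rev, inv_inv, mul_comm v,
    mul_inv_cancel_left]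

theorem right_inverse {d : F.V} (hd : d ≠ 1) : ∃ c, ∀ v, F.m (F.m v d) c = v := by
  by_cases hde : d = F.e
  · exact ⟨F.e, fun v => by rw [hde, F.m_e_right, F.m_e_right]⟩
  set u := F.e⁻¹ * d with hu
  have hu1 : u ≠ 1 := fun h => hde (inv_mul_eq_one.mp h).symm
  obtain ⟨z, hz⟩ := F.exists_right hu1 (by rwa [hu, mul_inv_cancel_left])
  refine ⟨F.e * z⁻¹, fun v => ?_⟩
  have h := hz v
  rw [hu, F.m_mul_right, F.m_inv_right, F.m_e_right, mul_inv_cancel_left] at h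
  rw [F.m_mul_right, F.m_e_right, F.m_inv_right, h, mul_inv_rev, inv_inv, mul_inv_cancel_left]

/-- The coordinate algebra. -/
noncomputable def quasi : Quasi (Additive F.V) where
  m := AddMonoidHom.mk' (fun x => AddMonoidHom.mk'
    (fun y => Additive.ofMul (F.m x.toMul y.toMul))
      fun y y' => congrArg Additive.ofMul (F.m_mul_right _ _ _))
    fun x x' => AddMonoidHom.ext fun y => congrArg Additive.ofMul (F.m_mul_left _ _ _)
  e := Additive.ofMul F.e
  e_left y := congrArg Additive.ofMul (F.m_e_left y.toMul)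
  e_right x := congrArg Additive.ofMul (F.m_e_right x.toMul)
  e_ne h := F.e_ne (congrArg Additive.toMul h)
  linv x hx := by
    obtain ⟨c, hc⟩ := F.left_inverse (d := x.toMul) fun h => hx (congrArg Additive.ofMul h)
    exact ⟨Additive.ofMul c, fun z => congrArg Additive.ofMul (hc z.toMul)⟩
  rinv x hx := by
    obtain ⟨c, hc⟩ := F.right_inverse (d := x.toMul) fun h => hx (congrArg Additive.ofMul h)
    exact ⟨Additive.ofMul c, fun z => congrArg Additive.ofMul (hc z.toMul)⟩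

theorem m_comm (x y : F.V) : F.m x y = F.m y x :=
  congrArg Additive.toMul (F.quasi.commutative_associative.1 (Additive.ofMul x) (Additive.ofMul y))

theorem m_assoc (x y z : F.V) : F.m (F.m x y) z = F.m x (F.m y z) :=
  congrArg Additive.toMul
    (F.quasi.commutative_associative.2 (Additive.ofMul x) (Additive.ofMul y) (Additive.ofMul z))

end Frame

end Cfsg.Agent.OW
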