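import Cfsg.Agent.Lib.Plane.Transitive
import Cfsg.Agent.Lib.Plane.Fixed

/-!
Stabilisers in doubly transitive planes; antiflag transitive groups are doubly transitive.
-/

set_option autoImplicit false
set_option linter.unusedSectionVars false
set_option linter.style.haveILetI false

namespace Cfsg.Agent.OW

open Configuration

section Groups

variable {Γ : Type*} [Group Γ] [Finite Γ]

/-- Orbit counting inside a subgroup. -/
theorem card_eq_orbit_mul {X : Type*} [MulAction Γ X] (K : Subgroup Γ) (x : X) :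
    Nat.card K = (MulAction.orbit K x).ncard
      * Nat.card (K ⊓ MulAction.stabilizer Γ x : Subgroup Γ) := by
  rw [← MulAction.index_stabilizer, ← Subgroup.index_mul_card (MulAction.stabilizer K x)]
  congr 1
  exact Nat.card_congr
    { toFun := fun k => ⟨k.1.1, k.1.2, k.2⟩
      invFun := fun k => ⟨⟨k.1, k.2.1⟩, k.2.2⟩
      left_inv := fun _ => rfl
      right_inv := fun _ => rfl }

/-- A Sylow subgroup of a subgroup, described by its order. -/
def IsSyl (p : ℕ) (S K : Subgroup Γ) : Prop :=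
  S ≤ K ∧ IsPGroup p S ∧ ∃ c : ℕ, ¬ p ∣ c ∧ Nat.card K = Nat.card S * c

theorem IsSyl.eq_of_le {p : ℕ} [hp : Fact p.Prime] {S T K : Subgroup Γ} (h : IsSyl p S K)
    (hST : S ≤ T) (hTK : T ≤ K) (hT : IsPGroup p T) : T = S := by
  obtain ⟨-, -, c, hc, hK⟩ := h
  obtain ⟨i, hi⟩ := IsPGroup.iff_card.mp hT
  have h1 : Nat.card T ∣ Nat.card S * c := hK ▸ Subgroup.card_dvd_of_le hTK
  rw [hi] at h1
  have h2 : p ^ i ∣ Nat.card S :=
    ((hp.out.coprime_iff_not_dvd.mpr hc).pow_left i).dvd_of_dvd_mul_right h1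
  exact (Subgroup.eq_of_le_of_card_ge hST (hi ▸ Nat.le_of_dvd Nat.card_pos h2)).symm

theorem exists_isSyl {p : ℕ} [Fact p.Prime] {R K : Subgroup Γ} (hRK : R ≤ K) (hR : IsPGroup p R) :
    ∃ S, R ≤ S ∧ IsSyl p S K := by
  obtain ⟨Q, hQ⟩ := (hR.comap_of_injective K.subtype Subtype.val_injective).exists_le_sylow
  refine ⟨Q.1.map K.subtype, fun r hr => ⟨⟨r, hRK hr⟩, hQ hr, rfl⟩, Subgroup.map_subtype_le _,
    Q.2.map _, Q.1.index, Q.not_dvd_index, ?_⟩
  rw [Subgroup.card_map_of_injective Subtype.val_injective, Subgroup.card_mul_index]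

theorem IsSyl.of_card {p : ℕ} {S K K' : Subgroup Γ} (h : IsSyl p S K) (hS : S ≤ K')
    {c : ℕ} (hc : ¬ p ∣ c) (hp : p.Prime) (hcard : Nat.card K' = c * Nat.card K) : IsSyl p S K' := by
  obtain ⟨-, h2, c', hc', hK⟩ := h
  exact ⟨hS, h2, c * c', fun hd => (hp.dvd_mul.mp hd).elim hc hc', by rw [hcard, hK]; ring⟩

theorem IsSyl.conj {p : ℕ} [Fact p.Prime] {S T K : Subgroup Γ} (hT : IsSyl p T K)
    (hSK : S ≤ K) (hS : IsPGroup p S) : ∃ k ∈ K, ∀ s ∈ S, k * s * k⁻¹ ∈ T := by
  let T' : Sylow p K :=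
    { toSubgroup := T.subgroupOf K
      isPGroup' := hT.2.1.comap_of_injective K.subtype Subtype.val_injective
      is_maximal' := fun {U} hU hle => by
        have h := hT.eq_of_le (T := U.map K.subtype) (fun t ht => ⟨⟨t, hT.1 ht⟩, hle ht, rfl⟩)
          (Subgroup.map_subtype_le _) (hU.map _)
        ext u
        rw [Subgroup.mem_subgroupOf, ← h, Subgroup.mem_map]
        exact ⟨fun hu => ⟨u, hu, rfl⟩, fun ⟨v, hv, e⟩ => Subtype.ext e ▸ hv⟩ }
  obtain ⟨Q, hQ⟩ := (hS.comap_of_injective K.subtype Subtype.val_injective).exists_le_sylow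
  obtain ⟨k, hk⟩ := MulAction.exists_smul_eq K Q T'
  refine ⟨k, k.2, fun s hs => ?_⟩
  have h1 : (⟨s, hSK hs⟩ : K) ∈ Q := hQ hs
  have h2 : k * ⟨s, hSK hs⟩ * k⁻¹ ∈ T' := by
    rw [← hk]
    exact Subgroup.mem_map.mpr ⟨_, h1, rfl⟩
  exact h2

theorem mem_normalizer_of_conj {U : Subgroup Γ} {g : Γ} (h : ∀ u ∈ U, g * u * g⁻¹ ∈ U) :
    g ∈ Subgroup.normalizer (U : Set Γ) := by
  have he : U.map (MulAut.conj g).toMonoidHom = U := by
    refine Subgroup.eq_of_le_of_card_ge (fun _ ⟨u, hu, e⟩ => e ▸ h u hu) ?_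
    rw [Subgroup.card_map_of_injective (MulAut.conj g).injective]
  refine Subgroup.mem_normalizer_iff.mpr fun w => ⟨h w, fun hw => ?_⟩
  rw [← he] at hw
  obtain ⟨u, hu, e⟩ := hw
  rwa [← (MulAut.conj g).injective e]

/-- A prime power dividing the orbit of a group divides each orbit of its Sylow subgroup. -/
theorem IsSyl.pow_dvd_orbit {p s : ℕ} [hp : Fact p.Prime] {S K : Subgroup Γ} (h : IsSyl p S K)
    {X : Type*} [MulAction Γ X] (x : X) (hd : p ^ s ∣ (MulAction.orbit K x).ncard) :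
    p ^ s ∣ (MulAction.orbit S x).ncard := by
  obtain ⟨hSK, -, c, hc, hK⟩ := h
  have h1 := card_eq_orbit_mul K x
  rw [hK, card_eq_orbit_mul S x] at h1
  obtain ⟨r, hr⟩ := hd
  obtain ⟨t, ht⟩ := Subgroup.card_dvd_of_le (inf_le_inf_right (MulAction.stabilizer Γ x) hSK)
  rw [hr, ht] at h1
  have hpos : 0 < Nat.card (S ⊓ MulAction.stabilizer Γ x : Subgroup Γ) := Nat.card_pos
  have h2 : (MulAction.orbit S x).ncard * c = p ^ s * (r * t) :=
    Nat.eq_of_mul_eq_mul_right hpos (by linarith)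
  exact ((hp.out.coprime_iff_not_dvd.mpr hc).pow_left s).dvd_of_dvd_mul_right ⟨_, h2⟩

theorem dvd_card_of_orbits {X : Type*} [MulAction Γ X] [Finite X] (K : Subgroup Γ) (Y : Set X)
    (d : ℕ) (hY : ∀ k ∈ K, ∀ y ∈ Y, k • y ∈ Y) (hd : ∀ y ∈ Y, d ∣ (MulAction.orbit K y).ncard) :
    d ∣ Y.ncard := by
  induction hn : Y.ncard using Nat.strong_induction_on generalizing Y with
  | _ n ih =>
    subst hn
    rcases Y.eq_empty_or_nonempty with rfl | ⟨y, hy⟩
    · simp
    have hsub : MulAction.orbit K y ⊆ Y := fun _ ⟨k, e⟩ => e ▸ hY k k.2 y hy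
    have h1 := Set.ncard_sdiff_add_ncard_of_subset hsub
    have hpos : 0 < (MulAction.orbit K y).ncard :=
      (Set.ncard_pos).mpr ⟨y, MulAction.mem_orbit_self y⟩
    rw [← h1]
    refine (Nat.dvd_add_left (hd y hy)).mpr (ih (Y \ MulAction.orbit K y).ncard (by omega)
      (Y \ MulAction.orbit K y) (fun k hk z hz => ⟨hY k hk z hz.1,
      fun hz' => hz.2 ?_⟩) (fun z hz => hd z hz.1) rfl)
    obtain ⟨k', e⟩ := hz'
    exact ⟨⟨k, hk⟩⁻¹ * k', (mul_smul _ k' y).trans (inv_smul_eq_iff.mpr e)⟩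

theorem exists_pElement_pow {p : ℕ} [hp : Fact p.Prime] (g : Γ) :
    ∃ q : ℕ, ¬ p ∣ q ∧ ∃ i : ℕ, (g ^ q) ^ (p ^ i) = 1 := by
  refine ⟨orderOf g / p ^ (orderOf g).factorization p, Nat.not_dvd_ordCompl hp.out
    (orderOf_pos g).ne', (orderOf g).factorization p, ?_⟩
  rw [← pow_mul, Nat.div_mul_cancel (Nat.ordProj_dvd _ _), pow_orderOf_eq_one]

end Groups

variable {P L : Type*} [Membership P L] [ProjectivePlane P L] [Finite P] [Finite L]
  {G : Subgroup (Coll P L)}

/-- The stabiliser in the group of a point and a line. -/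
def St2 (G : Subgroup (Coll P L)) (x : P) (l : L) : Subgroup (Coll P L) :=
  G ⊓ MulAction.stabilizer (Coll P L) x ⊓ MulAction.stabilizer (Coll P L) l

theorem mem_St2 {g : Coll P L} {x : P} {l : L} :
    g ∈ St2 G x l ↔ g ∈ G ∧ g • x = x ∧ g • l = l := and_assoc

theorem card_pencil (x : P) : {l : L | x ∈ l}.ncard = ProjectivePlane.order P L + 1 := by
  rw [← Nat.card_coe_set_eq]; exact ProjectivePlane.lineCount_eq L x

theorem card_range (l : L) : {x : P | x ∈ l}.ncard = ProjectivePlane.order P L + 1 := by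
  rw [← Nat.card_coe_set_eq]; exact ProjectivePlane.pointCount_eq P l

theorem card_off (l : L) : {x : P | x ∉ l}.ncard = ProjectivePlane.order P L ^ 2 := by
  cases nonempty_fintype P
  rw [← Nat.card_coe_set_eq]; exact card_off_line l

theorem card_not_through (x : P) : {l : L | x ∉ l}.ncard = ProjectivePlane.order P L ^ 2 := by
  rw [← ProjectivePlane.Dual.order P L]
  exact card_off (P := Dual L) (L := Dual P) x

theorem card_St2_flag (hT : TwoTrans G) {A : P} {l : L} (hA : A ∈ l) :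
    Nat.card G = Nat.card P * ((ProjectivePlane.order P L + 1) * Nat.card (St2 G A l)) := by
  have h1 : MulAction.orbit G A = Set.univ := Set.eq_univ_of_forall fun c =>
    let ⟨g, hg, e⟩ := hT.point A c
    ⟨⟨g, hg⟩, e⟩
  rw [card_eq_orbit_mul G A, h1, Set.ncard_univ]
  congr 1
  have h2 : MulAction.orbit (G ⊓ MulAction.stabilizer (Coll P L) A : Subgroup (Coll P L)) l
      = {m | A ∈ m} := by
    ext m
    constructor
    · rintro ⟨g, rfl⟩
      exact (mem_smul_line (g : Coll P L) A l).mpr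
        (by rw [inv_smul_eq_iff.mpr (show (g : Coll P L) • A = A from g.2.2).symm]; exact hA)
    · intro hm
      obtain ⟨g, hg, e1, e2⟩ := hT.flag hA (show A ∈ m from hm)
      exact ⟨⟨g, hg, e1⟩, e2⟩
  rw [card_eq_orbit_mul (G ⊓ MulAction.stabilizer (Coll P L) A) l, h2, card_pencil, St2]

theorem card_St2_antiflag (hT : TwoTrans G) {x : P} {l : L} (hx : x ∉ l) :
    Nat.card G = Nat.card P * (ProjectivePlane.order P L ^ 2 * Nat.card (St2 G x l)) := by
  have h1 : MulAction.orbit G x = Set.univ := Set.eq_univ_of_forall fun c =>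
    let ⟨g, hg, e⟩ := hT.point x c
    ⟨⟨g, hg⟩, e⟩
  rw [card_eq_orbit_mul G x, h1, Set.ncard_univ]
  congr 1
  have h2 : MulAction.orbit (G ⊓ MulAction.stabilizer (Coll P L) x : Subgroup (Coll P L)) l
      = {m | x ∉ m} := by
    ext m
    constructor
    · rintro ⟨g, rfl⟩
      exact fun h => hx (by
        have h' := (mem_smul_line (g : Coll P L) x l).mp h
        rwa [inv_smul_eq_iff.mpr (show (g : Coll P L) • x = x from g.2.2).symm] at h')
    · intro hm
      obtain ⟨g, hg, e1, e2⟩ := hT.antiflag hx (show x ∉ m from hm)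
      exact ⟨⟨g, hg, e1⟩, e2⟩
  rw [card_eq_orbit_mul (G ⊓ MulAction.stabilizer (Coll P L) x) l, h2, card_not_through, St2]

theorem card_St2_eq (hT : TwoTrans G) {x x' : P} {l l' : L} (hx : x ∉ l) (hx' : x' ∉ l') :
    Nat.card (St2 G x l) = Nat.card (St2 G x' l') := by
  have : Nonempty P := ⟨x⟩
  have h := (card_St2_antiflag hT hx).symm.trans (card_St2_antiflag hT hx')
  have hn := ProjectivePlane.one_lt_order P L
  exact Nat.eq_of_mul_eq_mul_left (by positivity) (Nat.eq_of_mul_eq_mul_left Nat.card_pos h)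

/-- The flag stabiliser is transitive on the points off the line. -/
theorem orbit_flag (hT : TwoTrans G) {A x : P} {l : L} (hA : A ∈ l) (hx : x ∉ l) :
    MulAction.orbit (St2 G A l) x = {y | y ∉ l} := by
  have hsub : MulAction.orbit (St2 G A l) x ⊆ {y | y ∉ l} := by
    rintro _ ⟨g, rfl⟩ h
    refine hx ((smul_mem_smul (g : Coll P L) x l).mp ?_)
    rwa [(mem_St2.mp g.2).2.2]
  refine Set.eq_of_subset_of_ncard_le hsub ?_
  rw [card_off]
  have h1 := card_eq_orbit_mul (St2 G A l) x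
  obtain ⟨c, hc⟩ : Nat.card (St2 G A l ⊓ MulAction.stabilizer (Coll P L) x : Subgroup (Coll P L))
      ∣ Nat.card (St2 G x l) :=
    Subgroup.card_dvd_of_le fun g hg =>
      mem_St2.mpr ⟨(mem_St2.mp hg.1).1, hg.2, (mem_St2.mp hg.1).2.2⟩
  have : Nonempty P := ⟨x⟩
  have h := Nat.eq_of_mul_eq_mul_left Nat.card_pos
    ((card_St2_flag hT hA).symm.trans (card_St2_antiflag hT hx))
  rw [h1, hc] at h
  set n := ProjectivePlane.order P L
  set o := (MulAction.orbit (St2 G A l) x).ncard
  have hpos : 0 < Nat.card (St2 G A l ⊓ MulAction.stabilizer (Coll P L) x : Subgroup (Coll P L)) :=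
    Nat.card_pos
  have h2 : (n + 1) * o = n ^ 2 * c := Nat.eq_of_mul_eq_mul_right hpos (by linarith)
  have h3 : n ^ 2 ∣ o :=
    (Nat.Coprime.pow_left 2 (Nat.coprime_self_add_right.mpr (Nat.coprime_one_right n))).dvd_of_dvd_mul_left
      ⟨c, h2⟩
  exact Nat.le_of_dvd ((Set.ncard_pos).mpr ⟨x, MulAction.mem_orbit_self x⟩) h3

theorem TwoTrans.triple (hT : TwoTrans G) {a a' x x' : P} {l l' : L} (ha : a ∈ l) (hx : x ∉ l)
    (ha' : a' ∈ l') (hx' : x' ∉ l') : ∃ g ∈ G, g • a = a' ∧ g • l = l' ∧ g • x = x' := by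
  obtain ⟨g, hg, h1, h2⟩ := hT.flag ha ha'
  have hgx : g • x ∉ l' := fun h => hx ((smul_mem_smul g x l).mp (h2 ▸ h))
  have hmem : x' ∈ MulAction.orbit (St2 G a' l') (g • x) := by
    rw [orbit_flag hT ha' hgx]; exact hx'
  obtain ⟨k, hk⟩ := hmem
  obtain ⟨k1, k2, k3⟩ := mem_St2.mp k.2
  exact ⟨k * g, G.mul_mem k1 hg, by rw [mul_smul, h1, k2], by rw [mul_smul, h2, k3],
    (mul_smul (k : Coll P L) g x).trans hk⟩

theorem card_St3_flag (hT : TwoTrans G) {A x : P} {l : L} (hA : A ∈ l) (hx : x ∉ l) :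
    Nat.card (St2 G A l) = ProjectivePlane.order P L ^ 2
      * Nat.card (St2 G A l ⊓ MulAction.stabilizer (Coll P L) x : Subgroup (Coll P L)) := by
  rw [card_eq_orbit_mul (St2 G A l) x, orbit_flag hT hA hx, card_off]

theorem card_St3_antiflag (hT : TwoTrans G) {A x : P} {l : L} (hA : A ∈ l) (hx : x ∉ l) :
    Nat.card (St2 G x l) = (ProjectivePlane.order P L + 1)
      * Nat.card (St2 G A l ⊓ MulAction.stabilizer (Coll P L) x : Subgroup (Coll P L)) := by
  have : Nonempty P := ⟨x⟩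
  have h := Nat.eq_of_mul_eq_mul_left Nat.card_pos
    ((card_St2_flag hT hA).symm.trans (card_St2_antiflag hT hx))
  rw [card_St3_flag hT hA hx] at h
  have hn := ProjectivePlane.one_lt_order P L
  exact Nat.eq_of_mul_eq_mul_left (show 0 < ProjectivePlane.order P L ^ 2 by positivity) (by linarith)

theorem card_orbits_eq (G : Subgroup (Coll P L)) :
    Nat.card (Quotient (MulAction.orbitRel G P)) = Nat.card (Quotient (MulAction.orbitRel G L)) := by
  classical
  cases nonempty_fintype P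
  cases nonempty_fintype L
  haveI : Fintype G := Fintype.ofFinite _
  have bP := MulAction.sum_card_fixedBy_eq_card_orbits_mul_card_group G P
  have bL := MulAction.sum_card_fixedBy_eq_card_orbits_mul_card_group G L
  have heq : ∀ g : G, Fintype.card (MulAction.fixedBy P g) = Fintype.card (MulAction.fixedBy L g) := by
    intro g
    rw [← Nat.card_eq_fintype_card, ← Nat.card_eq_fintype_card]
    exact sum_fixed (g : Coll P L)
  rw [Finset.sum_congr rfl fun g _ => heq g] at bP
  rw [Nat.card_eq_fintype_card, Nat.card_eq_fintype_card]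
  exact Nat.eq_of_mul_eq_mul_right Fintype.card_pos (bP.symm.trans bL)

theorem card_orbits_prod_eq (G : Subgroup (Coll P L)) :
    Nat.card (Quotient (MulAction.orbitRel G (P × P)))
      = Nat.card (Quotient (MulAction.orbitRel G (P × L))) := by
  classical
  cases nonempty_fintype P
  cases nonempty_fintype L
  haveI : Fintype G := Fintype.ofFinite _
  have bP := MulAction.sum_card_fixedBy_eq_card_orbits_mul_card_group G (P × P)
  have bL := MulAction.sum_card_fixedBy_eq_card_orbits_mul_card_group G (P × L)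
  have heq : ∀ g : G, Fintype.card (MulAction.fixedBy (P × P) g)
      = Fintype.card (MulAction.fixedBy (P × L) g) := by
    intro g
    have e1 : MulAction.fixedBy (P × P) g = (MulAction.fixedBy P g) ×ˢ (MulAction.fixedBy P g) := by
      ext ⟨x, y⟩; simp [MulAction.mem_fixedBy, Prod.ext_iff]
    have e2 : MulAction.fixedBy (P × L) g = (MulAction.fixedBy P g) ×ˢ (MulAction.fixedBy L g) := by
      ext ⟨x, y⟩; simp [MulAction.mem_fixedBy, Prod.ext_iff]
    rw [← Nat.card_eq_fintype_card, ← Nat.card_eq_fintype_card, e1, e2,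
      Nat.card_congr (Equiv.Set.prod _ _), Nat.card_congr (Equiv.Set.prod _ _), Nat.card_prod,
      Nat.card_prod,
      show Nat.card (MulAction.fixedBy P g) = Nat.card (MulAction.fixedBy L g) from
        sum_fixed (g : Coll P L)]
  rw [Finset.sum_congr rfl fun g _ => heq g] at bP
  rw [Nat.card_eq_fintype_card, Nat.card_eq_fintype_card]
  exact Nat.eq_of_mul_eq_mul_right Fintype.card_pos (bP.symm.trans bL)

/-- The subgroup is transitive on antiflags. -/
def AntiTrans (G : Subgroup (Coll P L)) : Prop :=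
  ∀ {a c : P} {l m : L}, a ∉ l → c ∉ m → ∃ g ∈ G, g • a = c ∧ g • l = m

theorem AntiTrans.pencil (hG : AntiTrans G) {a : P} {l t t' : L} (hl : a ∈ l) (ht : a ∈ t)
    (htl : t ≠ l) (ht' : a ∈ t') (htl' : t' ≠ l) : ∃ g ∈ G, g • a = a ∧ g • t = t' := by
  classical
  set K : Subgroup (Coll P L) := G ⊓ MulAction.stabilizer (Coll P L) l with hK
  obtain ⟨x₀, hx₀⟩ := exists_not_mem (P := P) l
  let f : L → Quotient (MulAction.orbitRel K P) := fun s =>
    if h : s = l then Quotient.mk'' x₀ else Quotient.mk'' (HasPoints.mkPoint h)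
  have hf : ∀ (k : K) (s : L), f (k • s) = f s := by
    intro k s
    have hkl : (k : Coll P L) • l = l := k.2.2
    by_cases h : s = l
    · subst h
      exact congrArg f hkl
    have h' : (k : Coll P L) • s ≠ l :=
      fun e => h (MulAction.injective (k : Coll P L) (e.trans hkl.symm))
    show f ((k : Coll P L) • s) = f s
    simp only [f, dif_neg h, dif_neg h']
    refine Quotient.sound' ⟨k, point_ext h' ?_ (HasPoints.mkPoint_ax h').1 ?_
      (HasPoints.mkPoint_ax h').2⟩
    · exact (smul_mem_smul (k : Coll P L) _ s).mpr (HasPoints.mkPoint_ax h).1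
    · have h2 := (smul_mem_smul (k : Coll P L) (HasPoints.mkPoint (P := P) h) l).mpr
        (HasPoints.mkPoint_ax h).2
      rwa [hkl] at h2
  let F : Quotient (MulAction.orbitRel K L) → Quotient (MulAction.orbitRel K P) :=
    Quotient.lift f fun s s' ⟨k, hk⟩ => (congrArg f hk).symm.trans (hf k s')
  have hsurj : Function.Surjective F := by
    intro q
    induction q using Quotient.inductionOn' with
    | _ x =>
      by_cases hx : x ∈ l
      · obtain ⟨s, hxs, hsl⟩ := exists_through_ne x l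
        refine ⟨Quotient.mk'' s, ?_⟩
        show f s = _
        simp only [f, dif_neg hsl]
        rw [point_ext hsl (HasPoints.mkPoint_ax hsl).1 hxs (HasPoints.mkPoint_ax hsl).2 hx]
      · obtain ⟨g, hg, h1, h2⟩ := hG hx₀ hx (l := l) (m := l)
        refine ⟨Quotient.mk'' l, ?_⟩
        show f l = _
        simp only [f, dif_pos]
        exact Quotient.sound' ⟨⟨g⁻¹, G.inv_mem hg, inv_smul_eq_iff.mpr h2.symm⟩,
          inv_smul_eq_iff.mpr h1.symm⟩
  have hinj := (hsurj.bijective_of_nat_card_le (card_orbits_eq K).ge).1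
  have hft : f t = f t' := by
    simp only [f, dif_neg htl, dif_neg htl']
    rw [point_ext htl (HasPoints.mkPoint_ax htl).1 ht (HasPoints.mkPoint_ax htl).2 hl,
      point_ext htl' (HasPoints.mkPoint_ax htl').1 ht' (HasPoints.mkPoint_ax htl').2 hl]
  obtain ⟨k, hk⟩ := Quotient.exact' (@hinj (Quotient.mk'' t') (Quotient.mk'' t) hft.symm)
  refine ⟨k, k.2.1, ?_, hk⟩
  refine point_ext htl' ?_ ht' ?_ hl
  · rw [← show (k : Coll P L) • t = t' from hk]
    exact (smul_mem_smul (k : Coll P L) a t).mpr ht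
  · rw [← show (k : Coll P L) • l = l from k.2.2]
    exact (smul_mem_smul (k : Coll P L) a l).mpr hl

theorem AntiTrans.twoTrans (hG : AntiTrans G) : TwoTrans G := by
  classical
  have hpt : ∀ a c : P, ∃ g ∈ G, g • a = c := by
    intro a c
    obtain ⟨l, hl⟩ := exists_not_through (L := L) a
    obtain ⟨m, hm⟩ := exists_not_through (L := L) c
    exact (hG hl hm).imp fun _ h => ⟨h.1, h.2.1⟩
  have hflag : FlagTrans G := by
    intro a c l m ha hc
    obtain ⟨g, hg, h1⟩ := hpt a c
    have hgl : c ∈ g • l := h1 ▸ (smul_mem_smul g a l).mpr ha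
    obtain ⟨s, hcs, hs1, hs2⟩ := exists_through_ne₂ c (g • l) m
    obtain ⟨k, hk, h2, h3⟩ := hG.pencil hcs hgl hs1.symm hc hs2.symm
    exact ⟨k * g, G.mul_mem hk hg, by rw [mul_smul, h1, h2], by rw [mul_smul, h3]⟩
  intro a b c d hab hcd
  let q : P × P → Quotient (MulAction.orbitRel G (P × P)) := fun z => Quotient.mk'' z
  have hle : Nat.card (Quotient (MulAction.orbitRel G (P × L))) ≤ 2 := by
    refine (Nat.card_le_card_of_injective
      (fun z : Quotient (MulAction.orbitRel G (P × L)) => decide (z.out.1 ∈ z.out.2)) ?_).trans (by simp)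
    intro z₁ z₂ h
    rw [← z₁.out_eq, ← z₂.out_eq]
    apply Quotient.sound
    show z₁.out ∈ MulAction.orbit G z₂.out
    simp only [decide_eq_decide] at h
    by_cases h2 : z₂.out.1 ∈ z₂.out.2
    · obtain ⟨g, hg, h3, h4⟩ := hflag h2 (h.mpr h2)
      exact ⟨⟨g, hg⟩, Prod.ext h3 h4⟩
    · obtain ⟨g, hg, h3, h4⟩ := hG h2 (mt h.mp h2)
      exact ⟨⟨g, hg⟩, Prod.ext h3 h4⟩
  rw [← card_orbits_prod_eq G] at hle
  have ne1 : ∀ {u v : P}, u ≠ v → q (u, v) ≠ q (a, a) := by
    intro u v huv h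
    obtain ⟨g, hg⟩ := Quotient.exact' h
    exact huv ((congrArg Prod.fst hg).symm.trans (congrArg Prod.snd hg))
  by_contra hne
  have h12 : q (c, d) ≠ q (a, b) := fun h => by
    obtain ⟨g, hg⟩ := Quotient.exact' h
    exact hne ⟨g, g.2, congrArg Prod.fst hg, congrArg Prod.snd hg⟩
  haveI : Fintype (Quotient (MulAction.orbitRel G (P × P))) := Fintype.ofFinite _
  have h3 : ({q (c, d), q (a, b), q (a, a)} : Finset _).card = 3 := by
    rw [Finset.card_insert_of_notMem (by simp [h12, ne1 hcd]),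
      Finset.card_insert_of_notMem (by simp [ne1 hab]), Finset.card_singleton]
  rw [Nat.card_eq_fintype_card] at hle
  have := (h3 ▸ Finset.card_le_univ _).trans hle
  omega

end Cfsg.Agent.OW
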