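import Cfsg.Agent.Lib.Plane.Axial

/-!
Doubly transitive planes with one central collineation have all elations.
-/

set_option autoImplicit false
set_option linter.unusedSectionVars false
set_option linter.style.haveILetI false

namespace Cfsg.Agent.OW

open Configuration

variable {P L : Type*} [Membership P L] [ProjectivePlane P L] [Finite P] [Finite L]

theorem sum_fixed [Fintype P] [Fintype L] (g : Coll P L) :
    Nat.card (MulAction.fixedBy P g) = Nat.card (MulAction.fixedBy L g) := by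
  classical
  have hn := ProjectivePlane.one_lt_order P L
  set n := ProjectivePlane.order P L
  have hp : ∀ x : P, ((Finset.univ : Finset L).filter fun l => x ∈ l ∧ g • x ∈ l).card
      = 1 + if g • x = x then n else 0 := by
    intro x
    by_cases h : g • x = x
    · rw [if_pos h]
      simp only [h, and_self]
      rw [← Fintype.card_subtype, ← Nat.card_eq_fintype_card, ← Configuration.lineCount,
        ProjectivePlane.lineCount_eq L x]
      omega
    · rw [if_neg h, add_zero, Finset.card_eq_one]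
      obtain ⟨m, hm1, hm2⟩ := exists_line_through (L := L) (Ne.symm h)
      exact ⟨m, Finset.eq_singleton_iff_unique_mem.mpr ⟨by simp [hm1, hm2], fun k hk => by
        simp only [Finset.mem_filter] at hk
        exact line_ext (Ne.symm h) hk.2.1 hk.2.2 hm1 hm2⟩⟩
  have hl : ∀ l : L, ((Finset.univ : Finset P).filter fun x => x ∈ l ∧ g • x ∈ l).card
      = 1 + if g • l = l then n else 0 := by
    intro l
    have e : ∀ x : P, g • x ∈ l ↔ x ∈ g⁻¹ • l := fun x => by rw [mem_smul_line, inv_inv]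
    by_cases h : g • l = l
    · rw [if_pos h]
      simp only [e, inv_smul_eq_iff.mpr h.symm, and_self]
      rw [← Fintype.card_subtype, ← Nat.card_eq_fintype_card, ← Configuration.pointCount,
        ProjectivePlane.pointCount_eq P l]
      omega
    · rw [if_neg h, add_zero, Finset.card_eq_one]
      have hne : l ≠ g⁻¹ • l := fun h' => h (inv_smul_eq_iff.mp h'.symm).symm
      obtain ⟨m, hm1, hm2⟩ := exists_meet (P := P) hne
      exact ⟨m, Finset.eq_singleton_iff_unique_mem.mpr ⟨by simp [hm1, (e m).mpr hm2], fun k hk => by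
        simp only [Finset.mem_filter] at hk
        exact point_ext hne hk.2.1 hm1 ((e k).mp hk.2.2) hm2⟩⟩
  have key : (Finset.univ : Finset P).sum (fun x =>
        ((Finset.univ : Finset L).filter fun l => x ∈ l ∧ g • x ∈ l).card)
      = (Finset.univ : Finset L).sum fun l =>
        ((Finset.univ : Finset P).filter fun x => x ∈ l ∧ g • x ∈ l).card := by
    simp only [Finset.card_filter]
    exact Finset.sum_comm
  rw [Finset.sum_congr rfl fun x _ => hp x, Finset.sum_congr rfl fun l _ => hl l,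
    Finset.sum_add_distrib, Finset.sum_add_distrib, Finset.sum_ite, Finset.sum_ite] at key
  simp only [Finset.sum_const, Finset.card_univ, smul_eq_mul, mul_one, mul_zero, add_zero,
    ProjectivePlane.card_points_eq_card_lines P L, Nat.add_left_cancel_iff] at key
  rw [Nat.card_eq_fintype_card, Nat.card_eq_fintype_card, Fintype.card_subtype, Fintype.card_subtype]
  simp only [MulAction.mem_fixedBy]
  exact Nat.eq_of_mul_eq_mul_right (by omega) key

/-- The subgroup is doubly transitive on points. -/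
def TwoTrans (G : Subgroup (Coll P L)) : Prop :=
  ∀ a b c d : P, a ≠ b → c ≠ d → ∃ g ∈ G, g • a = c ∧ g • b = d

variable {G : Subgroup (Coll P L)}

theorem TwoTrans.point (hT : TwoTrans G) (a c : P) : ∃ g ∈ G, g • a = c := by
  obtain ⟨l, -⟩ := exists_not_through (L := L) a
  obtain ⟨b, -, hb⟩ := exists_mem_ne l a
  obtain ⟨d, -, hd⟩ := exists_mem_ne l c
  exact (hT a b c d hb.symm hd.symm).imp fun _ h => ⟨h.1, h.2.1⟩

theorem TwoTrans.flag (hT : TwoTrans G) {a c : P} {l m : L} (ha : a ∈ l) (hc : c ∈ m) :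
    ∃ g ∈ G, g • a = c ∧ g • l = m := by
  obtain ⟨b, hb, hba⟩ := exists_mem_ne l a
  obtain ⟨d, hd, hdc⟩ := exists_mem_ne m c
  obtain ⟨g, hg, h1, h2⟩ := hT a b c d hba.symm hdc.symm
  exact ⟨g, hg, h1, line_ext hdc (h2 ▸ (smul_mem_smul g b l).mpr hb)
    (h1 ▸ (smul_mem_smul g a l).mpr ha) hd hc⟩

/-- The subgroup is transitive on flags. -/
def FlagTrans (G : Subgroup (Coll P L)) : Prop :=
  ∀ {a c : P} {l m : L}, a ∈ l → c ∈ m → ∃ g ∈ G, g • a = c ∧ g • l = m

theorem TwoTrans.antiflag (hT : TwoTrans G) {a c : P} {l m : L} (ha : a ∉ l) (hc : c ∉ m) :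
    ∃ g ∈ G, g • a = c ∧ g • l = m := by
  classical
  cases nonempty_fintype P
  cases nonempty_fintype L
  haveI : Fintype G := Fintype.ofFinite _
  have bPP := MulAction.sum_card_fixedBy_eq_card_orbits_mul_card_group G (P × P)
  have bPL := MulAction.sum_card_fixedBy_eq_card_orbits_mul_card_group G (P × L)
  have heq : ∀ g : G, Fintype.card (MulAction.fixedBy (P × P) g)
      = Fintype.card (MulAction.fixedBy (P × L) g) := by
    intro g
    have e1 : MulAction.fixedBy (P × P) g = (MulAction.fixedBy P g) ×ˢ (MulAction.fixedBy P g) := by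
      ext ⟨x, y⟩; simp [MulAction.mem_fixedBy, Prod.ext_iff]
    have e2 : MulAction.fixedBy (P × L) g = (MulAction.fixedBy P g) ×ˢ (MulAction.fixedBy L g) := by
      ext ⟨x, y⟩; simp [MulAction.mem_fixedBy, Prod.ext_iff]
    rw [← Nat.card_eq_fintype_card, ← Nat.card_eq_fintype_card, e1, e2,
      Nat.card_congr (Equiv.Set.prod _ _), Nat.card_congr (Equiv.Set.prod _ _), Nat.card_prod,
      Nat.card_prod, show Nat.card (MulAction.fixedBy P g) = Nat.card (MulAction.fixedBy L g) from sum_fixed (g : Coll P L)]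
  rw [Finset.sum_congr rfl fun g _ => heq g] at bPP
  have horb := Nat.eq_of_mul_eq_mul_right Fintype.card_pos (bPP.symm.trans bPL)
  have hle : Fintype.card (Quotient (MulAction.orbitRel G (P × P))) ≤ 2 := by
    let f : Quotient (MulAction.orbitRel G (P × P)) → Bool :=
      fun q => decide (q.out.1 = q.out.2)
    refine (Fintype.card_le_of_injective f fun q₁ q₂ h => ?_).trans_eq Fintype.card_bool
    rw [← q₁.out_eq, ← q₂.out_eq]
    apply Quotient.sound
    show q₁.out ∈ MulAction.orbit G q₂.out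
    simp only [f, decide_eq_decide] at h
    by_cases h2 : q₂.out.1 = q₂.out.2
    · obtain ⟨g, hgG, hg⟩ := hT.point q₂.out.1 q₁.out.1
      exact ⟨⟨g, hgG⟩, Prod.ext hg (((congrArg (g • ·) h2).symm.trans hg).trans (h.mpr h2))⟩
    · obtain ⟨g, hgG, hg1, hg2⟩ := hT _ _ q₁.out.1 q₁.out.2 h2 (mt h.mp h2)
      exact ⟨⟨g, hgG⟩, Prod.ext hg1 hg2⟩
  rw [horb] at hle
  obtain ⟨x, hx⟩ : ∃ x : P, x ∈ l :=
    let ⟨x, hx, _⟩ := exists_mem_ne l a
    ⟨x, hx⟩
  let q : P × L → Quotient (MulAction.orbitRel G (P × L)) := fun z => Quotient.mk'' z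
  have ne1 : ∀ (y : P) (k : L), y ∉ k → q (y, k) ≠ q (x, l) := by
    intro y k hy h
    obtain ⟨g, hg⟩ := Quotient.exact' h
    have h1 : (g : Coll P L) • x = y := congrArg Prod.fst hg
    have h2 : (g : Coll P L) • l = k := congrArg Prod.snd hg
    exact hy (h1 ▸ h2 ▸ (smul_mem_smul (g : Coll P L) x l).mpr hx)
  have hqq : q (c, m) = q (a, l) := by
    by_contra h
    have h3 : ({q (c, m), q (a, l), q (x, l)} : Finset _).card = 3 := by
      rw [Finset.card_insert_of_notMem (by simp [h, ne1 c m hc]),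
        Finset.card_insert_of_notMem (by simp [ne1 a l ha]), Finset.card_singleton]
    have := (h3 ▸ Finset.card_le_univ _).trans hle
    omega
  obtain ⟨g, hg⟩ := Quotient.exact' hqq
  exact ⟨g, g.2, congrArg Prod.fst hg, congrArg Prod.snd hg⟩

theorem card_off_line [Fintype P] (l : L) :
    Nat.card {x : P // x ∉ l} = ProjectivePlane.order P L ^ 2 := by
  classical
  rw [Nat.card_eq_fintype_card, Fintype.card_subtype_compl, ← Nat.card_eq_fintype_card (α := {x // x ∈ l}),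
    ← Configuration.pointCount, ProjectivePlane.pointCount_eq P l, ProjectivePlane.card_points P L]
  omega

theorem elGroup_free {l : L} {g : Coll P L} (hg : g ∈ elGroup P l) {x : P} (hx : x ∉ l)
    (h : g • x = x) : g = 1 :=
  hg.2.elim id fun h' => absurd h (h' x hx)

theorem smul_not_mem {g : Coll P L} {l : L} (hg : IsAxis g l) {x : P} (hx : x ∉ l) :
    g • x ∉ l := fun h => hx <| by
  have h' := (mem_smul_line g⁻¹ x l).mpr (by rwa [inv_inv])
  rwa [inv_smul_eq_iff.mpr hg.smul_line.symm] at h'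

theorem card_elGroup_dvd (l : L) :
    Nat.card (elGroup P l) ∣ ProjectivePlane.order P L ^ 2 := by
  cases nonempty_fintype P
  rw [← card_off_line l]
  letI : MulAction (elGroup P l) {x : P // x ∉ l} :=
    { smul := fun g x => ⟨(g : Coll P L) • x.1, smul_not_mem g.2.1 x.2⟩
      one_smul := fun x => Subtype.ext (one_smul _ _)
      mul_smul := fun g h x => Subtype.ext (mul_smul _ _ _) }
  exact card_dvd_of_free fun g x h =>
    Subtype.ext (elGroup_free g.2 x.2 (congrArg Subtype.val h))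

theorem card_line_sdiff {d : P} {m : L} (hd : d ∈ m) :
    Nat.card {x : P // x ∈ m ∧ x ≠ d} = ProjectivePlane.order P L := by
  have h : {x : P | x ∈ m ∧ x ≠ d} = {x : P | x ∈ m} \ {d} := by ext; simp
  have h2 : {x : P | x ∈ m}.ncard = ProjectivePlane.order P L + 1 := by
    rw [← Nat.card_coe_set_eq]; exact ProjectivePlane.pointCount_eq P m
  calc Nat.card {x : P // x ∈ m ∧ x ≠ d} = {x : P | x ∈ m ∧ x ≠ d}.ncard := Nat.card_coe_set_eq _
    _ = _ := by rw [h, Set.ncard_sdiff_singleton_of_mem (show d ∈ {x : P | x ∈ m} from hd), h2]; omega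

/-- The action of elations with one centre on a line through it. -/
@[instance_reducible]
def flAction {d : P} {l m : L} (hdm : d ∈ m) :
    MulAction (flGroup d l) {x : P // x ∈ m ∧ x ≠ d} where
  smul g x := ⟨(g : Coll P L) • x.1, IsCenter.mem_line g.2.2 hdm x.2.1, fun e =>
    x.2.2 (MulAction.injective (g : Coll P L) (e.trans (IsCenter.smul_point g.2.2).symm))⟩
  one_smul x := Subtype.ext (one_smul _ _)
  mul_smul g h x := Subtype.ext (mul_smul _ _ _)

theorem fl_free {d : P} {l m : L} (hdl : d ∈ l) (hdm : d ∈ m) (hml : m ≠ l) :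
    letI := flAction (l := l) hdm
    ∀ (g : flGroup d l) (x : {x : P // x ∈ m ∧ x ≠ d}), g • x = x → g = 1 := fun g x h =>
  Subtype.ext (elGroup_free (mem_elGroup_of_center g.2.1 g.2.2 hdl)
    (fun e => hml (line_ext x.2.2 x.2.1 hdm e hdl)) (congrArg Subtype.val h))

theorem card_flGroup_dvd {d : P} {l : L} (hdl : d ∈ l) :
    Nat.card (flGroup d l) ∣ ProjectivePlane.order P L := by
  obtain ⟨m, hdm, hml⟩ := exists_through_ne d l
  rw [← card_line_sdiff hdm]
  letI := flAction (l := l) hdm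
  exact card_dvd_of_free (fl_free hdl hdm hml)

theorem card_flGroup_le_conj {d : P} {l : L} {g : Coll P L} (hg : g ∈ G) :
    Nat.card (G ⊓ flGroup d l : Subgroup (Coll P L))
      ≤ Nat.card (G ⊓ flGroup (g • d) (g • l) : Subgroup (Coll P L)) :=
  Nat.card_le_card_of_injective (fun e =>
    ⟨g * e.1 * g⁻¹, G.mul_mem (G.mul_mem hg e.2.1) (G.inv_mem hg), flGroup_conj e.2.2⟩) fun e e' h =>
    Subtype.ext (by simpa using congrArg Subtype.val h)

theorem card_flGroup_eq (hT : FlagTrans G) {d d' : P} {l l' : L} (h : d ∈ l) (h' : d' ∈ l') :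
    Nat.card (G ⊓ flGroup d l : Subgroup (Coll P L))
      = Nat.card (G ⊓ flGroup d' l' : Subgroup (Coll P L)) := by
  obtain ⟨g, hg, rfl, rfl⟩ := hT h h'
  refine le_antisymm (card_flGroup_le_conj hg) ?_
  conv_rhs => rw [← inv_smul_smul g d, ← inv_smul_smul g l]
  exact card_flGroup_le_conj (G.inv_mem hg)

theorem card_elGroup (l : L) (h : ℕ)
    (hh : ∀ d : P, d ∈ l → Nat.card (G ⊓ flGroup d l : Subgroup (Coll P L)) = h) :
    Nat.card (G ⊓ elGroup P l : Subgroup (Coll P L)) = (ProjectivePlane.order P L + 1) * (h - 1) + 1 := by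
  classical
  cases nonempty_fintype P
  let E : Subgroup (Coll P L) := G ⊓ elGroup P l
  let Fl : P → Subgroup (Coll P L) := fun d => G ⊓ flGroup d l
  show Nat.card E = _
  haveI : Fintype E := Fintype.ofFinite _
  haveI : ∀ d : P, Fintype (Fl d) := fun _ => Fintype.ofFinite _
  let S := Σ d : {d : P // d ∈ l}, {g : Fl d.1 // g ≠ 1}
  let f : S → {g : E // g ≠ 1} := fun z =>
    ⟨⟨z.2.1.1, z.2.1.2.1, mem_elGroup_of_center z.2.1.2.2.1 z.2.1.2.2.2 z.1.2⟩, fun e =>
      z.2.2 (Subtype.ext (congrArg (fun g : E => (g : Coll P L)) e))⟩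
  have hf : Function.Bijective f := by
    constructor
    · rintro ⟨⟨d, hd⟩, ⟨⟨g, hg⟩, hg1⟩⟩ ⟨⟨d', hd'⟩, ⟨⟨g', hg'⟩, hg1'⟩⟩ e
      have e' : g = g' := congrArg (fun z : {g : E // g ≠ 1} => (z.1 : Coll P L)) e
      subst e'
      obtain rfl : d = d' := center_unique hg.2.2 hg'.2.2 fun e => hg1 (Subtype.ext e)
      rfl
    · rintro ⟨⟨g, hgG, hg⟩, hg1⟩
      obtain ⟨c, hcl, hc⟩ := elation_center hg.1 hg.2
      exact ⟨⟨⟨c, hcl⟩, ⟨⟨g, hgG, hg.1, hc⟩, fun e => hg1 (Subtype.ext (congrArg (fun z : Fl c => (z : Coll P L)) e))⟩⟩, rfl⟩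
  have h1 := Fintype.card_congr (Equiv.ofBijective f hf)
  rw [Fintype.card_sigma, Fintype.card_subtype_compl, Fintype.card_subtype_eq] at h1
  simp only [Fintype.card_subtype_compl, Fintype.card_subtype_eq] at h1
  rw [Finset.sum_congr rfl (fun d _ => by rw [← Nat.card_eq_fintype_card, show Nat.card (Fl d.1) = h from hh d.1 d.2])] at h1
  rw [Finset.sum_const, Finset.card_univ, smul_eq_mul, ← Nat.card_eq_fintype_card (α := {d : P // d ∈ l}),
    ← Configuration.pointCount, ProjectivePlane.pointCount_eq P l] at h1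
  have hpos : 0 < Fintype.card E := Fintype.card_pos
  rw [Nat.card_eq_fintype_card]
  omega

theorem exists_elation_of_axis (hT : TwoTrans G) {g : Coll P L} {l : L} (hgG : g ∈ G) (hg : g ≠ 1)
    (hl : IsAxis g l) : ∃ (e : Coll P L) (m : L), e ≠ 1 ∧ e ∈ G ∧ e ∈ elGroup P m := by
  obtain ⟨c, hc, -⟩ := exists_center hl
  by_cases hcl : c ∈ l
  · exact ⟨g, l, hg, hgG, mem_elGroup_of_center hl hc hcl⟩
  obtain ⟨a, ha, -⟩ := exists_mem_ne l c
  obtain ⟨m, hcm, ham⟩ := exists_line_through (L := L) (fun e : c = a => hcl (e ▸ ha))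
  obtain ⟨x, hxm, hxc, hxa⟩ := exists_mem_ne₂ m c a
  have hxl : x ∉ l := fun e => hcl (line_ext hxa hxm ham e ha ▸ hcm)
  obtain ⟨k, hkG, hk1, hk2⟩ := hT.antiflag hcl hxl
  have h' : ∃ g' ∈ G ⊓ axGroup P l, g' ≠ 1 ∧ g' • x = x := by
    refine ⟨k * g * k⁻¹, ⟨G.mul_mem (G.mul_mem hkG hgG) (G.inv_mem hkG), hk2 ▸ isAxis_conj hl k⟩, ?_, hk1 ▸ (isCenter_conj hc k).smul_point⟩
    exact fun e => hg (conj_eq_one_iff.mp e)
  obtain ⟨e, heA, he, hex⟩ := andre (A := G ⊓ axGroup P l) inf_le_right hcl hxl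
    ⟨g, ⟨hgG, hl⟩, hg, hc.smul_point⟩ h'
  exact ⟨e, l, fun e1 => hxc (by rw [← hex, e1, one_smul]), heA.1, he⟩

/-- A flag transitive group with an elation has all of them. -/
theorem full_elations_of_flag (hT : FlagTrans G) {e : Coll P L} {l₀ : L} (he1 : e ≠ 1) (heG : e ∈ G)
    (he : e ∈ elGroup P l₀) :
    ∃ p : ℕ, p.Prime ∧ (∃ a : ℕ, ProjectivePlane.order P L = p ^ a) ∧
      (∀ l : L, (∀ g ∈ G ⊓ elGroup P l, g ^ p = 1) ∧
        ∀ g ∈ G ⊓ elGroup P l, ∀ g' ∈ G ⊓ elGroup P l, g * g' = g' * g) ∧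
      ∀ (d : P) (l : L), d ∈ l →
        Nat.card (G ⊓ flGroup d l : Subgroup (Coll P L)) = ProjectivePlane.order P L := by
  cases nonempty_fintype P
  set n := ProjectivePlane.order P L with hn
  have hn1 := ProjectivePlane.one_lt_order P L
  obtain ⟨d₀, hd₀, hed⟩ := elation_center he.1 he.2
  obtain ⟨h, hh⟩ : ∃ h : ℕ, h = Nat.card (G ⊓ flGroup d₀ l₀ : Subgroup (Coll P L)) := ⟨_, rfl⟩
  have hh1 : 1 < h := hh ▸ (Subgroup.one_lt_card_iff_ne_bot _).mpr fun hb =>
    he1 (Subgroup.mem_bot.mp (hb ▸ (⟨heG, he.1, hed⟩ : e ∈ G ⊓ flGroup d₀ l₀)))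
  have hall : ∀ (d : P) (l : L), d ∈ l → Nat.card (G ⊓ flGroup d l : Subgroup (Coll P L)) = h :=
    fun d l hd => (card_flGroup_eq hT hd hd₀).trans hh.symm
  have helem : ∀ l : L, (∀ x ∈ G ⊓ elGroup P l, ∀ y ∈ G ⊓ elGroup P l, x * y = y * x) ∧
      ∃ p : ℕ, p.Prime ∧ ∀ x ∈ G ⊓ elGroup P l, x ^ p = 1 := by
    intro l
    obtain ⟨a, ha, -⟩ := exists_mem_ne l d₀
    obtain ⟨b, hb, hba⟩ := exists_mem_ne l a
    have w : ∀ d : P, d ∈ l → ∃ u, u ∈ G ⊓ flGroup d l ∧ u ≠ (1 : Coll P L) := by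
      intro d hd
      have := hall d l hd
      obtain ⟨u, hu, hu1⟩ := (Subgroup.bot_or_exists_ne_one (G ⊓ flGroup d l)).resolve_left
        fun hb' => by rw [hb', Subgroup.card_bot] at this; omega
      exact ⟨u, hu, hu1⟩
    obtain ⟨u, hu, hu1⟩ := w a ha
    obtain ⟨v, hv, hv1⟩ := w b hb
    exact elation_elementary inf_le_right ⟨hu.1, mem_elGroup_of_center hu.2.1 hu.2.2 ha⟩
      ⟨hv.1, mem_elGroup_of_center hv.2.1 hv.2.2 hb⟩ hu1 hv1 hu.2.2 hv.2.2 hba.symm
  obtain ⟨p, hp, hp0⟩ := (helem l₀).2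
  haveI : Fact p.Prime := ⟨hp⟩
  have hexp : ∀ l : L, ∀ x ∈ G ⊓ elGroup P l, x ^ p = 1 := by
    intro l x hx
    obtain ⟨a, ha, -⟩ := exists_mem_ne l d₀
    obtain ⟨k, hkG, -, hk⟩ := hT ha hd₀
    have : k * x * k⁻¹ ∈ G ⊓ elGroup P l₀ := by
      refine ⟨G.mul_mem (G.mul_mem hkG hx.1) (G.inv_mem hkG), ?_⟩
      obtain ⟨c, hcl, hc⟩ := elation_center hx.2.1 hx.2.2
      rw [← hk]
      exact mem_elGroup_of_center (isAxis_conj hx.2.1 k) (isCenter_conj hc k)
        ((smul_mem_smul k c l).mpr hcl)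
    have := hp0 _ this
    rw [conj_pow] at this
    exact conj_eq_one_iff.mp this
  have hpe : IsPGroup p (G ⊓ elGroup P l₀ : Subgroup (Coll P L)) := fun x => ⟨1, Subtype.ext (by simpa using hp0 x.1 x.2)⟩
  have hph : IsPGroup p (G ⊓ flGroup d₀ l₀ : Subgroup (Coll P L)) :=
    hpe.to_le fun x hx => ⟨hx.1, mem_elGroup_of_center hx.2.1 hx.2.2 hd₀⟩
  obtain ⟨a, ha⟩ := IsPGroup.iff_card.mp hph
  obtain ⟨b, hb⟩ := IsPGroup.iff_card.mp hpe
  have he' := card_elGroup l₀ h fun d hd => hall d l₀ hd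
  have hdn : h ∣ n := hh ▸ (Subgroup.card_dvd_of_le inf_le_right).trans (card_flGroup_dvd hd₀)
  have hen : Nat.card (G ⊓ elGroup P l₀ : Subgroup (Coll P L)) ∣ n ^ 2 :=
    (Subgroup.card_dvd_of_le inf_le_right).trans (card_elGroup_dvd l₀)
  rw [← hh] at ha
  rw [hb, ← hn] at he'
  rw [hb] at hen
  obtain ⟨m, hm⟩ := hdn
  have hmul : p ^ b = h * (m * (h - 1) + 1) := by
    rw [he', hm]
    obtain ⟨h', rfl⟩ : ∃ h', h = h' + 1 := ⟨h - 1, by omega⟩
    simp only [Nat.add_sub_cancel]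
    ring
  have hm1 : m = 1 := by
    have hmpos : 0 < m := Nat.pos_of_ne_zero fun h0 => by rw [h0, mul_zero] at hm; omega
    obtain ⟨c, -, hc⟩ := (Nat.dvd_prime_pow hp).mp (Dvd.intro_left h hmul.symm)
    have hprod : 0 < m * (h - 1) := Nat.mul_pos hmpos (by omega)
    have hc0 : c ≠ 0 := fun h0 => by rw [h0, pow_zero] at hc; omega
    have hpm : Nat.Coprime p m := hp.coprime_iff_not_dvd.mpr fun hd => by
      have h2 : p ∣ m * (h - 1) + 1 := hc ▸ dvd_pow_self p hc0
      exact hp.not_dvd_one ((Nat.dvd_add_right (hd.mul_right _)).mp h2)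
    have h3 : p ^ b ∣ h ^ 2 := by
      rw [hm, mul_pow] at hen
      exact (Nat.Coprime.pow b 2 hpm).dvd_of_dvd_mul_right hen
    rw [hmul, sq] at h3
    have h4 := Nat.le_of_dvd (by omega) ((Nat.mul_dvd_mul_iff_left (by omega)).mp h3)
    have h5 : h - 1 ≤ m * (h - 1) := Nat.le_mul_of_pos_left _ hmpos
    exact Nat.eq_of_mul_eq_mul_right (show 0 < h - 1 by omega) (by rw [one_mul]; omega)
  rw [hm1, mul_one] at hm
  exact ⟨p, hp, ⟨a, hm.trans ha⟩, fun l => ⟨hexp l, (helem l).1⟩,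
    fun d l hd => (hall d l hd).trans hm.symm⟩

/-- All elations are present. -/
theorem full_elations (hT : TwoTrans G) (hex : ∃ g ∈ G, g ≠ 1 ∧ ∃ l : L, IsAxis g l) :
    ∃ p : ℕ, p.Prime ∧ (∃ a : ℕ, ProjectivePlane.order P L = p ^ a) ∧
      (∀ l : L, (∀ g ∈ G ⊓ elGroup P l, g ^ p = 1) ∧
        ∀ g ∈ G ⊓ elGroup P l, ∀ g' ∈ G ⊓ elGroup P l, g * g' = g' * g) ∧
      ∀ (d : P) (l : L), d ∈ l →
        Nat.card (G ⊓ flGroup d l : Subgroup (Coll P L)) = ProjectivePlane.order P L := by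
  obtain ⟨g, hgG, hg, l₁, hl₁⟩ := hex
  obtain ⟨e, l₀, he1, heG, he⟩ := exists_elation_of_axis hT hgG hg hl₁
  exact full_elations_of_flag hT.flag he1 heG he

/-- Elations with given centre and axis act transitively on each further line through the centre. -/
theorem exists_elation {d : P} {l m : L} {A : Subgroup (Coll P L)} (hA : A ≤ flGroup d l)
    (hcard : Nat.card A = ProjectivePlane.order P L)
    (hdl : d ∈ l) (hdm : d ∈ m) {x y : P} (hxl : x ∉ l) (hyl : y ∉ l) (hx : x ∈ m) (hy : y ∈ m) :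
    ∃ e ∈ A, e • x = y := by
  have hml : m ≠ l := fun e => hxl (e ▸ hx)
  have hne : ∀ z : P, z ∉ l → z ≠ d := fun z hz e => hz (e ▸ hdl)
  let x' : {z : P // z ∈ m ∧ z ≠ d} := ⟨x, hx, hne x hxl⟩
  letI := flAction (l := l) hdm
  have hinj : Function.Injective fun g : A => (⟨g.1, hA g.2⟩ : flGroup d l) • x' := fun g h e => by
    have := (inv_mul_eq_one.mp (fl_free hdl hdm hml
      ((⟨h.1, hA h.2⟩ : flGroup d l)⁻¹ * ⟨g.1, hA g.2⟩) x'
      (by rw [mul_smul]; exact inv_smul_eq_iff.mpr e))).symm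
    exact Subtype.ext (congrArg Subtype.val this :)
  have hb := hinj.bijective_of_nat_card_le (by rw [hcard, card_line_sdiff hdm])
  obtain ⟨g, hg⟩ := hb.2 ⟨y, hy, hne y hyl⟩
  exact ⟨g, g.2, congrArg Subtype.val hg⟩

end Cfsg.Agent.OW
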